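import Mathlib
import Cfsg.Agent.H48.SelfRecip

/-! The monic reciprocal of a polynomial, and reciprocals evaluated at an invertible element. -/

set_option autoImplicit false

namespace H44.Cls

open Polynomial

variable {F : Type*} [Field F]

/-- The monic reciprocal polynomial. -/
noncomputable def rp (p : F[X]) : F[X] := C (p.coeff 0)⁻¹ * p.reverse

theorem rp_natDegree {p : F[X]} (h : p.coeff 0 ≠ 0) : (rp p).natDegree = p.natDegree := by
  rw [rp, natDegree_C_mul (inv_ne_zero h), H48.natDegree_reverse_of_coeff h]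

theorem rp_monic {p : F[X]} (h : p.coeff 0 ≠ 0) : (rp p).Monic := by
  show leadingCoeff _ = 1
  rw [rp, leadingCoeff_mul, leadingCoeff_C, reverse_leadingCoeff, trailingCoeff,
    natTrailingDegree_eq_zero.2 (Or.inr h), inv_mul_cancel₀ h]

theorem rp_coeff_zero {p : F[X]} (hp : p.Monic) : (rp p).coeff 0 = (p.coeff 0)⁻¹ := by
  rw [rp, coeff_C_mul, coeff_zero_reverse, hp.leadingCoeff, mul_one]

theorem rp_coeff_zero_ne {p : F[X]} (hp : p.Monic) (h : p.coeff 0 ≠ 0) : (rp p).coeff 0 ≠ 0 := by
  rw [rp_coeff_zero hp]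
  exact inv_ne_zero h

theorem rp_irreducible {p : F[X]} (hp : Irreducible p) (h : p.coeff 0 ≠ 0) : Irreducible (rp p) := by
  rw [rp]
  exact (associated_unit_mul_left _ _ (isUnit_C.2 (inv_ne_zero h).isUnit)).symm.irreducible
    (H48.reverse_irreducible hp h)

theorem rp_mul (p q : F[X]) : rp (p * q) = rp p * rp q := by
  simp only [rp, reverse_mul_of_domain, mul_coeff_zero, mul_inv, map_mul]
  ring

theorem rp_one : rp (1 : F[X]) = 1 := by
  rw [rp, ← C_1, reverse_C, coeff_C_zero, inv_one, ← map_mul, one_mul]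

theorem rp_pow (p : F[X]) (k : ℕ) : rp (p ^ k) = rp p ^ k := by
  induction k with
  | zero => rw [pow_zero, pow_zero, rp_one]
  | succ k ih => rw [pow_succ, rp_mul, ih, pow_succ]

theorem rp_multiset_prod (s : Multiset F[X]) : rp s.prod = (s.map rp).prod := by
  induction s using Multiset.induction with
  | empty => simpa using rp_one
  | cons a s ih => rw [Multiset.prod_cons, rp_mul, ih, Multiset.map_cons, Multiset.prod_cons]

theorem rp_rp {p : F[X]} (hp : p.Monic) (h : p.coeff 0 ≠ 0) : rp (rp p) = p := by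
  conv_lhs => rw [rp, rp_coeff_zero hp, inv_inv, rp, reverse_mul_of_domain, reverse_C,
    H48.reverse_reverse_of_coeff h, ← mul_assoc, ← map_mul, mul_inv_cancel₀ h, map_one, one_mul]

theorem rp_X_sub_C {c : F} (hc : c * c = 1) : rp (X - C c) = X - C c := by
  have h0 : c ≠ 0 := left_ne_zero_of_mul_eq_one hc
  have hci : c⁻¹ = c := inv_eq_of_mul_eq_one_right hc
  have hk : (X - C c).coeff 0 = -c := by simp
  have hne : (X - C c).coeff 0 ≠ 0 := by rw [hk]; exact neg_ne_zero.2 h0
  have hd : (rp (X - C c)).natDegree = 1 := by rw [rp_natDegree hne, natDegree_X_sub_C]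
  rw [(rp_monic hne).eq_X_add_C hd, rp_coeff_zero (monic_X_sub_C c), hk, inv_neg, hci, map_neg,
    ← sub_eq_add_neg]

theorem eval_rp {p : F[X]} {a : F} (ha : a * a = 1) :
    (rp p).eval a = (p.coeff 0)⁻¹ * a ^ p.natDegree * p.eval a := by
  let _ : Invertible a := ⟨a, ha, ha⟩
  have h1 := eval₂_reverse_mul_pow (RingHom.id F) a p
  rw [show ⅟a = a from invOf_eq_right_inv ha, eval₂_id, eval₂_id] at h1
  have h2 : a ^ p.natDegree * a ^ p.natDegree = 1 := by rw [← mul_pow, ha, one_pow]
  rw [rp, eval_mul, eval_C, ← h1, mul_assoc, mul_comm (p.reverse.eval a), ← mul_assoc (a ^ p.natDegree), h2,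
    one_mul]

/-- A self-reciprocal monic polynomial without roots `±1` has even degree and constant term `1`. -/
theorem rp_self_even {p : F[X]} (h2 : (2 : F) ≠ 0) (hp : rp p = p) (h0 : p.coeff 0 ≠ 0)
    (h1 : p.eval 1 ≠ 0) (hn : p.eval (-1) ≠ 0) : Even p.natDegree ∧ p.coeff 0 = 1 := by
  have e1 := eval_rp (p := p) (a := 1) (by ring)
  rw [hp, one_pow, mul_one] at e1
  have hc : p.coeff 0 = 1 := by
    have : ((p.coeff 0)⁻¹ - 1) * p.eval 1 = 0 := by rw [sub_mul, one_mul, ← e1, sub_self]
    rcases mul_eq_zero.1 this with h | h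
    · exact inv_eq_one.1 (sub_eq_zero.1 h)
    · exact absurd h h1
  refine ⟨?_, hc⟩
  rcases Nat.even_or_odd p.natDegree with he | ho
  · exact he
  · have e2 := eval_rp (p := p) (a := -1) (by ring)
    rw [hp, hc, inv_one, one_mul, ho.neg_one_pow] at e2
    have : (2 : F) * p.eval (-1) = 0 := by linear_combination e2
    exact absurd this (mul_ne_zero h2 hn)

theorem aeval_reflect {A : Type*} [Ring A] [Algebra F A] {g gi : A} (h : g * gi = 1) {N : ℕ}
    {p : F[X]} (hp : p.natDegree ≤ N) :
    aeval g (reflect N p) = g ^ N * aeval gi p := by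
  revert hp
  revert p
  intro p hp
  refine induction_with_natDegree_le (fun p => aeval g (reflect N p) = g ^ N * aeval gi p) N ?_ ?_ ?_ p hp
  · simp
  · intro k c _ hk
    have hpow : ∀ j, g ^ j * gi ^ j = 1 := by
      intro j
      induction j with
      | zero => simp
      | succ j ih => rw [pow_succ g, pow_succ' gi, mul_assoc, ← mul_assoc g, h, one_mul, ih]
    rw [reflect_C_mul_X_pow, revAt_le hk, aeval_mul, aeval_mul, aeval_C, aeval_X_pow, aeval_C,
      aeval_X_pow, ← mul_assoc, ← Algebra.commutes c (g ^ N), mul_assoc]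
    congr 1
    conv_rhs => rw [show N = (N - k) + k by omega, pow_add, mul_assoc, hpow, mul_one]
  · intro f e _ _ hf he
    simp only [reflect_add, map_add, hf, he, mul_add]

theorem aeval_rp {A : Type*} [Ring A] [Algebra F A] {g gi : A} (h : g * gi = 1) (p : F[X]) :
    aeval g (rp p) = (p.coeff 0)⁻¹ • (g ^ p.natDegree * aeval gi p) := by
  rw [rp, aeval_mul, aeval_C, ← Algebra.smul_def, reverse, aeval_reflect h le_rfl]

end H44.Cls
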