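import Mathlib
import Cfsg.Agent.H44.Cls.Poly

/-! Isometries of nondegenerate `ε`-symmetric bilinear spaces: sums, restrictions, scaling. -/

set_option autoImplicit false

namespace H44.Cls

open Polynomial

universe u

variable {F : Type u} [Field F] {ε : F}

/-- A nondegenerate `ε`-symmetric space with an isometry. -/
structure Tri (F : Type u) [Field F] (ε : F) : Type (u + 1) where
  V : Type u
  [acg : AddCommGroup V]
  [mod : Module F V]
  [fd : FiniteDimensional F V]
  B : LinearMap.BilinForm F V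
  g : Module.End F V
  sym : ∀ x y, B y x = ε * B x y
  nd : ∀ x, (∀ y, B x y = 0) → x = 0
  iso : ∀ x y, B (g x) (g y) = B x y

attribute [instance] Tri.acg Tri.mod Tri.fd

namespace Tri

variable (T T' : Tri F ε)

/-- Isometric equivalence. -/
def Eqv : Prop :=
  ∃ e : T.V ≃ₗ[F] T'.V, (∀ x, e (T.g x) = T'.g (e x)) ∧ ∀ x y, T'.B (e x) (e y) = T.B x y

variable {T T'}

theorem Eqv.refl (T : Tri F ε) : T.Eqv T := ⟨LinearEquiv.refl F _, fun _ => rfl, fun _ _ => rfl⟩

theorem Eqv.symm (h : T.Eqv T') : T'.Eqv T := by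
  obtain ⟨e, h1, h2⟩ := h
  refine ⟨e.symm, fun x => e.injective ?_, fun x y => ?_⟩
  · rw [h1, e.apply_symm_apply, e.apply_symm_apply]
  · rw [← h2, e.apply_symm_apply, e.apply_symm_apply]

theorem Eqv.trans {T'' : Tri F ε} (h : T.Eqv T') (h' : T'.Eqv T'') : T.Eqv T'' := by
  obtain ⟨e, h1, h2⟩ := h
  obtain ⟨f, h3, h4⟩ := h'
  exact ⟨e.trans f, fun x => by simp [h1, h3], fun x y => by simp [h2, h4]⟩

variable (T T')

/-- Orthogonal sum. -/
def sum : Tri F ε where
  V := T.V × T'.V
  B := LinearMap.compl₁₂ T.B (LinearMap.fst F _ _) (LinearMap.fst F _ _) +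
    LinearMap.compl₁₂ T'.B (LinearMap.snd F _ _) (LinearMap.snd F _ _)
  g := T.g.prodMap T'.g
  sym x y := by
    simp only [LinearMap.add_apply, LinearMap.compl₁₂_apply, LinearMap.fst_apply, LinearMap.snd_apply,
      T.sym x.1 y.1, T'.sym x.2 y.2]
    ring
  nd x hx := by
    refine Prod.ext (T.nd _ fun y => ?_) (T'.nd _ fun y => ?_)
    · simpa using hx (y, 0)
    · simpa using hx (0, y)
  iso x y := by simp [T.iso, T'.iso]

theorem sum_B (x y : T.V × T'.V) : (T.sum T').B x y = T.B x.1 y.1 + T'.B x.2 y.2 := rfl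

theorem sum_g (x : T.V × T'.V) : (T.sum T').g x = (T.g x.1, T'.g x.2) := rfl

variable {T T'}

theorem Eqv.sum {S S' : Tri F ε} (h : T.Eqv S) (h' : T'.Eqv S') : (T.sum T').Eqv (S.sum S') := by
  obtain ⟨e, h1, h2⟩ := h
  obtain ⟨f, h3, h4⟩ := h'
  refine ⟨(LinearEquiv.prodCongr e f : (T.V × T'.V) ≃ₗ[F] (S.V × S'.V)), fun x => ?_, fun x y => ?_⟩
  · show ((e (T.g x.1), f (T'.g x.2)) : S.V × S'.V) = (S.g (e x.1), S'.g (f x.2))
    rw [h1, h3]
  · show S.B (e x.1) (e y.1) + S'.B (f x.2) (f y.2) = T.B x.1 y.1 + T'.B x.2 y.2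
    rw [h2, h4]

theorem sum_comm_left (A B C : Tri F ε) : (A.sum (B.sum C)).Eqv (B.sum (A.sum C)) := by
  let e : (A.V × B.V × C.V) ≃ₗ[F] (B.V × A.V × C.V) :=
    { toFun := fun x => (x.2.1, x.1, x.2.2)
      invFun := fun x => (x.2.1, x.1, x.2.2)
      left_inv := fun _ => rfl
      right_inv := fun _ => rfl
      map_add' := fun _ _ => rfl
      map_smul' := fun _ _ => rfl }
  refine ⟨e, fun x => rfl, fun x y => ?_⟩
  show B.B x.2.1 y.2.1 + (A.B x.1 y.1 + C.B x.2.2 y.2.2) = A.B x.1 y.1 + (B.B x.2.1 y.2.1 + C.B x.2.2 y.2.2)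
  ring

theorem sum_assoc (A B C : Tri F ε) : ((A.sum B).sum C).Eqv (A.sum (B.sum C)) := by
  refine ⟨(LinearEquiv.prodAssoc F A.V B.V C.V : ((A.V × B.V) × C.V) ≃ₗ[F] A.V × B.V × C.V),
    fun x => rfl, fun x y => ?_⟩
  show A.B x.1.1 y.1.1 + (B.B x.1.2 y.1.2 + C.B x.2 y.2) = A.B x.1.1 y.1.1 + B.B x.1.2 y.1.2 + C.B x.2 y.2
  ring

variable (T) in
/-- The same isometry for a multiple of the form. -/
def scale {c : F} (hc : c ≠ 0) : Tri F ε where
  V := T.V
  B := c • T.B
  g := T.g
  sym x y := by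
    show c * T.B y x = ε * (c * T.B x y)
    rw [T.sym x y]; ring
  nd x hx := T.nd x fun y => (mul_eq_zero.1 (hx y)).resolve_left hc
  iso x y := by
    show c * T.B (T.g x) (T.g y) = c * T.B x y
    rw [T.iso]

theorem scale_B {c : F} (hc : c ≠ 0) (x y : T.V) : (T.scale hc).B x y = c * T.B x y := rfl

theorem Eqv.scale {c : F} (hc : c ≠ 0) (h : T.Eqv T') : (T.scale hc).Eqv (T'.scale hc) := by
  obtain ⟨e, h1, h2⟩ := h
  exact ⟨e, h1, fun x y => congrArg (fun t => c * t) (h2 x y)⟩

variable (T)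

theorem g_injective : Function.Injective T.g := by
  rw [← LinearMap.ker_eq_bot, LinearMap.ker_eq_bot']
  exact fun x hx => T.nd x fun y => by rw [← T.iso, hx, map_zero, LinearMap.zero_apply]

/-- The isometry as an equivalence. -/
noncomputable def gE : T.V ≃ₗ[F] T.V := LinearEquiv.ofInjectiveEndo T.g T.g_injective

/-- The inverse isometry. -/
noncomputable def gi : Module.End F T.V := T.gE.symm.toLinearMap

theorem g_gi (x : T.V) : T.g (T.gi x) = x := T.gE.apply_symm_apply x

theorem gi_g (x : T.V) : T.gi (T.g x) = x := T.gE.symm_apply_apply x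

theorem g_mul_gi : T.g * T.gi = 1 := LinearMap.ext T.g_gi

theorem gi_mul_g : T.gi * T.g = 1 := LinearMap.ext T.gi_g

theorem nd_right (y : T.V) (hy : ∀ x, T.B x y = 0) : y = 0 :=
  T.nd y fun x => by rw [T.sym x y, hy x, mul_zero]

theorem adj_g (x y : T.V) : T.B (T.g x) y = T.B x (T.gi y) := by
  conv_lhs => rw [← T.g_gi y, T.iso]

theorem adj_pow (k : ℕ) (x y : T.V) : T.B ((T.g ^ k) x) y = T.B x ((T.gi ^ k) y) := by
  induction k generalizing x y with
  | zero => simp
  | succ k ih => rw [pow_succ, pow_succ', Module.End.mul_apply, Module.End.mul_apply, ih, T.adj_g]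

theorem adj (p : F[X]) (x y : T.V) : T.B (aeval T.g p x) y = T.B x (aeval T.gi p y) := by
  induction p using Polynomial.induction_on' with
  | add p q hp hq => simp [map_add, hp, hq]
  | monomial k a =>
    simp [aeval_monomial, Module.End.mul_apply, Module.algebraMap_end_apply, T.adj_pow]

theorem aeval_rp (p : F[X]) :
    aeval T.g (rp p) = (p.coeff 0)⁻¹ • (T.g ^ p.natDegree * aeval T.gi p) :=
  H44.Cls.aeval_rp T.g_mul_gi p

theorem commute_g_aeval_gi (p : F[X]) : Commute T.g (aeval T.gi p) := by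
  have hc : Commute T.g T.gi := T.g_mul_gi.trans T.gi_mul_g.symm
  induction p using Polynomial.induction_on' with
  | add p q hp hq => rw [map_add]; exact hp.add_right hq
  | monomial k a =>
    rw [aeval_monomial]
    exact (Algebra.commute_algebraMap_right a T.g).mul_right (hc.pow_right k)

theorem orth_of_coprime {p q : F[X]} (hco : IsCoprime (rp p) q) {x y : T.V}
    (hx : aeval T.g p x = 0) (hy : aeval T.g q y = 0) : T.B x y = 0 := by
  obtain ⟨a, b, hab⟩ := hco
  have h1 : y = aeval T.g (rp p) (aeval T.g a y) := by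
    have h0 : aeval T.g (1 : F[X]) y = y := by rw [map_one, Module.End.one_apply]
    conv_lhs => rw [← h0, ← hab, map_add,
      map_mul, map_mul, LinearMap.add_apply, Module.End.mul_apply, Module.End.mul_apply, hy, map_zero,
      add_zero, ← Module.End.mul_apply, ← map_mul, mul_comm, map_mul, Module.End.mul_apply]
  have h2 : Commute (T.g ^ p.natDegree) (aeval T.gi p) := (T.commute_g_aeval_gi p).pow_left _
  rw [h1, T.aeval_rp, LinearMap.smul_apply, map_smul, smul_eq_mul, h2.eq, Module.End.mul_apply, ← T.adj, hx,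
    map_zero, LinearMap.zero_apply, mul_zero]

/-- Invariance of a submodule under the isometry. -/
def Stable (M : Submodule F T.V) : Prop := ∀ x ∈ M, T.g x ∈ M

/-- Nondegeneracy of the form on a submodule. -/
def NonDeg (M : Submodule F T.V) : Prop := ∀ x ∈ M, (∀ y ∈ M, T.B x y = 0) → x = 0

/-- The restriction to a stable nondegenerate submodule. -/
def res (M : Submodule F T.V) (hs : T.Stable M) (hn : T.NonDeg M) : Tri F ε where
  V := M
  B := LinearMap.compl₁₂ T.B M.subtype M.subtype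
  g := T.g.restrict hs
  sym x y := T.sym _ _
  nd x hx := Subtype.ext (hn x x.2 fun y hy => hx ⟨y, hy⟩)
  iso x y := T.iso _ _

theorem res_B {M : Submodule F T.V} (hs : T.Stable M) (hn : T.NonDeg M) (x y : M) :
    (T.res M hs hn).B x y = T.B x y := rfl

/-- The orthogonal of a submodule. -/
def perp (M : Submodule F T.V) : Submodule F T.V where
  carrier := {x | ∀ y ∈ M, T.B y x = 0}
  add_mem' hx hy z hz := by rw [map_add, hx z hz, hy z hz, add_zero]
  zero_mem' := fun z _ => map_zero _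
  smul_mem' c x hx z hz := by rw [map_smul, hx z hz, smul_zero]

theorem mem_perp {M : Submodule F T.V} {x : T.V} : x ∈ T.perp M ↔ ∀ y ∈ M, T.B y x = 0 := Iff.rfl

variable {T}

theorem Stable.gi_mem {M : Submodule F T.V} (hs : T.Stable M) {x : T.V} (hx : x ∈ M) : T.gi x ∈ M := by
  have hinj : Function.Injective (T.g.restrict hs) := fun a b h =>
    Subtype.ext (T.g_injective (congrArg Subtype.val h))
  obtain ⟨y, hy⟩ := LinearMap.surjective_of_injective hinj ⟨x, hx⟩
  have : T.g y.1 = x := congrArg Subtype.val hy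
  rw [← this, T.gi_g]
  exact y.2

theorem Stable.perp {M : Submodule F T.V} (hs : T.Stable M) : T.Stable (T.perp M) := fun x hx y hy => by
  rw [← T.g_gi y, T.iso]
  exact hx _ (hs.gi_mem hy)

theorem exists_split {M : Submodule F T.V} (hn : T.NonDeg M) (v : T.V) :
    ∃ x ∈ M, v - x ∈ T.perp M := by
  let Φ : M →ₗ[F] Module.Dual F M := (LinearMap.compl₁₂ T.B M.subtype M.subtype).flip
  have hinj : Function.Injective Φ := by
    rw [← LinearMap.ker_eq_bot, LinearMap.ker_eq_bot']
    intro x hx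
    refine Subtype.ext (hn x x.2 fun y hy => ?_)
    have h0 : T.B y x = 0 := LinearMap.congr_fun hx ⟨y, hy⟩
    rw [T.sym y x, h0, mul_zero]
  obtain ⟨x, hx⟩ := (LinearMap.injective_iff_surjective_of_finrank_eq_finrank
    (Subspace.dual_finrank_eq).symm).1 hinj ((T.B.flip v).comp M.subtype)
  refine ⟨x, x.2, fun y hy => ?_⟩
  have : T.B y x = T.B y v := LinearMap.congr_fun hx ⟨y, hy⟩
  rw [map_sub, this, sub_self]

theorem nonDeg_perp {M : Submodule F T.V} (hn : T.NonDeg M) : T.NonDeg (T.perp M) := by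
  intro x hx h
  refine T.nd x fun v => ?_
  obtain ⟨z, hz, hv⟩ := exists_split hn v
  rw [show v = z + (v - z) by abel, map_add, h _ hv, add_zero, T.sym z x, hx z hz, mul_zero]

theorem B_add_add_of_orth {a b a' b' : T.V} (h1 : T.B a' b = 0) (h2 : T.B a b' = 0) :
    T.B (a + b) (a' + b') = T.B a a' + T.B b b' := by
  simp only [map_add, LinearMap.add_apply, h2, T.sym a' b, h1]
  ring

theorem eqv_sum_res {M : Submodule F T.V} (hs : T.Stable M) (hn : T.NonDeg M) :
    T.Eqv ((T.res M hs hn).sum (T.res (T.perp M) hs.perp (nonDeg_perp hn))) := by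
  let e : (M × T.perp M) →ₗ[F] T.V := M.subtype.coprod (T.perp M).subtype
  have hb : Function.Bijective e := by
    refine ⟨?_, fun v => ?_⟩
    · rw [← LinearMap.ker_eq_bot, LinearMap.ker_eq_bot']
      rintro ⟨⟨a, ha⟩, ⟨b, hb⟩⟩ hab
      have hab' : a + b = 0 := hab
      have ha0 : a = 0 := hn a ha fun y hy => by
        rw [eq_neg_of_add_eq_zero_left hab', map_neg, LinearMap.neg_apply, T.sym y b, hb y hy, mul_zero, neg_zero]
      subst ha0
      rw [zero_add] at hab'
      subst hab'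
      rfl
    · obtain ⟨x, hx, hv⟩ := exists_split hn v
      exact ⟨(⟨x, hx⟩, ⟨v - x, hv⟩), show x + (v - x) = v by abel⟩
  refine Eqv.symm ⟨(LinearEquiv.ofBijective e hb : (M × T.perp M) ≃ₗ[F] T.V), fun x => ?_, fun x y => ?_⟩
  · show (T.g x.1.1 + T.g x.2.1 : T.V) = T.g (x.1.1 + x.2.1)
    rw [map_add]
  · show T.B (x.1.1 + x.2.1) (y.1.1 + y.2.1) = T.B x.1.1 y.1.1 + T.B x.2.1 y.2.1
    exact B_add_add_of_orth (x.2.2 y.1.1 y.1.2) (y.2.2 x.1.1 x.1.2)

end Tri

end H44.Cls
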