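import Mathlib
import Cfsg.Agent.H44.Cls.Triple

/-! Two invariant forms with the same socle form are equivalent; pairs of totally isotropic halves. -/

set_option autoImplicit false

namespace H44.Cls

open Polynomial

universe u

variable {F : Type u} [Field F] {ε : F}

/-- A square root of `X` modulo a power of `X - 1`. -/
theorem exists_sqrt_poly (h2 : (2 : F) ≠ 0) (N : ℕ) :
    ∃ f : F[X], f.eval 1 = 1 ∧ (X - 1) ^ (N + 1) ∣ f ^ 2 - X := by
  induction N with
  | zero =>
    refine ⟨1, eval_one, ?_⟩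
    rw [zero_add, pow_one]
    exact ⟨-1, by ring⟩
  | succ N ih =>
    obtain ⟨f, hf, h, hh⟩ := ih
    set c : F := -(h.eval 1) / 2 with hc
    refine ⟨f + C c * (X - 1) ^ (N + 1), by simp [hf], ?_⟩
    have e : (f + C c * (X - 1) ^ (N + 1)) ^ 2 - X =
        (X - 1) ^ (N + 1) * (h + 2 * C c * f + C c ^ 2 * (X - 1) ^ (N + 1)) := by
      linear_combination hh
    rw [e, pow_succ (X - 1 : F[X]) (N + 1)]
    refine mul_dvd_mul_left _ ?_
    rw [← C_1, dvd_iff_isRoot, IsRoot.def]
    simp [hf, hc]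
    field_simp
    ring

namespace Tri

variable {T T' : Tri F ε}

theorem B_symm' (hε : ε * ε = 1) (T : Tri F ε) (x y : T.V) : T.B x y = ε * T.B y x := by
  rw [T.sym x y, ← mul_assoc, hε, one_mul]

/-- Forms agreeing on the socle of a free module are equivalent. -/
theorem eqv_of_socle (h2 : (2 : F) ≠ 0) (hε : ε * ε = 1) {i : ℕ} (P : F[X]) (e : T.V ≃ₗ[F] T'.V)
    (he : ∀ x, e (T.g x) = T'.g (e x)) (hP : aeval T.g (P ^ i) = 0)
    (hfree : ∀ x, aeval T.g (P ^ (i - 1)) x = 0 → ∃ z, x = aeval T.g P z)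
    (hsoc : ∀ x y, T'.B (e (aeval T.g (P ^ (i - 1)) x)) (e y) = T.B (aeval T.g (P ^ (i - 1)) x) y) :
    T.Eqv T' := by
  set ψ := aeval T.g (P ^ (i - 1)) with hψ
  have hnd : LinearMap.BilinForm.Nondegenerate T.B := ⟨T.nd, T.nd_right⟩
  let Φ := LinearMap.BilinForm.toDual T.B hnd
  let B' : LinearMap.BilinForm F T.V := LinearMap.compl₁₂ T'.B e.toLinearMap e.toLinearMap
  let a : Module.End F T.V := Φ.symm.toLinearMap ∘ₗ B'
  have ha : ∀ x y, T.B (a x) y = T'.B (e x) (e y) := fun x y => by
    exact LinearMap.BilinForm.apply_toDual_symm_apply (hB := hnd) (B' x) y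
  have hext : ∀ u v : T.V, (∀ y, T.B u y = T.B v y) → u = v := fun u v h =>
    sub_eq_zero.1 (T.nd _ fun y => by rw [map_sub, LinearMap.sub_apply, h y, sub_self])
  have hadj : ∀ x y, T.B (a x) y = T.B x (a y) := fun x y => by
    rw [T.B_symm' hε x (a y), ha, ha, ← T'.B_symm' hε]
  have hag : Commute a T.g := LinearMap.ext fun x => hext _ _ fun y => by
    rw [Module.End.mul_apply, Module.End.mul_apply, ha, he, T.adj_g, ha]
    conv_lhs => rw [← T.g_gi y, he, T'.iso]
  have hap : ∀ p : F[X], Commute (a - 1) (aeval T.g p) := fun p =>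
    (Algebra.commute_of_mem_adjoin_singleton_of_commute (aeval_mem_adjoin_singleton F T.g) hag).sub_left
      (Commute.one_left _)
  have hker : ∀ x, ψ ((a - 1) x) = 0 := fun x => by
    rw [show ψ ((a - 1) x) = (a - 1) (ψ x) from (LinearMap.congr_fun (hap _).eq x).symm]
    refine hext _ _ fun y => ?_
    rw [LinearMap.sub_apply, Module.End.one_apply, map_sub, LinearMap.sub_apply, ha, map_zero,
      LinearMap.zero_apply, hψ, hsoc, sub_self]
  have hnil : ∀ (k : ℕ) (x : T.V), ∃ z, ((a - 1) ^ k) x = aeval T.g (P ^ k) z := by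
    intro k
    induction k with
    | zero => exact fun x => ⟨x, by simp⟩
    | succ k ih =>
      intro x
      obtain ⟨z, hz⟩ := ih x
      obtain ⟨w, hw⟩ := hfree _ (hker z)
      refine ⟨w, ?_⟩
      rw [pow_succ', Module.End.mul_apply, hz, ← Module.End.mul_apply (a - 1), (hap _).eq, Module.End.mul_apply, hw,
        ← Module.End.mul_apply, ← map_mul, ← pow_succ]
  have hai : (a - 1) ^ i = 0 := LinearMap.ext fun x => by
    obtain ⟨z, hz⟩ := hnil i x
    rw [hz, hP, LinearMap.zero_apply, LinearMap.zero_apply]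
  obtain ⟨f, -, hf⟩ := exists_sqrt_poly h2 i
  set b := aeval a f with hb
  have hbb : b * b = a := by
    obtain ⟨r, hr⟩ := hf
    have := congrArg (aeval a) hr
    rw [map_sub, map_mul, map_pow, map_pow, map_sub, aeval_X, map_one, pow_succ (a - 1) i, hai, zero_mul,
      zero_mul, sub_eq_zero] at this
    rw [hb, ← pow_two, this]
  have hbadj : ∀ x y, T.B (b x) y = T.B x (b y) := by
    rw [hb]
    clear hbb hb hf
    induction f using Polynomial.induction_on' with
    | add p q hp hq => intro x y; simp [map_add, hp, hq]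
    | monomial k c =>
      have hk : ∀ (k : ℕ) (x y : T.V), T.B ((a ^ k) x) y = T.B x ((a ^ k) y) := by
        intro k
        induction k with
        | zero => simp
        | succ k ih =>
          intro x y
          rw [pow_succ, Module.End.mul_apply, ih, hadj, ← Module.End.mul_apply a, ← pow_succ', pow_succ]
      intro x y
      simp [aeval_monomial, Module.End.mul_apply, Module.algebraMap_end_apply, hk]
  have hbinj : Function.Injective b := by
    rw [← LinearMap.ker_eq_bot, LinearMap.ker_eq_bot']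
    intro x hx
    have h0 : a x = 0 := by rw [← hbb, Module.End.mul_apply, hx, map_zero]
    have h1 : e x = 0 := T'.nd _ fun y => by
      rw [← e.apply_symm_apply y, ← ha, h0, map_zero, LinearMap.zero_apply]
    exact (LinearEquiv.map_eq_zero_iff e).1 h1
  have hbg : Commute b T.g :=
    (Algebra.commute_of_mem_adjoin_singleton_of_commute (aeval_mem_adjoin_singleton F a) hag.symm).symm
  let be := LinearEquiv.ofInjectiveEndo b hbinj
  refine Eqv.symm ⟨e.symm.trans be, fun x => ?_, fun x y => ?_⟩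
  · show b (e.symm (T'.g x)) = T.g (b (e.symm x))
    rw [← Module.End.mul_apply T.g b, ← hbg.eq, Module.End.mul_apply]
    congr 1
    apply e.injective
    rw [he, e.apply_symm_apply, e.apply_symm_apply]
  · show T.B (b (e.symm x)) (b (e.symm y)) = T'.B x y
    rw [← hbadj, ← Module.End.mul_apply, hbb, ha, e.apply_symm_apply, e.apply_symm_apply]

/-- Two spaces split into totally isotropic invariant halves with similar first halves. -/
theorem eqv_of_lagrangian (hε : ε * ε = 1) (U W : Submodule F T.V) (U' W' : Submodule F T'.V)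
    (hU : T.Stable U) (hW : T.Stable W) (hU' : T'.Stable U') (hW' : T'.Stable W')
    (hUW : IsCompl U W) (hUW' : IsCompl U' W')
    (hU0 : ∀ x ∈ U, ∀ y ∈ U, T.B x y = 0) (hW0 : ∀ x ∈ W, ∀ y ∈ W, T.B x y = 0)
    (hU0' : ∀ x ∈ U', ∀ y ∈ U', T'.B x y = 0) (hW0' : ∀ x ∈ W', ∀ y ∈ W', T'.B x y = 0)
    (e : U ≃ₗ[F] U') (he : ∀ x, e (T.g.restrict hU x) = T'.g.restrict hU' (e x)) : T.Eqv T' := by
  let P : U →ₗ[F] Module.Dual F W := LinearMap.compl₁₂ T.B U.subtype W.subtype
  let P' : U' →ₗ[F] Module.Dual F W' := LinearMap.compl₁₂ T'.B U'.subtype W'.subtype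
  have left : ∀ {S : Tri F ε} {X Y : Submodule F S.V}, X ⊔ Y = ⊤ → (∀ x ∈ X, ∀ y ∈ X, S.B x y = 0) →
      ∀ x ∈ X, (∀ y ∈ Y, S.B x y = 0) → x = 0 := by
    intro S X Y hXY h0 x hx h
    refine S.nd x fun v => ?_
    obtain ⟨p, hp, q, hq, rfl⟩ := Submodule.mem_sup.1 (hXY ▸ Submodule.mem_top : v ∈ X ⊔ Y)
    rw [map_add, h0 x hx p hp, h q hq, add_zero]
  have surj : ∀ {S : Tri F ε} {X Y : Submodule F S.V}, IsCompl X Y → (∀ x ∈ X, ∀ y ∈ X, S.B x y = 0) →
      (∀ x ∈ Y, ∀ y ∈ Y, S.B x y = 0) →
      Function.Bijective (LinearMap.compl₁₂ S.B X.subtype Y.subtype) := by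
    intro S X Y hXY hX hY
    have i1 : Function.Injective (LinearMap.compl₁₂ S.B X.subtype Y.subtype) := by
      rw [← LinearMap.ker_eq_bot, LinearMap.ker_eq_bot']
      exact fun x hx => Subtype.ext (left hXY.sup_eq_top hX x x.2 fun y hy => LinearMap.congr_fun hx ⟨y, hy⟩)
    have i2 : Function.Injective (LinearMap.compl₁₂ S.B Y.subtype X.subtype) := by
      rw [← LinearMap.ker_eq_bot, LinearMap.ker_eq_bot']
      exact fun x hx => Subtype.ext (left hXY.symm.sup_eq_top hY x x.2 fun y hy => LinearMap.congr_fun hx ⟨y, hy⟩)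
    have h1 := LinearMap.finrank_le_finrank_of_injective i1
    have h2 := LinearMap.finrank_le_finrank_of_injective i2
    rw [Subspace.dual_finrank_eq] at h1 h2
    exact ⟨i1, (LinearMap.injective_iff_surjective_of_finrank_eq_finrank
      ((le_antisymm h1 h2).trans (Subspace.dual_finrank_eq).symm)).1 i1⟩
  have hb : Function.Bijective P := surj hUW hU0 hW0
  have hb' : Function.Bijective P' := surj hUW' hU0' hW0'
  -- the adjoint map on the second halves
  have hex : ∀ w : W', ∃ z : W, ∀ u : U, T.B u z = T'.B (e u) w := by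
    intro w
    let P2 : W →ₗ[F] Module.Dual F U := (LinearMap.compl₁₂ T.B U.subtype W.subtype).flip
    have hd : Module.finrank F W = Module.finrank F U := by
      have h := LinearEquiv.finrank_eq (LinearEquiv.ofBijective P hb)
      rw [Subspace.dual_finrank_eq] at h
      exact h.symm
    have hi : Function.Injective P2 := by
      rw [← LinearMap.ker_eq_bot, LinearMap.ker_eq_bot']
      intro z hz
      refine Subtype.ext (left hUW.symm.sup_eq_top hW0 z z.2 fun y hy => ?_)
      rw [T.sym y z, show T.B y z = 0 from LinearMap.congr_fun hz ⟨y, hy⟩, mul_zero]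
    obtain ⟨z, hz⟩ := (LinearMap.injective_iff_surjective_of_finrank_eq_finrank
      (hd.trans (Subspace.dual_finrank_eq).symm)).1 hi
        (((T'.B.flip (w : T'.V)).comp U'.subtype).comp e.toLinearMap)
    exact ⟨z, fun u => LinearMap.congr_fun hz u⟩
  choose f hf using hex
  have uniq : ∀ z z' : W, (∀ u : U, T.B u z = T.B u z') → z = z' := fun z z' h => by
    refine Subtype.ext (sub_eq_zero.1 (left hUW.symm.sup_eq_top hW0 _ (W.sub_mem z.2 z'.2) fun y hy => ?_))
    rw [T.sym y _, map_sub, h ⟨y, hy⟩, sub_self, mul_zero]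
  let fl : W' →ₗ[F] W :=
    { toFun := f
      map_add' := fun x y => uniq _ _ fun u => by
        rw [hf, Submodule.coe_add, Submodule.coe_add, map_add, map_add, hf, hf]
      map_smul' := fun c x => uniq _ _ fun u => by
        rw [hf, RingHom.id_apply, Submodule.coe_smul, Submodule.coe_smul, map_smul, map_smul, hf] }
  have hfl : Function.Injective fl := by
    rw [← LinearMap.ker_eq_bot, LinearMap.ker_eq_bot']
    intro w hw
    refine Subtype.ext (left hUW'.symm.sup_eq_top hW0' w w.2 fun y hy => ?_)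
    have h := hf w (e.symm ⟨y, hy⟩)
    rw [show f w = 0 from hw, e.apply_symm_apply, Submodule.coe_zero, map_zero] at h
    rw [T'.sym y w, ← h, mul_zero]
  have hdim : Module.finrank F W' = Module.finrank F W := by
    have h1 := LinearEquiv.finrank_eq (LinearEquiv.ofBijective P hb)
    have h2 := LinearEquiv.finrank_eq (LinearEquiv.ofBijective P' hb')
    rw [Subspace.dual_finrank_eq] at h1 h2
    rw [← h2, ← e.finrank_eq, h1]
  let fe : W' ≃ₗ[F] W := LinearEquiv.ofBijective fl
    ⟨hfl, (LinearMap.injective_iff_surjective_of_finrank_eq_finrank hdim).1 hfl⟩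
  let E : T.V ≃ₗ[F] T'.V := (Submodule.prodEquivOfIsCompl U W hUW).symm.trans
    ((e.prodCongr fe.symm).trans (Submodule.prodEquivOfIsCompl U' W' hUW'))
  have hE : ∀ (u : U) (z : W), E (u + z) = (e u : T'.V) + (fe.symm z : T'.V) := by
    intro u z
    have : (Submodule.prodEquivOfIsCompl U W hUW).symm ((u : T.V) + z) = (u, z) :=
      (LinearEquiv.symm_apply_eq _).2 rfl
    simp only [E, LinearEquiv.trans_apply, this]
    rfl
  have hfe : ∀ (u : U) (z : W), T'.B (e u) (fe.symm z) = T.B u z := fun u z => by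
    rw [← hf (fe.symm z) u]
    exact congrArg (fun t : W => T.B u t) (fe.apply_symm_apply z)
  have hsplit : ∀ x : T.V, ∃ (u : U) (z : W), x = u + z := fun x => by
    obtain ⟨p, hp, q, hq, rfl⟩ :=
      Submodule.mem_sup.1 (hUW.sup_eq_top ▸ Submodule.mem_top : x ∈ U ⊔ W)
    exact ⟨⟨p, hp⟩, ⟨q, hq⟩, rfl⟩
  refine ⟨E, fun x => ?_, fun x y => ?_⟩
  · obtain ⟨u, z, rfl⟩ := hsplit x
    rw [hE, map_add T.g, map_add T'.g, show T.g u + T.g z = ((T.g.restrict hU u : U) : T.V) + ((T.g.restrict hW z : W) : T.V) from rfl,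
      hE, he]
    congr 1
    have key : T'.g.restrict hW' (fe.symm z) = fe.symm (T.g.restrict hW z) := by
      refine (LinearEquiv.eq_symm_apply fe).2 (uniq _ _ fun u => ?_)
      obtain ⟨u', rfl⟩ := LinearMap.surjective_of_injective (f := T.g.restrict hU)
        (fun a b h => Subtype.ext (T.g_injective (congrArg Subtype.val h))) u
      refine (hf _ _).trans ?_
      rw [he]
      show T'.B (T'.g (e u')) (T'.g (fe.symm z)) = T.B (T.g u') (T.g z)
      rw [T'.iso, T.iso, hfe]
    exact (congrArg Subtype.val key).symm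
  · obtain ⟨u, z, rfl⟩ := hsplit x
    obtain ⟨u', z', rfl⟩ := hsplit y
    rw [hE, hE]
    simp only [map_add, LinearMap.add_apply]
    rw [hU0' _ (e u).2 _ (e u').2, hW0' _ (fe.symm z).2 _ (fe.symm z').2, hU0 _ u.2 _ u'.2, hW0 _ z.2 _ z'.2,
      hfe, T'.B_symm' hε (fe.symm z : T'.V), hfe, ← T.B_symm' hε]

end Tri

end H44.Cls
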