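import Mathlib
import Cfsg.Agent.H44.Cls.Socle

/-! Cyclic pieces and two-generator pieces are determined up to equivalence. -/

set_option autoImplicit false

namespace H44.Cls

open Polynomial

universe u

variable {F : Type u} [Field F] {ε : F}

namespace Tri

variable {T T' : Tri F ε}

theorem adj' (hε : ε * ε = 1) (T : Tri F ε) (p : F[X]) (x y : T.V) :
    T.B (aeval T.gi p x) y = T.B x (aeval T.g p y) := by
  rw [T.B_symm' hε, ← T.adj, ← T.B_symm' hε]

theorem aeval_mul_apply (T : Tri F ε) (p q : F[X]) (x : T.V) :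
    aeval T.g (p * q) x = aeval T.g p (aeval T.g q x) := by rw [map_mul, Module.End.mul_apply]

theorem aeval_comm_apply (T : Tri F ε) (p q : F[X]) (x : T.V) :
    aeval T.g p (aeval T.g q x) = aeval T.g q (aeval T.g p x) := by
  rw [← T.aeval_mul_apply, mul_comm, T.aeval_mul_apply]

theorem isCoprime_of_not_dvd {φ p : F[X]} (hφ : Irreducible φ) (h : ¬ φ ∣ p) (i : ℕ) :
    IsCoprime p (φ ^ i) := ((hφ.coprime_iff_not_dvd).2 h).symm.pow_right

theorem not_dvd_X {φ : F[X]} (h0 : φ.coeff 0 ≠ 0) (hφ : Irreducible φ) : ¬ φ ∣ X := by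
  intro h
  have := (hφ.associated_of_dvd irreducible_X h).dvd'
  exact h0 (X_dvd_iff.1 this)

theorem exists_gi_poly {φ : F[X]} (hφ : Irreducible φ) (h0 : φ.coeff 0 ≠ 0) {i : ℕ} (hi : 0 < i)
    (T : Tri F ε) (hk : aeval T.g (φ ^ i) = 0) :
    ∃ u : F[X], aeval T.g u = T.gi ∧ AdjoinRoot.mk φ u * AdjoinRoot.root φ = 1 := by
  obtain ⟨a, b, hab⟩ := isCoprime_of_not_dvd hφ (not_dvd_X h0 hφ) i
  refine ⟨a, ?_, ?_⟩
  · have h1 : aeval T.g a * T.g = 1 := by
      have := congrArg (aeval T.g) hab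
      rwa [map_add, map_mul, map_mul, aeval_X, hk, mul_zero, add_zero, map_one] at this
    calc aeval T.g a = aeval T.g a * (T.g * T.gi) := by rw [T.g_mul_gi, mul_one]
      _ = T.gi := by rw [← mul_assoc, h1, one_mul]
  · have := congrArg (AdjoinRoot.mk φ) hab
    rwa [map_add, map_mul, map_mul, AdjoinRoot.mk_X, map_pow, AdjoinRoot.mk_self, zero_pow hi.ne', mul_zero,
      add_zero, map_one] at this

theorem aeval_gi_eq (T : Tri F ε) {u : F[X]} (hu : aeval T.g u = T.gi) (p : F[X]) :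
    aeval T.gi p = aeval T.g (p.comp u) := by rw [aeval_comp, hu]

/-- A cyclic space killed by `φ ^ i` and by no smaller power. -/
structure Cyc (T : Tri F ε) (φ : F[X]) (i : ℕ) (v : T.V) : Prop where
  kill : aeval T.g (φ ^ i) = 0
  gen : ∀ x, ∃ p : F[X], aeval T.g p v = x
  top : aeval T.g (φ ^ (i - 1)) v ≠ 0

theorem pow_dvd_of_kill {φ : F[X]} (hφ : Irreducible φ) {i : ℕ} {v : T.V}
    (hk : aeval T.g (φ ^ i) v = 0) (htop : aeval T.g (φ ^ (i - 1)) v ≠ 0) {p : F[X]}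
    (hp : aeval T.g p v = 0) : φ ^ i ∣ p := by
  suffices ∀ j, j ≤ i → φ ^ j ∣ p from this i le_rfl
  intro j
  induction j with
  | zero => simp
  | succ j ih =>
    intro hj
    obtain ⟨p', rfl⟩ := ih (by omega)
    rw [pow_succ]
    refine mul_dvd_mul_left _ (by_contra fun h => htop ?_)
    obtain ⟨a, b, hab⟩ := isCoprime_of_not_dvd hφ h i
    have : φ ^ (i - 1) = φ ^ (i - 1 - j) * a * (φ ^ j * p') + b * φ ^ (i - 1) * φ ^ i := by
      rw [show φ ^ (i - 1 - j) * a * (φ ^ j * p') = a * p' * (φ ^ (i - 1 - j) * φ ^ j) by ring, ← pow_add,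
        show i - 1 - j + j = i - 1 by omega]
      linear_combination (φ ^ (i - 1)) * hab.symm
    rw [this, map_add, LinearMap.add_apply, T.aeval_mul_apply, hp, map_zero, T.aeval_mul_apply, hk, map_zero,
      add_zero]

section Sigma

variable (φ : F[X]) [Fact (Irreducible φ)]

theorem mk_eq_aeval (p : F[X]) : AdjoinRoot.mk φ p = aeval (AdjoinRoot.root φ) p :=
  (AdjoinRoot.aeval_eq p).symm

theorem root_ne_zero (h0 : φ.coeff 0 ≠ 0) : AdjoinRoot.root φ ≠ 0 := by
  rw [← AdjoinRoot.mk_X, Ne, AdjoinRoot.mk_eq_zero]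
  exact not_dvd_X h0 Fact.out

theorem aeval_root_inv (h0 : φ.coeff 0 ≠ 0) (hs : rp φ = φ) :
    aeval (AdjoinRoot.root φ)⁻¹ φ = 0 := by
  have h := H44.Cls.aeval_rp (F := F) (mul_inv_cancel₀ (root_ne_zero φ h0)) φ
  rw [hs, AdjoinRoot.aeval_eq, AdjoinRoot.mk_self, eq_comm, Algebra.smul_def] at h
  simp only [mul_eq_zero, map_eq_zero, inv_eq_zero, h0, false_or] at h
  exact h.resolve_left (pow_ne_zero _ (root_ne_zero φ h0))

/-- The involution inverting the root. -/
noncomputable def conj (h0 : φ.coeff 0 ≠ 0) (hs : rp φ = φ) : AdjoinRoot φ →ₐ[F] AdjoinRoot φ :=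
  AdjoinRoot.liftAlgHom φ (Algebra.ofId F _) (AdjoinRoot.root φ)⁻¹ (by
    simpa [Polynomial.aeval_def] using aeval_root_inv φ h0 hs)

theorem conj_root (h0 : φ.coeff 0 ≠ 0) (hs : rp φ = φ) :
    conj φ h0 hs (AdjoinRoot.root φ) = (AdjoinRoot.root φ)⁻¹ := AdjoinRoot.liftAlgHom_root _ _ _ _

theorem conj_conj (h0 : φ.coeff 0 ≠ 0) (hs : rp φ = φ) (x : AdjoinRoot φ) :
    conj φ h0 hs (conj φ h0 hs x) = x := by
  have : (conj φ h0 hs).comp (conj φ h0 hs) = AlgHom.id F _ := AdjoinRoot.algHom_ext (by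
    show conj φ h0 hs (conj φ h0 hs (AdjoinRoot.root φ)) = _
    rw [conj_root, map_inv₀, conj_root, inv_inv]
    rfl)
  exact AlgHom.congr_fun this x

/-- Norms from a finite field onto the fixed field of an involution. -/
theorem exists_conj_mul {K : Type*} [Field K] [Finite K] (h2 : (2 : K) ≠ 0) (σ : K →+* K)
    (hσ : ∀ x, σ (σ x) = x) (t : K) (ht : σ t ≠ t) (a : K) (ha : σ a = a) : ∃ s, σ s * s = a := by
  let K0 : Subfield K := RingHom.eqLocusField σ (RingHom.id K)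
  haveI : Finite K0 := Subtype.finite
  cases nonempty_fintype K0
  set d := t - σ t with hd
  have hσd : σ d = -d := by rw [hd, map_sub, hσ]; ring
  have hd0 : d ≠ 0 := sub_ne_zero.2 (Ne.symm ht)
  let D : K0 := ⟨d * d, show σ (d * d) = d * d by rw [map_mul, hσd, neg_mul_neg]⟩
  let A : K0 := ⟨a, ha⟩
  have hodd : Fintype.card K0 % 2 = 1 := by
    refine FiniteField.odd_card_of_char_ne_two fun h => h2 ?_
    have := ringChar.spec K0 2
    rw [h] at this
    have h' : (2 : K0) = 0 := by exact_mod_cast this.2 dvd_rfl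
    exact congrArg Subtype.val h'
  obtain ⟨x, y, hxy⟩ := FiniteField.exists_root_sum_quadratic (R := K0)
    (f := X ^ 2) (g := C (-D) * X ^ 2 + C 0 * X + C (-A)) (degree_X_pow 2)
    (degree_quadratic (neg_ne_zero.2 fun h => mul_ne_zero hd0 hd0 (congrArg Subtype.val h))) hodd
  simp only [eval_pow, eval_X, eval_add, eval_mul, eval_C] at hxy
  have h : (x : K) ^ 2 + (-(d * d) * (y : K) ^ 2 + 0 * (y : K) + -a) = 0 := congrArg Subtype.val hxy
  refine ⟨x + y * d, ?_⟩
  rw [map_add, map_mul, show σ x = x from x.2, show σ y = y from y.2, hσd]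
  linear_combination h

end Sigma

section Cyclic

variable {φ : F[X]} [hirr : Fact (Irreducible φ)] (hm : φ.Monic) {i : ℕ}

/-- The socle functional of a vector. -/
noncomputable def mu (T : Tri F ε) (i : ℕ) (v : T.V) : AdjoinRoot φ →ₗ[F] F :=
  ((T.B (aeval T.g (φ ^ (i - 1)) v)).comp ((LinearMap.applyₗ v).comp (aeval T.g).toLinearMap)).comp
    (AdjoinRoot.modByMonicHom hm)

theorem mu_mk (hs : rp φ = φ) (h0 : φ.coeff 0 ≠ 0) (hi : 0 < i) {v : T.V}
    (hk : aeval T.g (φ ^ i) = 0) (r : F[X]) :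
    mu hm T i v (AdjoinRoot.mk φ r) = T.B (aeval T.g (φ ^ (i - 1)) v) (aeval T.g r v) := by
  show T.B _ (aeval T.g (AdjoinRoot.modByMonicHom hm (AdjoinRoot.mk φ r)) v) = _
  rw [AdjoinRoot.modByMonicHom_mk]
  conv_rhs => rw [← modByMonic_add_div r φ]
  rw [map_add (aeval T.g), LinearMap.add_apply, map_add, T.aeval_mul_apply]
  have h : aeval T.g φ = (φ.coeff 0)⁻¹ • (T.g ^ φ.natDegree * aeval T.gi φ) := by
    rw [← T.aeval_rp, hs]
  rw [h, LinearMap.smul_apply, map_smul, ((T.commute_g_aeval_gi φ).pow_left _).eq, Module.End.mul_apply,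
    ← T.adj, ← T.aeval_mul_apply, ← pow_succ', show i - 1 + 1 = i by omega, hk, LinearMap.zero_apply,
    map_zero, LinearMap.zero_apply, smul_zero, add_zero]

variable (h0 : φ.coeff 0 ≠ 0) (hs : rp φ = φ) (hi : 0 < i)

include hm h0 hs hi

theorem mu_pair (hε : ε * ε = 1) {v : T.V} (hk : aeval T.g (φ ^ i) = 0) (p q : F[X]) :
    T.B (aeval T.g (φ ^ (i - 1)) (aeval T.g p v)) (aeval T.g q v) =
      mu hm T i v (conj φ h0 hs (AdjoinRoot.mk φ p) * AdjoinRoot.mk φ q) := by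
  obtain ⟨u, hu, huk⟩ := exists_gi_poly hirr.out h0 hi T hk
  rw [T.aeval_comm_apply, T.adj, T.aeval_gi_eq hu, ← T.aeval_mul_apply, ← mu_mk hm hs h0 hi hk, map_mul]
  congr 2
  rw [mk_eq_aeval φ (p.comp u), mk_eq_aeval φ p, aeval_comp, ← aeval_algHom_apply, conj_root,
    ← mk_eq_aeval, eq_inv_of_mul_eq_one_left huk]

theorem mu_ne_zero (hε : ε * ε = 1) {v : T.V} (hc : Cyc T φ i v) : mu hm T i v ≠ 0 := fun h =>
  hc.top (T.nd _ fun y => by
    obtain ⟨r, rfl⟩ := hc.gen y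
    rw [← mu_mk hm hs h0 hi hc.kill, h, LinearMap.zero_apply])

/-- The twist of the socle functional under the involution. -/
noncomputable def twist (i : ℕ) : AdjoinRoot φ :=
  conj φ h0 hs (algebraMap F _ ((φ ^ (i - 1)).coeff 0) * ((AdjoinRoot.root φ)⁻¹) ^ (φ ^ (i - 1)).natDegree)

theorem mu_conj (hε : ε * ε = 1) {v : T.V} (hk : aeval T.g (φ ^ i) = 0) (k : AdjoinRoot φ) :
    mu hm T i v (conj φ h0 hs k) = ε * mu hm T i v (twist h0 hs i * k) := by
  obtain ⟨r, rfl⟩ := AdjoinRoot.mk_surjective k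
  obtain ⟨u, hu, huk⟩ := exists_gi_poly hirr.out h0 hi T hk
  set P := φ ^ (i - 1) with hP
  have hP0 : P.coeff 0 ≠ 0 := by
    rw [hP, coeff_zero_eq_eval_zero, eval_pow, ← coeff_zero_eq_eval_zero]; exact pow_ne_zero _ h0
  have hPgi : aeval T.gi P = aeval T.g (C (P.coeff 0) * u ^ P.natDegree * P) := by
    have h := T.aeval_rp P
    rw [show rp P = P by rw [hP, rp_pow, hs]] at h
    have hginv : aeval T.g (u ^ P.natDegree) * T.g ^ P.natDegree = 1 := by
      rw [map_pow, hu]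
      have : Commute T.gi T.g := T.gi_mul_g.trans T.g_mul_gi.symm
      rw [← this.mul_pow, T.gi_mul_g, one_pow]
    rw [map_mul, map_mul, aeval_C]
    conv_rhs => rw [h, mul_assoc, Algebra.mul_smul_comm, Algebra.mul_smul_comm, ← mul_assoc (aeval T.g (u ^ _)),
      hginv, one_mul, ← Algebra.smul_def, smul_smul, inv_mul_cancel₀ hP0, one_smul]
  have e1 := mu_pair hm h0 hs hi hε (v := v) hk r 1
  simp only [map_one, mul_one, Module.End.one_apply] at e1
  rw [← e1, T.sym v, ← T.adj' hε, hPgi, mul_comm _ P, T.aeval_mul_apply, mu_pair hm h0 hs hi hε hk, twist]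
  congr 3
  rw [map_mul, map_pow, AdjoinRoot.mk_C, eq_inv_of_mul_eq_one_left huk]
  rfl

theorem eqv_of_norm (h2 : (2 : F) ≠ 0) (hε : ε * ε = 1) {v : T.V} {v' : T'.V} (hc : Cyc T φ i v)
    (hc' : Cyc T' φ i v') {s : F[X]} (hsd : ¬ φ ∣ s)
    (hμ : ∀ k, mu hm T' i v' (conj φ h0 hs (AdjoinRoot.mk φ s) * AdjoinRoot.mk φ s * k) = mu hm T i v k) :
    T.Eqv T' := by
  have hv'' : ∀ p, aeval T'.g p (aeval T'.g s v') = 0 ↔ φ ^ i ∣ p := by
    intro p
    refine ⟨fun h => ?_, fun ⟨t, ht⟩ => by rw [ht, T'.aeval_mul_apply, hc'.kill, LinearMap.zero_apply]⟩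
    have h1 := pow_dvd_of_kill hirr.out (by rw [hc'.kill, LinearMap.zero_apply]) hc'.top
      (show aeval T'.g (p * s) v' = 0 by rw [T'.aeval_mul_apply, h])
    exact ((isCoprime_of_not_dvd hirr.out hsd i).symm).dvd_of_dvd_mul_right h1
  have hv : ∀ p, aeval T.g p v = 0 ↔ φ ^ i ∣ p := fun p =>
    ⟨pow_dvd_of_kill hirr.out (by rw [hc.kill, LinearMap.zero_apply]) hc.top,
      fun ⟨t, ht⟩ => by rw [ht, T.aeval_mul_apply, hc.kill, LinearMap.zero_apply]⟩
  let f : F[X] →ₗ[F] T.V := (LinearMap.applyₗ v).comp (aeval T.g).toLinearMap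
  let f' : F[X] →ₗ[F] T'.V := (LinearMap.applyₗ (aeval T'.g s v')).comp (aeval T'.g).toLinearMap
  have hf : ∀ p, f p = aeval T.g p v := fun p => rfl
  have hf' : ∀ p, f' p = aeval T'.g p (aeval T'.g s v') := fun p => rfl
  have hsur : Function.Surjective f := hc.gen
  have hsur' : Function.Surjective f' := fun x => by
    obtain ⟨q, rfl⟩ := hc'.gen x
    obtain ⟨a, b, hab⟩ := isCoprime_of_not_dvd hirr.out hsd i
    refine ⟨q * a, ?_⟩
    rw [hf', ← T'.aeval_mul_apply, mul_assoc, show a * s = 1 - b * φ ^ i by rw [← hab]; ring, mul_sub, mul_one,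
      map_sub, LinearMap.sub_apply, ← mul_assoc, T'.aeval_mul_apply (q * b), hc'.kill, LinearMap.zero_apply,
      map_zero, sub_zero]
  have hker : LinearMap.ker f = LinearMap.ker f' := by
    ext p
    rw [LinearMap.mem_ker, LinearMap.mem_ker, hf, hf', hv, hv'']
  let e : T.V ≃ₗ[F] T'.V := (f.quotKerEquivOfSurjective hsur).symm.trans
    ((Submodule.quotEquivOfEq _ _ hker).trans (f'.quotKerEquivOfSurjective hsur'))
  have he : ∀ p, e (f p) = f' p := by
    intro p
    have : (f.quotKerEquivOfSurjective hsur).symm (f p) = Submodule.Quotient.mk p :=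
      (LinearEquiv.symm_apply_eq _).2 rfl
    simp only [e, LinearEquiv.trans_apply, this]
    rfl
  have hg : ∀ p, T.g (f p) = f (X * p) := fun p => by rw [hf, hf, T.aeval_mul_apply, aeval_X]
  refine eqv_of_socle h2 hε φ e (fun x => ?_) hc.kill (fun x hx => ?_) (fun x y => ?_)
  · obtain ⟨p, rfl⟩ := hsur x
    rw [hg, he, he, hf', hf', T'.aeval_mul_apply, aeval_X]
  · obtain ⟨p, rfl⟩ := hsur x
    rw [hf, ← T.aeval_mul_apply, hv] at hx
    have h1 : φ ^ (i - 1) * φ ∣ φ ^ (i - 1) * p := by rwa [← pow_succ, show i - 1 + 1 = i by omega]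
    obtain ⟨t, rfl⟩ := (mul_dvd_mul_iff_left (pow_ne_zero _ hm.ne_zero)).1 h1
    exact ⟨f t, by rw [hf, hf, T.aeval_mul_apply]⟩
  · obtain ⟨p, rfl⟩ := hsur x
    obtain ⟨q, rfl⟩ := hsur y
    have h1 : aeval T.g (φ ^ (i - 1)) (f p) = f (φ ^ (i - 1) * p) := by rw [hf, hf, T.aeval_mul_apply]
    rw [h1, he, he, hf', hf', hf, hf, T.aeval_mul_apply, T'.aeval_mul_apply, ← T'.aeval_mul_apply p,
      ← T'.aeval_mul_apply q, mu_pair hm h0 hs hi hε hc'.kill, mu_pair hm h0 hs hi hε hc.kill, ← hμ,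
      map_mul (AdjoinRoot.mk φ), map_mul (AdjoinRoot.mk φ), map_mul (conj φ h0 hs)]
    congr 1
    ring

theorem exists_fixed_multiplier (hε : ε * ε = 1) {v : T.V} {v' : T'.V} (hc : Cyc T φ i v)
    (hc' : Cyc T' φ i v') :
    ∃ a, a ≠ 0 ∧ conj φ h0 hs a = a ∧ ∀ k, mu hm T' i v' (a * k) = mu hm T i v k := by
  haveI : Module.Finite F (AdjoinRoot φ) := hm.finite_adjoinRoot
  set μ' := mu hm T' i v' with hμ'
  let Φ : AdjoinRoot φ →ₗ[F] Module.Dual F (AdjoinRoot φ) := (LinearMap.mul F (AdjoinRoot φ)).compr₂ μ'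
  have hμ0 : ∀ b, (∀ k, μ' (b * k) = 0) → b = 0 := fun b h => by
    by_contra hb
    exact mu_ne_zero hm h0 hs hi hε hc' (LinearMap.ext fun k => by
      have := h (b⁻¹ * k)
      rwa [← mul_assoc, mul_inv_cancel₀ hb, one_mul] at this)
  have hinj : Function.Injective Φ := by
    rw [← LinearMap.ker_eq_bot, LinearMap.ker_eq_bot']
    exact fun b hb => hμ0 b fun k => LinearMap.congr_fun hb k
  obtain ⟨a, ha⟩ := (LinearMap.injective_iff_surjective_of_finrank_eq_finrank
    (Subspace.dual_finrank_eq).symm).1 hinj (mu hm T i v)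
  have hk : ∀ k, μ' (a * k) = mu hm T i v k := fun k => LinearMap.congr_fun ha k
  refine ⟨a, ?_, ?_, hk⟩
  · rintro rfl
    exact mu_ne_zero hm h0 hs hi hε hc (LinearMap.ext fun k => by rw [← hk, zero_mul, map_zero]; rfl)
  set w := twist h0 hs i
  have hw : w ≠ 0 := by
    intro h
    refine mu_ne_zero hm h0 hs hi hε hc' (LinearMap.ext fun k => ?_)
    rw [← conj_conj φ h0 hs k, mu_conj hm h0 hs hi hε hc'.kill]
    show ε * μ' (w * _) = 0
    rw [h, zero_mul, map_zero, mul_zero]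
  have key : ∀ k, μ' ((a * w - w * conj φ h0 hs a) * k) = 0 := by
    intro k
    have e1 : μ' (a * conj φ h0 hs k) = ε * μ' (a * (w * k)) := by
      rw [hk, hk, mu_conj hm h0 hs hi hε hc.kill]
    have e2 : μ' (a * conj φ h0 hs k) = ε * μ' (w * (conj φ h0 hs a * k)) := by
      rw [show a * conj φ h0 hs k = conj φ h0 hs (conj φ h0 hs a * k) by rw [map_mul, conj_conj]]
      exact mu_conj hm h0 hs hi hε hc'.kill _
    rw [sub_mul, map_sub, mul_assoc, mul_assoc, sub_eq_zero]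
    exact mul_left_cancel₀ (left_ne_zero_of_mul_eq_one hε) (e1.symm.trans e2)
  have := sub_eq_zero.1 (hμ0 _ key)
  rw [mul_comm a] at this
  exact (mul_left_cancel₀ hw this).symm

/-- A cyclic piece at a self-reciprocal factor other than `X ± 1` is unique. -/
theorem cyc_eqv [Finite F] (h2 : (2 : F) ≠ 0) (hε : ε * ε = 1)
    (hne : AdjoinRoot.root φ * AdjoinRoot.root φ ≠ 1) {v : T.V} {v' : T'.V} (hc : Cyc T φ i v)
    (hc' : Cyc T' φ i v') : T.Eqv T' := by
  haveI : Module.Finite F (AdjoinRoot φ) := hm.finite_adjoinRoot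
  haveI : Finite (AdjoinRoot φ) := Module.finite_of_finite F
  obtain ⟨a, ha0, ha, hk⟩ := exists_fixed_multiplier hm h0 hs hi hε hc hc'
  have h2K : (2 : AdjoinRoot φ) ≠ 0 := by
    rw [← map_ofNat (algebraMap F (AdjoinRoot φ)) 2]; simpa using h2
  obtain ⟨s, hse⟩ := exists_conj_mul h2K (conj φ h0 hs).toRingHom (conj_conj φ h0 hs) (AdjoinRoot.root φ)
    (fun h => hne (by
      change conj φ h0 hs _ = _ at h
      rw [conj_root] at h
      nth_rw 1 [← h]
      exact inv_mul_cancel₀ (root_ne_zero φ h0))) a ha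
  obtain ⟨s, rfl⟩ := AdjoinRoot.mk_surjective s
  refine eqv_of_norm hm h0 hs hi h2 hε hc hc' (s := s) ?_ fun k => ?_
  · intro h
    rw [AdjoinRoot.mk_eq_zero.2 h, mul_zero] at hse
    exact ha0 hse.symm
  · change conj φ h0 hs _ * _ = a at hse
    rw [hse, hk]

end Cyclic

/-- A cyclic piece at `X - c`, `c² = 1`, is determined up to scaling by a nonsquare. -/
theorem cyc_eqv_or_scale [Finite F] (h2 : (2 : F) ≠ 0) (hε : ε * ε = 1) {c : F} (hc1 : c * c = 1) {i : ℕ}
    (hi : 0 < i) {ν : F} (hν0 : ν ≠ 0) (hν : ¬ IsSquare ν) {v : T.V} {v' : T'.V}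
    (hc : Cyc T (X - C c) i v) (hc' : Cyc T' (X - C c) i v') : T.Eqv T' ∨ (T.scale hν0).Eqv T' := by
  haveI : Fact (Irreducible (X - C c)) := ⟨irreducible_X_sub_C c⟩
  have hm := monic_X_sub_C c
  have h0 : (X - C c).coeff 0 ≠ 0 := by
    simpa using left_ne_zero_of_mul_eq_one hc1
  have hs := rp_X_sub_C hc1
  obtain ⟨a, ha0, -, hk⟩ := exists_fixed_multiplier hm h0 hs hi hε hc hc'
  obtain ⟨r, rfl⟩ := AdjoinRoot.mk_surjective a
  have hr : ∀ r : F[X], AdjoinRoot.mk (X - C c) r = algebraMap F _ (r.eval c) := fun r => by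
    rw [AdjoinRoot.algebraMap_eq, ← AdjoinRoot.mk_C, AdjoinRoot.mk_eq_mk, dvd_iff_isRoot]
    simp
  rw [hr] at hk ha0
  set b := r.eval c
  have hb0 : b ≠ 0 := fun h => ha0 (by rw [h, map_zero])
  have hsq : ∀ {S : Tri F ε} {x : S.V}, Cyc S (X - C c) i x →
      (∀ z : F, IsSquare z → z ≠ 0 → (∀ k, z * mu hm T' i v' k = mu hm S i x k) → S.Eqv T') := by
    intro S x hx z hz hz0 h
    obtain ⟨w, rfl⟩ := hz
    refine eqv_of_norm hm h0 hs hi h2 hε hx hc' (s := C w) ?_ fun k => ?_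
    · rw [dvd_iff_isRoot, IsRoot.def, eval_C]
      exact left_ne_zero_of_mul hz0
    · rw [← h, hr, eval_C, AlgHom.commutes, ← map_mul, ← Algebra.smul_def, map_smul, smul_eq_mul]
  have hkb : ∀ k, b * mu hm T' i v' k = mu hm T i v k := fun k => by
    rw [← hk, ← Algebra.smul_def, map_smul, smul_eq_mul]
  by_cases hbs : IsSquare b
  · exact Or.inl (hsq hc b hbs hb0 hkb)
  · have hx : Cyc (T.scale hν0) (X - C c) i v := ⟨hc.kill, hc.gen, hc.top⟩
    refine Or.inr (hsq hx (ν * b) ?_ (mul_ne_zero hν0 hb0) fun k => ?_)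
    · classical
      cases nonempty_fintype F
      have hcar : ringChar F ≠ 2 := fun h => h2 (by
        have := ringChar.Nat.cast_ringChar (R := F)
        rw [h] at this
        exact_mod_cast this)
      rw [← quadraticChar_one_iff_isSquare (mul_ne_zero hν0 hb0), map_mul,
        quadraticChar_neg_one_iff_not_isSquare.2 hν, quadraticChar_neg_one_iff_not_isSquare.2 hbs]
      norm_num
    · rw [mul_assoc, hkb]
      rfl

/-- A space generated by two vectors whose socle form is alternating. -/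
structure Two (T : Tri F ε) (c : F) (i : ℕ) (v w : T.V) : Prop where
  kill : aeval T.g ((X - C c) ^ i) = 0
  gen : ∀ x, ∃ p q : F[X], aeval T.g p v + aeval T.g q w = x
  vv : T.B (aeval T.g ((X - C c) ^ (i - 1)) v) v = 0
  ww : T.B (aeval T.g ((X - C c) ^ (i - 1)) w) w = 0
  vw : T.B (aeval T.g ((X - C c) ^ (i - 1)) v) w ≠ 0

section Two

variable {c : F} (hc1 : c * c = 1) {i : ℕ} (hi : 0 < i)

include hc1 hi

theorem aeval_socle (hk : aeval T.g ((X - C c) ^ i) = 0) (p : F[X]) (z : T.V) :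
    aeval T.g p (aeval T.g ((X - C c) ^ (i - 1)) z) = p.eval c • aeval T.g ((X - C c) ^ (i - 1)) z := by
  obtain ⟨t, ht⟩ := dvd_iff_isRoot.2 (show IsRoot (p - C (p.eval c)) c by simp)
  conv_lhs => rw [show p = t * (X - C c) + C (p.eval c) by rw [mul_comm, ← ht]; ring]
  rw [map_add, LinearMap.add_apply, aeval_C, Module.algebraMap_end_apply, ← T.aeval_mul_apply, mul_assoc,
    ← pow_succ', show i - 1 + 1 = i by omega, T.aeval_mul_apply, hk, LinearMap.zero_apply, map_zero, zero_add]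

theorem socle_pair (hε : ε * ε = 1) (hk : aeval T.g ((X - C c) ^ i) = 0) (p q : F[X]) (x y : T.V) :
    T.B (aeval T.g ((X - C c) ^ (i - 1)) (aeval T.g p x)) (aeval T.g q y) =
      p.eval c * q.eval c * T.B (aeval T.g ((X - C c) ^ (i - 1)) x) y := by
  have h0 : (X - C c).coeff 0 ≠ 0 := by simpa using left_ne_zero_of_mul_eq_one hc1
  haveI : Fact (Irreducible (X - C c)) := ⟨irreducible_X_sub_C c⟩
  obtain ⟨u, hu, huk⟩ := exists_gi_poly (irreducible_X_sub_C c) h0 hi T hk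
  have hu1 : u.eval c = c := by
    rw [← AdjoinRoot.mk_X, ← map_mul, ← map_one (AdjoinRoot.mk (X - C c)), AdjoinRoot.mk_eq_mk,
      dvd_iff_isRoot] at huk
    simp only [IsRoot.def, eval_sub, eval_mul, eval_X, eval_one, sub_eq_zero] at huk
    calc u.eval c = u.eval c * c * c := by rw [mul_assoc, hc1, mul_one]
      _ = c := by rw [huk, one_mul]
  rw [T.aeval_comm_apply, aeval_socle hc1 hi hk, map_smul, LinearMap.smul_apply, ← T.adj' hε,
    T.aeval_gi_eq hu, aeval_socle hc1 hi hk, eval_comp, hu1, map_smul, LinearMap.smul_apply, smul_eq_mul,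
    smul_eq_mul, mul_assoc]

theorem socle_swap (hε : ε * ε = 1) (hk : aeval T.g ((X - C c) ^ i) = 0) (x y : T.V) :
    T.B (aeval T.g ((X - C c) ^ (i - 1)) x) y =
      ε * (-1) ^ (i - 1) * T.B (aeval T.g ((X - C c) ^ (i - 1)) y) x := by
  haveI : Fact (Irreducible (X - C c)) := ⟨irreducible_X_sub_C c⟩
  have h0 : (X - C c).coeff 0 ≠ 0 := by simpa using left_ne_zero_of_mul_eq_one hc1
  obtain ⟨u, hu, huk⟩ := exists_gi_poly (irreducible_X_sub_C c) h0 hi T hk
  have hu1 : u.eval c = c := by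
    rw [← AdjoinRoot.mk_X, ← map_mul, ← map_one (AdjoinRoot.mk (X - C c)), AdjoinRoot.mk_eq_mk,
      dvd_iff_isRoot] at huk
    simp only [IsRoot.def, eval_sub, eval_mul, eval_X, eval_one, sub_eq_zero] at huk
    calc u.eval c = u.eval c * c * c := by rw [mul_assoc, hc1, mul_one]
      _ = c := by rw [huk, one_mul]
  have e : aeval T.gi ((X - C c) ^ (i - 1)) = aeval T.g ((C (-c) * u) ^ (i - 1) * (X - C c) ^ (i - 1)) := by
    rw [map_mul, map_pow, map_pow, map_pow, ← (Commute.mul_pow _ _)]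
    · congr 1
      rw [map_sub, aeval_X, aeval_C, map_mul, aeval_C, hu, map_sub, aeval_X, aeval_C]
      rw [mul_sub, mul_assoc, T.gi_mul_g, mul_one, mul_assoc, ← Algebra.commutes c T.gi, ← mul_assoc,
        ← map_mul, neg_mul, hc1, map_neg, map_neg, map_one, neg_one_mul]
      abel
    · exact (Commute.all _ _).map (aeval T.g)
  rw [T.sym y, ← T.adj' hε, e, T.aeval_mul_apply, aeval_socle hc1 hi hk, map_smul, LinearMap.smul_apply,
    smul_eq_mul, eval_pow, eval_mul, eval_C, hu1, neg_mul, hc1]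
  ring

theorem two_indep (hε : ε * ε = 1) {v w : T.V} (hk : aeval T.g ((X - C c) ^ i) = 0)
    (vv : T.B (aeval T.g ((X - C c) ^ (i - 1)) v) v = 0) (ww : T.B (aeval T.g ((X - C c) ^ (i - 1)) w) w = 0)
    (vw : T.B (aeval T.g ((X - C c) ^ (i - 1)) v) w ≠ 0) {p q : F[X]}
    (h : ∀ a b : F[X], T.B (aeval T.g p v + aeval T.g q w) (aeval T.g a v + aeval T.g b w) = 0) :
    (X - C c) ^ i ∣ p ∧ (X - C c) ^ i ∣ q := by
  set φ := X - C c with hφ
  have wv : T.B (aeval T.g (φ ^ (i - 1)) w) v ≠ 0 := by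
    rw [socle_swap hc1 hi hε hk w v]
    exact mul_ne_zero (mul_ne_zero (left_ne_zero_of_mul_eq_one hε) (pow_ne_zero _ (by simp))) vw
  have h0 : φ.coeff 0 ≠ 0 := by simpa [hφ] using left_ne_zero_of_mul_eq_one hc1
  obtain ⟨u, hu, -⟩ := exists_gi_poly (irreducible_X_sub_C c) h0 hi T hk
  suffices ∀ j, j ≤ i → φ ^ j ∣ p ∧ φ ^ j ∣ q from this i le_rfl
  intro j
  induction j with
  | zero => simp
  | succ j ih =>
    intro hj
    obtain ⟨⟨p', hp⟩, ⟨q', hq⟩⟩ := ih (by omega)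
    have key : ∀ a b : F[X],
        T.B (aeval T.g (φ ^ (i - 1)) (aeval T.g p' v) + aeval T.g (φ ^ (i - 1)) (aeval T.g q' w))
          (aeval T.g a v + aeval T.g b w) = 0 := by
      intro a b
      have hr : aeval T.g (φ ^ (i - 1)) (aeval T.g p' v) + aeval T.g (φ ^ (i - 1)) (aeval T.g q' w) =
          aeval T.g (φ ^ (i - 1 - j)) (aeval T.g p v + aeval T.g q w) := by
        rw [map_add, ← T.aeval_mul_apply, ← T.aeval_mul_apply, ← T.aeval_mul_apply, ← T.aeval_mul_apply, hp, hq,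
          ← mul_assoc, ← mul_assoc, ← pow_add, show i - 1 - j + j = i - 1 by omega]
      rw [hr, T.adj, T.aeval_gi_eq hu, map_add (aeval T.g ((φ ^ (i - 1 - j)).comp u)), ← T.aeval_mul_apply, ← T.aeval_mul_apply]
      exact h _ _
    have k1 := key 1 0
    have k2 := key 0 1
    simp only [map_add, LinearMap.add_apply, map_one, Module.End.one_apply, map_zero, LinearMap.zero_apply,
      add_zero, zero_add] at k1 k2
    have e1 := fun r x y => socle_pair (T := T) hc1 hi hε hk r 1 x y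
    simp only [map_one, Module.End.one_apply, eval_one, mul_one] at e1
    rw [e1, e1, vv, mul_zero, zero_add] at k1
    rw [e1, e1, ww, mul_zero, add_zero] at k2
    rw [hp, hq, pow_succ]
    exact ⟨mul_dvd_mul_left _ (dvd_iff_isRoot.2 ((mul_eq_zero.1 k2).resolve_right vw)),
      mul_dvd_mul_left _ (dvd_iff_isRoot.2 ((mul_eq_zero.1 k1).resolve_right wv))⟩

/-- A two-generator piece with alternating socle form is unique. -/
theorem two_eqv (h2 : (2 : F) ≠ 0) (hε : ε * ε = 1) {v w : T.V} {v' w' : T'.V} (hd : Two T c i v w)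
    (hd' : Two T' c i v' w') : T.Eqv T' := by
  set φ := X - C c with hφ
  set b := T.B (aeval T.g (φ ^ (i - 1)) v) w / T'.B (aeval T'.g (φ ^ (i - 1)) v') w' with hb
  have hb0 : b ≠ 0 := div_ne_zero hd.vw hd'.vw
  let f : F[X] × F[X] →ₗ[F] T.V :=
    ((LinearMap.applyₗ v).comp (aeval T.g).toLinearMap).coprod ((LinearMap.applyₗ w).comp (aeval T.g).toLinearMap)
  let f' : F[X] × F[X] →ₗ[F] T'.V :=
    ((LinearMap.applyₗ (b • v')).comp (aeval T'.g).toLinearMap).coprod
      ((LinearMap.applyₗ w').comp (aeval T'.g).toLinearMap)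
  have hf : ∀ x, f x = aeval T.g x.1 v + aeval T.g x.2 w := fun x => rfl
  have hf' : ∀ x, f' x = aeval T'.g x.1 (b • v') + aeval T'.g x.2 w' := fun x => rfl
  have hsur : Function.Surjective f := fun x => by
    obtain ⟨p, q, rfl⟩ := hd.gen x
    exact ⟨(p, q), rfl⟩
  have hsur' : Function.Surjective f' := fun x => by
    obtain ⟨p, q, rfl⟩ := hd'.gen x
    refine ⟨(C b⁻¹ * p, q), ?_⟩
    rw [hf', T'.aeval_mul_apply, aeval_C, Module.algebraMap_end_apply, map_smul, smul_smul,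
      inv_mul_cancel₀ hb0, one_smul]
  have hkil : ∀ x : F[X] × F[X], (φ ^ i ∣ x.1 ∧ φ ^ i ∣ x.2) → f x = 0 ∧ f' x = 0 := by
    rintro ⟨p, q⟩ ⟨⟨a, rfl⟩, ⟨a', rfl⟩⟩
    have k1 : aeval T.g (φ ^ i) = 0 := hd.kill
    have k2 : aeval T'.g (φ ^ i) = 0 := hd'.kill
    simp only [hf, hf', T.aeval_mul_apply, T'.aeval_mul_apply, map_smul, k1, k2, LinearMap.zero_apply, smul_zero,
      add_zero, and_self]
  have hker : LinearMap.ker f = LinearMap.ker f' := by
    ext ⟨p, q⟩
    rw [LinearMap.mem_ker, LinearMap.mem_ker]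
    constructor
    · intro h
      refine (hkil _ (two_indep hc1 hi hε hd.kill hd.vv hd.ww hd.vw fun x y => ?_)).2
      rw [show aeval T.g p v + aeval T.g q w = 0 from h, map_zero, LinearMap.zero_apply]
    · intro h
      have h1 : aeval T'.g (C b * p) v' + aeval T'.g q w' = 0 := by
        rw [← h, hf', T'.aeval_mul_apply, aeval_C, Module.algebraMap_end_apply, map_smul]
      obtain ⟨i1, i2⟩ := two_indep hc1 hi hε hd'.kill hd'.vv hd'.ww hd'.vw (fun x y => by
        rw [h1, map_zero, LinearMap.zero_apply])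
      exact (hkil (p, q) ⟨(IsUnit.dvd_mul_left (isUnit_C.2 hb0.isUnit)).1 i1, i2⟩).1
  let e : T.V ≃ₗ[F] T'.V := (f.quotKerEquivOfSurjective hsur).symm.trans
    ((Submodule.quotEquivOfEq _ _ hker).trans (f'.quotKerEquivOfSurjective hsur'))
  have he : ∀ x, e (f x) = f' x := by
    intro p
    have : (f.quotKerEquivOfSurjective hsur).symm (f p) = Submodule.Quotient.mk p :=
      (LinearEquiv.symm_apply_eq _).2 rfl
    simp only [e, LinearEquiv.trans_apply, this]
    rfl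
  have hmul : ∀ (a : F[X]) x, aeval T.g a (f x) = f (a * x.1, a * x.2) := fun a x => by
    rw [hf, hf, map_add, T.aeval_mul_apply, T.aeval_mul_apply]
  refine eqv_of_socle h2 hε φ e (fun x => ?_) hd.kill (fun x hx => ?_) (fun x y => ?_)
  · obtain ⟨x, rfl⟩ := hsur x
    have h1 : T.g (f x) = f (X * x.1, X * x.2) := by rw [← hmul, aeval_X]
    rw [h1, he, he, hf', hf', map_add, T'.aeval_mul_apply, T'.aeval_mul_apply, aeval_X]
  · obtain ⟨⟨p, q⟩, rfl⟩ := hsur x
    rw [hmul] at hx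
    obtain ⟨i1, i2⟩ := two_indep hc1 hi hε hd.kill hd.vv hd.ww hd.vw
      (p := φ ^ (i - 1) * p) (q := φ ^ (i - 1) * q) (fun a b => by
        rw [show aeval T.g (φ ^ (i - 1) * p) v + aeval T.g (φ ^ (i - 1) * q) w = 0 from hx, map_zero,
          LinearMap.zero_apply])
    have hne : φ ^ (i - 1) ≠ 0 := pow_ne_zero _ (monic_X_sub_C c).ne_zero
    have red : ∀ r : F[X], φ ^ i ∣ φ ^ (i - 1) * r → φ ∣ r := fun r hr => by
      refine (mul_dvd_mul_iff_left hne).1 ?_
      rwa [← pow_succ, show i - 1 + 1 = i by omega]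
    obtain ⟨p, rfl⟩ := red _ i1
    obtain ⟨q, rfl⟩ := red _ i2
    exact ⟨f (p, q), (hmul φ (p, q)).symm⟩
  · obtain ⟨⟨p, q⟩, rfl⟩ := hsur x
    obtain ⟨⟨p', q'⟩, rfl⟩ := hsur y
    have wv := socle_swap (T := T) hc1 hi hε hd.kill w v
    have wv' := socle_swap (T := T') hc1 hi hε hd'.kill w' v'
    have hbd : b * T'.B (aeval T'.g (φ ^ (i - 1)) v') w' = T.B (aeval T.g (φ ^ (i - 1)) v) w := by
      rw [hb, div_mul_cancel₀ _ hd'.vw]
    rw [hmul, he, he, hf', hf', hf, hf, T.aeval_mul_apply, T.aeval_mul_apply, T'.aeval_mul_apply,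
      T'.aeval_mul_apply, ← map_add, ← map_add]
    simp only [hφ] at hbd
    simp only [hφ, map_add, LinearMap.add_apply, map_smul, LinearMap.smul_apply, smul_eq_mul,
      socle_pair hc1 hi hε hd.kill, socle_pair hc1 hi hε hd'.kill, hd.vv, hd'.vv, hd.ww, hd'.ww, wv, wv', ← hbd]
    ring

end Two

end Tri

end H44.Cls
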