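import Mathlib
import Cfsg.Agent.H41.GLClasses
import Cfsg.Agent.H44.Cls.Piece

/-! Elementary divisors of an isometry. -/

set_option autoImplicit false

namespace H44.Cls

open Polynomial

universe u

variable {F : Type u} [Field F] {ε : F}

theorem kerDim_add (s t : Multiset (F[X] × ℕ)) (p : F[X]) (k : ℕ) :
    H41.kerDim (s + t) p k = H41.kerDim s p k + H41.kerDim t p k := by
  simp [H41.kerDim]

theorem eq_of_kerDim (s t : Multiset (F[X] × ℕ))
    (hs : ∀ x ∈ s, x.1.Monic ∧ Irreducible x.1 ∧ 0 < x.2)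
    (ht : ∀ x ∈ t, x.1.Monic ∧ Irreducible x.1 ∧ 0 < x.2)
    (h : ∀ p : F[X], p.Monic → Irreducible p → ∀ k, H41.kerDim s p k = H41.kerDim t p k) : s = t := by
  classical
  refine Multiset.ext.mpr ?_
  rintro ⟨p, e⟩
  by_cases hp : p.Monic ∧ Irreducible p ∧ 0 < e
  · obtain ⟨hpm, hpi, he⟩ := hp
    obtain ⟨k, rfl⟩ : ∃ k, e = k + 1 := ⟨e - 1, by omega⟩
    have h1 := H41.kerDim_count s p k
    have h2 := H41.kerDim_count t p k
    rw [h p hpm hpi, h p hpm hpi, h p hpm hpi] at h1
    exact Nat.eq_of_mul_eq_mul_left hpi.natDegree_pos (by omega)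
  · rw [Multiset.count_eq_zero_of_notMem (fun hx => hp (hs _ hx)),
      Multiset.count_eq_zero_of_notMem (fun hx => hp (ht _ hx))]

/-- The total degree of elementary divisor data. -/
noncomputable def wt (s : Multiset (F[X] × ℕ)) : ℕ := (s.map fun x => x.1.natDegree * x.2).sum

theorem wt_add (s t : Multiset (F[X] × ℕ)) : wt (s + t) = wt s + wt t := by simp [wt]

theorem wt_pos {x : F[X] × ℕ} {s : Multiset (F[X] × ℕ)} (hx : x ∈ s) (hi : Irreducible x.1) (he : 0 < x.2) :
    0 < wt s :=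
  lt_of_lt_of_le (Nat.mul_pos hi.natDegree_pos he)
    (Multiset.le_sum_of_mem (Multiset.mem_map_of_mem (fun y : F[X] × ℕ => y.1.natDegree * y.2) hx))

theorem eq_of_le_of_wt {s t : Multiset (F[X] × ℕ)} (ht : ∀ x ∈ t, x.1.Monic ∧ Irreducible x.1 ∧ 0 < x.2)
    (hle : s ≤ t) (hw : wt t ≤ wt s) : s = t := by
  obtain ⟨r, rfl⟩ := Multiset.le_iff_exists_add.1 hle
  rw [wt_add] at hw
  rcases Multiset.empty_or_exists_mem r with rfl | ⟨x, hx⟩
  · rw [add_zero]
  · have hx' := ht x (Multiset.mem_add.2 (Or.inr hx))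
    have := wt_pos hx hx'.2.1 hx'.2.2
    omega

namespace Tri

variable (T T' : Tri F ε)

theorem exists_ed : ∃ s : Multiset (F[X] × ℕ),
    (∀ x ∈ s, x.1.Monic ∧ Irreducible x.1 ∧ 0 < x.2) ∧ H41.Similar T.g (H41.modelEnd (H41.edFam s)) := by
  classical
  obtain ⟨N, p, e, hp, hsim⟩ := H41.exists_model T.g
  refine ⟨Finset.univ.val.map fun i => (p i, e i), fun x hx => ?_, hsim.trans (H41.similar_edModel_of_family p e)⟩
  obtain ⟨i, -, rfl⟩ := Multiset.mem_map.mp hx
  exact hp i

/-- The elementary divisors. -/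
noncomputable def ed : Multiset (F[X] × ℕ) := T.exists_ed.choose

theorem ed_prop {x : F[X] × ℕ} (hx : x ∈ T.ed) : x.1.Monic ∧ Irreducible x.1 ∧ 0 < x.2 :=
  T.exists_ed.choose_spec.1 x hx

theorem kdim {p : F[X]} (hp : p.Monic) (hip : Irreducible p) (k : ℕ) :
    Module.finrank F (LinearMap.ker (aeval T.g (p ^ k))) = H41.kerDim T.ed p k := by
  rw [T.exists_ed.choose_spec.2.finrank_ker_aeval]
  exact H41.finrank_ker_edModel _ (fun x hx => ⟨(T.ed_prop hx).1, (T.ed_prop hx).2.1⟩) p hp hip k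

theorem wt_ed : wt T.ed = Module.finrank F T.V := by
  classical
  obtain ⟨e, -⟩ := T.exists_ed.choose_spec.2
  have hmon := H41.edFam_monic T.ed fun x hx => (T.ed_prop hx).1
  haveI : ∀ i, Module.Finite F (AdjoinRoot (H41.edFam T.ed i)) := fun i =>
    (AdjoinRoot.powerBasis (hmon i).ne_zero).finite
  rw [e.finrank_eq]
  exact ((H41.finrank_modelSpace _ fun i => (hmon i).ne_zero).trans
    (H41.sum_natDegree_edFam _ fun x hx => (T.ed_prop hx).1)).symm

theorem coeff_ne_zero {x : F[X] × ℕ} (hx : x ∈ T.ed) : x.1.coeff 0 ≠ 0 := by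
  refine H41.coeff_zero_ne_of_irreducible (T.ed_prop hx).1 (T.ed_prop hx).2.1 fun hX => ?_
  classical
  have h := T.kdim (T.ed_prop hx).1 (T.ed_prop hx).2.1 1
  rw [hX, pow_one, aeval_X, LinearMap.ker_eq_bot.2 T.g_injective, finrank_bot] at h
  have h2 := Multiset.le_sum_of_mem (Multiset.mem_map_of_mem
    (fun y : F[X] × ℕ => if y.1 = X then min 1 y.2 * (X : F[X]).natDegree else 0) hx)
  rw [H41.kerDim] at h
  rw [← h, if_pos hX, natDegree_X] at h2
  have := (T.ed_prop hx).2.2
  omega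

variable {T T'}

theorem ed_eq_of_similar (h : H41.Similar T.g T'.g) : T.ed = T'.ed :=
  eq_of_kerDim _ _ (fun _ => T.ed_prop) (fun _ => T'.ed_prop) fun p hp hip k => by
    rw [← T.kdim hp hip, ← T'.kdim hp hip, h.finrank_ker_aeval]

theorem Eqv.ed_eq (h : T.Eqv T') : T.ed = T'.ed := by
  obtain ⟨e, h1, -⟩ := h
  exact ed_eq_of_similar ⟨e, h1⟩

theorem similar_of_ed_eq (h : T.ed = T'.ed) : H41.Similar T.g T'.g := by
  have h1 := T.exists_ed.choose_spec.2
  have h2 := T'.exists_ed.choose_spec.2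
  change H41.Similar T.g (H41.modelEnd (H41.edFam T.ed)) at h1
  rw [h] at h1
  exact h1.trans h2.symm

theorem scale_ed {c : F} (hc : c ≠ 0) : (T.scale hc).ed = T.ed :=
  ed_eq_of_similar (T := T.scale hc) ⟨LinearEquiv.refl F T.V, fun _ => rfl⟩

theorem aeval_sum (T T' : Tri F ε) (p : F[X]) :
    aeval (T.sum T').g p = (aeval T.g p).prodMap (aeval T'.g p) := by
  induction p using Polynomial.induction_on' with
  | add p q hp hq => rw [map_add, map_add, map_add, hp, hq]; exact LinearMap.ext fun _ => rfl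
  | monomial k a =>
    have hk : (T.sum T').g ^ k = (T.g ^ k).prodMap (T'.g ^ k) := by
      induction k with
      | zero => exact LinearMap.ext fun _ => rfl
      | succ k ih => rw [pow_succ, ih, pow_succ, pow_succ]; exact LinearMap.ext fun _ => rfl
    rw [aeval_monomial, aeval_monomial, aeval_monomial, hk]
    ext x <;> rfl

theorem ed_sum (T T' : Tri F ε) : (T.sum T').ed = T.ed + T'.ed := by
  refine eq_of_kerDim _ _ (fun _ => (T.sum T').ed_prop)
    (fun x hx => (Multiset.mem_add.1 hx).elim T.ed_prop T'.ed_prop) fun p hp hip k => ?_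
  rw [kerDim_add, ← Tri.kdim _ hp hip, ← T.kdim hp hip, ← T'.kdim hp hip, aeval_sum]
  show Module.finrank F (LinearMap.ker ((aeval T.g (p ^ k)).prodMap (aeval T'.g (p ^ k)))) = _
  rw [LinearMap.ker_prodMap]
  refine (LinearEquiv.finrank_eq ?_).trans Module.finrank_prod
  exact
    { toFun := fun x => (⟨x.1.1, x.2.1⟩, ⟨x.1.2, x.2.2⟩)
      invFun := fun x => ⟨(x.1.1, x.2.1), x.1.2, x.2.2⟩
      left_inv := fun _ => rfl
      right_inv := fun _ => rfl
      map_add' := fun _ _ => rfl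
      map_smul' := fun _ _ => rfl }

theorem finrank_ker_le_of_adj (T : Tri F ε) (A A' : Module.End F T.V)
    (h : ∀ x y, T.B (A x) y = T.B x (A' y)) :
    Module.finrank F (LinearMap.ker A') ≤ Module.finrank F (LinearMap.ker A) := by
  let f : LinearMap.ker A' →ₗ[F] Module.Dual F (T.V ⧸ LinearMap.range A) :=
    { toFun := fun y => (LinearMap.range A).liftQ (T.B.flip (y : T.V)) (by
        rintro _ ⟨x, rfl⟩
        show T.B (A x) y = 0
        rw [h, LinearMap.mem_ker.1 y.2, map_zero])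
      map_add' := fun y z => by ext x; simp
      map_smul' := fun c y => by ext x; simp }
  have hf : Function.Injective f := by
    rw [← LinearMap.ker_eq_bot, LinearMap.ker_eq_bot']
    exact fun y hy => Subtype.ext (T.nd_right _ fun x => by
      simpa [f] using LinearMap.congr_fun hy (Submodule.Quotient.mk x))
  have h1 := LinearMap.finrank_le_finrank_of_injective hf
  rw [Subspace.dual_finrank_eq] at h1
  have h2 := (LinearMap.range A).finrank_quotient_add_finrank
  have h3 := A.finrank_range_add_finrank_ker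
  omega

theorem ker_aeval_rp (T : Tri F ε) {p : F[X]} (h0 : p.coeff 0 ≠ 0) :
    LinearMap.ker (aeval T.g (rp p)) = LinearMap.ker (aeval T.gi p) := by
  ext x
  rw [LinearMap.mem_ker, LinearMap.mem_ker, T.aeval_rp, LinearMap.smul_apply, smul_eq_zero,
    or_iff_right (inv_ne_zero h0), Module.End.mul_apply]
  have : Function.Injective (T.g ^ p.natDegree : Module.End F T.V) := by
    rw [Module.End.coe_pow]; exact T.g_injective.iterate _
  exact map_eq_zero_iff _ this

theorem kerDim_rp (hε : ε * ε = 1) (T : Tri F ε) {p : F[X]} (hp : p.Monic) (hip : Irreducible p)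
    (h0 : p.coeff 0 ≠ 0) (k : ℕ) : H41.kerDim T.ed (rp p) k = H41.kerDim T.ed p k := by
  rw [← T.kdim (rp_monic h0) (rp_irreducible hip h0), ← T.kdim hp hip, ← rp_pow,
    T.ker_aeval_rp (by rw [coeff_zero_eq_eval_zero, eval_pow, ← coeff_zero_eq_eval_zero]; exact pow_ne_zero _ h0)]
  exact le_antisymm (T.finrank_ker_le_of_adj _ _ (T.adj _)) (T.finrank_ker_le_of_adj _ _ (T.adj' hε _))

open Classical in
theorem count_rp (hε : ε * ε = 1) (T : Tri F ε) {p : F[X]} (hp : p.Monic) (hip : Irreducible p)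
    (h0 : p.coeff 0 ≠ 0) (e : ℕ) : T.ed.count (rp p, e) = T.ed.count (p, e) := by
  by_cases he : 0 < e
  · obtain ⟨k, rfl⟩ : ∃ k, e = k + 1 := ⟨e - 1, by omega⟩
    have h1 := H41.kerDim_count T.ed p k
    have h2 := H41.kerDim_count T.ed (rp p) k
    rw [kerDim_rp hε T hp hip h0, kerDim_rp hε T hp hip h0, kerDim_rp hε T hp hip h0, rp_natDegree h0] at h2
    exact Nat.eq_of_mul_eq_mul_left hip.natDegree_pos (by omega)
  · rw [Multiset.count_eq_zero_of_notMem (fun h => he (T.ed_prop h).2.2),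
      Multiset.count_eq_zero_of_notMem (fun h => he (T.ed_prop h).2.2)]

theorem mem_rp (hε : ε * ε = 1) (T : Tri F ε) {x : F[X] × ℕ} (hx : x ∈ T.ed) : (rp x.1, x.2) ∈ T.ed := by
  classical
  rw [← Multiset.count_pos, count_rp hε T (T.ed_prop hx).1 (T.ed_prop hx).2.1 (T.coeff_ne_zero hx),
    Multiset.count_pos]
  exact hx

end Tri

end H44.Cls
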