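import Mathlib
import Cfsg.Agent.H44.Cls.Types

/-! Splitting off one piece at a maximal elementary divisor. -/

set_option autoImplicit false

namespace H44.Cls

open Polynomial

universe u

variable {F : Type u} [Field F] {ε : F}

namespace Tri

variable {T : Tri F ε}

theorem B_rp_eq_zero (T : Tri F ε) {p : F[X]} {x : T.V} (hx : aeval T.g p x = 0) (z : T.V) :
    T.B x (aeval T.g (rp p) z) = 0 := by
  rw [T.aeval_rp, LinearMap.smul_apply, map_smul, ((T.commute_g_aeval_gi p).pow_left _).eq, Module.End.mul_apply,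
    ← T.adj, hx, map_zero, LinearMap.zero_apply, smul_zero]

/-- The cyclic subspace. -/
noncomputable def cycSub (T : Tri F ε) (v : T.V) : Submodule F T.V :=
  LinearMap.range ((LinearMap.applyₗ v).comp (aeval T.g).toLinearMap)

theorem mem_cycSub {v x : T.V} : x ∈ T.cycSub v ↔ ∃ p : F[X], aeval T.g p v = x := LinearMap.mem_range

theorem self_mem_cycSub (v : T.V) : v ∈ T.cycSub v := mem_cycSub.2 ⟨1, by simp⟩

theorem cycSub_stable (v : T.V) : T.Stable (T.cycSub v) := by
  intro x hx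
  obtain ⟨p, rfl⟩ := mem_cycSub.1 hx
  exact mem_cycSub.2 ⟨X * p, by rw [T.aeval_mul_apply, aeval_X]⟩

theorem stable_sup {M N : Submodule F T.V} (hM : T.Stable M) (hN : T.Stable N) : T.Stable (M ⊔ N) := by
  intro x hx
  obtain ⟨a, ha, b, hb, rfl⟩ := Submodule.mem_sup.1 hx
  rw [map_add]
  exact Submodule.add_mem_sup (hM a ha) (hN b hb)

theorem finrank_cycSub_le {φ : F[X]} (hm : φ.Monic) (i : ℕ) {v : T.V} (hk : aeval T.g (φ ^ i) v = 0) :
    Module.finrank F (T.cycSub v) ≤ i * φ.natDegree := by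
  haveI : Module.Finite F (AdjoinRoot (φ ^ i)) := (hm.pow i).finite_adjoinRoot
  let f := (LinearMap.applyₗ v).comp ((aeval T.g).toLinearMap.comp (AdjoinRoot.modByMonicHom (hm.pow i)))
  have hle : T.cycSub v ≤ LinearMap.range f := by
    intro x hx
    obtain ⟨p, rfl⟩ := mem_cycSub.1 hx
    refine ⟨AdjoinRoot.mk _ p, ?_⟩
    show aeval T.g (AdjoinRoot.modByMonicHom (hm.pow i) (AdjoinRoot.mk _ p)) v = _
    rw [AdjoinRoot.modByMonicHom_mk]
    conv_rhs => rw [← modByMonic_add_div p (φ ^ i)]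
    rw [map_add, LinearMap.add_apply, mul_comm, T.aeval_mul_apply, hk, map_zero, add_zero]
  refine ((Submodule.finrank_mono hle).trans (LinearMap.finrank_range_le f)).trans ?_
  rw [H41.finrank_adjoinRoot (hm.pow i).ne_zero, hm.natDegree_pow]

/-- The inclusion of a restriction. -/
def inc {M : Submodule F T.V} {hs : T.Stable M} {hn : T.NonDeg M} : (T.res M hs hn).V →ₗ[F] T.V := M.subtype

theorem inc_injective {M : Submodule F T.V} {hs : T.Stable M} {hn : T.NonDeg M} :
    Function.Injective (inc : (T.res M hs hn).V →ₗ[F] T.V) := Subtype.val_injective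

theorem inc_mem {M : Submodule F T.V} {hs : T.Stable M} {hn : T.NonDeg M} (x : (T.res M hs hn).V) :
    inc x ∈ M := Subtype.property (x : M)

theorem inc_g {M : Submodule F T.V} {hs : T.Stable M} {hn : T.NonDeg M} (x : (T.res M hs hn).V) :
    inc ((T.res M hs hn).g x) = T.g (inc x) := rfl

theorem res_B_inc {M : Submodule F T.V} {hs : T.Stable M} {hn : T.NonDeg M} (x y : (T.res M hs hn).V) :
    (T.res M hs hn).B x y = T.B (inc x) (inc y) := rfl

theorem aeval_res {M : Submodule F T.V} (hs : T.Stable M) (hn : T.NonDeg M) (p : F[X]) (x : (T.res M hs hn).V) :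
    inc (aeval (T.res M hs hn).g p x) = aeval T.g p (inc x) := by
  induction p using Polynomial.induction_on' with
  | add p q hp hq =>
    rw [map_add (aeval (T.res M hs hn).g), map_add (aeval T.g), LinearMap.add_apply, LinearMap.add_apply, map_add,
      hp, hq]
  | monomial k a =>
    have hk : ∀ y : (T.res M hs hn).V, inc (((T.res M hs hn).g ^ k) y) = (T.g ^ k) (inc y) := by
      induction k with
      | zero => exact fun y => rfl
      | succ k ih =>
        intro y
        rw [pow_succ, pow_succ, Module.End.mul_apply, Module.End.mul_apply, ih, inc_g]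
    rw [aeval_monomial, aeval_monomial, Module.End.mul_apply, Module.End.mul_apply, Module.algebraMap_end_apply,
      Module.algebraMap_end_apply, map_smul, hk]

theorem pow_dvd_of_pairing {φ : F[X]} (hφ : Irreducible φ) {i : ℕ} {v w : T.V}
    (hk : aeval T.g (φ ^ i) v = 0) {u : F[X]} (hu : aeval T.g u = T.gi)
    (htop : ∃ r : F[X], T.B (aeval T.g (φ ^ (i - 1)) v) (aeval T.g r w) ≠ 0) {p : F[X]}
    (hp : ∀ r : F[X], T.B (aeval T.g p v) (aeval T.g r w) = 0) : φ ^ i ∣ p := by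
  suffices ∀ j, j ≤ i → φ ^ j ∣ p from this i le_rfl
  intro j
  induction j with
  | zero => simp
  | succ j ih =>
    intro hj
    obtain ⟨p', rfl⟩ := ih (by omega)
    rw [pow_succ]
    refine mul_dvd_mul_left _ (by_contra fun h => ?_)
    obtain ⟨r, hr⟩ := htop
    obtain ⟨a, b, hab⟩ := isCoprime_of_not_dvd hφ h i
    have e : φ ^ (i - 1) = φ ^ (i - 1 - j) * a * (φ ^ j * p') + b * φ ^ (i - 1) * φ ^ i := by
      rw [show φ ^ (i - 1 - j) * a * (φ ^ j * p') = a * p' * (φ ^ (i - 1 - j) * φ ^ j) by ring, ← pow_add,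
        show i - 1 - j + j = i - 1 by omega]
      linear_combination (φ ^ (i - 1)) * hab.symm
    apply hr
    rw [e, map_add, LinearMap.add_apply, T.aeval_mul_apply, T.aeval_mul_apply (b * φ ^ (i - 1)), hk, map_zero, add_zero,
      T.adj, T.aeval_gi_eq hu, ← T.aeval_mul_apply]
    exact hp _

/-- `i` is the largest exponent at `φ`. -/
def Max (T : Tri F ε) (φ : F[X]) (i : ℕ) : Prop := (φ, i) ∈ T.ed ∧ ∀ e, (φ, e) ∈ T.ed → e ≤ i

theorem Max.recip (hε : ε * ε = 1) {φ : F[X]} {i : ℕ} (h : T.Max φ i) : T.Max (rp φ) i := by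
  refine ⟨mem_rp hε T (x := (φ, i)) h.1, fun e he => h.2 e ?_⟩
  have := mem_rp hε T (x := (_, e)) he
  rwa [rp_rp (T.ed_prop h.1).1 (T.coeff_ne_zero h.1)] at this

theorem kerDim_stable {φ : F[X]} {i : ℕ} (h : T.Max φ i) {k : ℕ} (hk : i ≤ k) :
    H41.kerDim T.ed φ k = H41.kerDim T.ed φ i := by
  unfold H41.kerDim
  refine congrArg Multiset.sum (Multiset.map_congr rfl fun x hx => ?_)
  split_ifs with hx1
  · have hle := h.2 x.2 (by rw [← hx1]; exact hx)
    rw [Nat.min_eq_right hle, Nat.min_eq_right (hle.trans hk)]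
  · rfl

theorem Max.isCompl {φ : F[X]} {i : ℕ} (h : T.Max φ i) :
    IsCompl (LinearMap.ker (aeval T.g (φ ^ i))) (LinearMap.range (aeval T.g (φ ^ i))) := by
  have hp := (T.ed_prop h.1)
  have hd : Disjoint (LinearMap.ker (aeval T.g (φ ^ i))) (LinearMap.range (aeval T.g (φ ^ i))) := by
    rw [Submodule.disjoint_def]
    rintro _ hx ⟨z, rfl⟩
    have hle : LinearMap.ker (aeval T.g (φ ^ i)) ≤ LinearMap.ker (aeval T.g (φ ^ (i + i))) := fun y hy => by
      rw [LinearMap.mem_ker, pow_add, T.aeval_mul_apply, LinearMap.mem_ker.1 hy, map_zero]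
    have he := Submodule.eq_of_le_of_finrank_eq hle (by
      rw [T.kdim hp.1 hp.2.1, T.kdim hp.1 hp.2.1, kerDim_stable h (Nat.le_add_right i i)])
    have hz : z ∈ LinearMap.ker (aeval T.g (φ ^ (i + i))) := by
      rw [LinearMap.mem_ker, pow_add, T.aeval_mul_apply]
      exact hx
    rw [← he] at hz
    exact hz
  refine ⟨hd, codisjoint_iff.2 (Submodule.eq_top_of_finrank_eq ?_)⟩
  have h1 := Submodule.finrank_sup_add_finrank_inf_eq (LinearMap.ker (aeval T.g (φ ^ i)))
    (LinearMap.range (aeval T.g (φ ^ i)))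
  rw [hd.eq_bot, finrank_bot, add_zero] at h1
  rw [h1, add_comm, LinearMap.finrank_range_add_finrank_ker]

theorem Max.exists_top {φ : F[X]} {i : ℕ} (h : T.Max φ i) :
    ∃ v, aeval T.g (φ ^ i) v = 0 ∧ aeval T.g (φ ^ (i - 1)) v ≠ 0 := by
  by_contra hc
  push Not at hc
  have hp := (T.ed_prop h.1)
  have hle : LinearMap.ker (aeval T.g (φ ^ i)) ≤ LinearMap.ker (aeval T.g (φ ^ (i - 1))) := fun x hx => hc x hx
  have h1 := Submodule.finrank_mono hle
  rw [T.kdim hp.1 hp.2.1, T.kdim hp.1 hp.2.1] at h1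
  refine absurd h1 (not_le.2 ?_)
  classical
  have hi := hp.2.2
  unfold H41.kerDim
  refine Multiset.sum_lt_sum (fun x _ => ?_) ⟨(φ, i), h.1, ?_⟩
  · split_ifs
    · exact Nat.mul_le_mul_right _ (min_le_min_right _ (Nat.sub_le i 1))
    · exact le_rfl
  · simp only [if_true]
    exact Nat.mul_lt_mul_of_pos_right (by simp; omega) hp.2.1.natDegree_pos

theorem Max.exists_partner (hε : ε * ε = 1) {φ : F[X]} {i : ℕ} (h : T.Max φ i) {v : T.V}
    (hk : aeval T.g (φ ^ i) v = 0) (htop : aeval T.g (φ ^ (i - 1)) v ≠ 0) :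
    ∃ w, aeval T.g (Cls.rp φ ^ i) w = 0 ∧ T.B (aeval T.g (φ ^ (i - 1)) v) w ≠ 0 := by
  obtain ⟨y, hy⟩ : ∃ y, T.B (aeval T.g (φ ^ (i - 1)) v) y ≠ 0 := by
    by_contra hc
    push Not at hc
    exact htop (T.nd _ hc)
  obtain ⟨w, hw, r, ⟨z, rfl⟩, rfl⟩ :=
    Submodule.mem_sup.1 ((h.recip hε).isCompl.sup_eq_top ▸ Submodule.mem_top :
      y ∈ LinearMap.ker (aeval T.g (Cls.rp φ ^ i)) ⊔ LinearMap.range (aeval T.g (Cls.rp φ ^ i)))
  refine ⟨w, hw, fun h0 => hy ?_⟩
  rw [map_add, h0, zero_add, ← rp_pow]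
  exact T.B_rp_eq_zero (by rw [T.aeval_comm_apply, hk, map_zero]) z

theorem exists_u {φ : F[X]} {i : ℕ} (h : T.Max φ i) : ∃ u : F[X], aeval T.g u = T.gi := by
  classical
  have h1 : T.g.charpoly.coeff 0 ≠ 0 := fun h0 => by
    have hd := LinearMap.det_eq_sign_charpoly_coeff T.g
    rw [h0, mul_zero] at hd
    exact (LinearEquiv.isUnit_det' T.gE).ne_zero hd
  set m := T.g.charpoly
  refine ⟨C (-(m.coeff 0)⁻¹) * m.divX, ?_⟩
  have h2 : aeval T.g m = 0 := LinearMap.aeval_self_charpoly T.g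
  rw [← m.divX_mul_X_add, map_add, map_mul, aeval_X, aeval_C, add_eq_zero_iff_eq_neg] at h2
  have h3 : aeval T.g (C (-(m.coeff 0)⁻¹) * m.divX) * T.g = 1 := by
    rw [map_mul, aeval_C, mul_assoc, h2, ← map_neg, ← map_mul, neg_mul_neg, inv_mul_cancel₀ h1, map_one]
  calc _ = aeval T.g (C (-(m.coeff 0)⁻¹) * m.divX) * (T.g * T.gi) := by rw [T.g_mul_gi, mul_one]
    _ = T.gi := by rw [← mul_assoc, h3, one_mul]

theorem exists_of_res {M : Submodule F T.V} (hs : T.Stable M) (hn : T.NonDeg M) :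
    T.Eqv ((T.res M hs hn).sum (T.res (T.perp M) hs.perp (nonDeg_perp hn))) ∧
      T.ed = (T.res M hs hn).ed + (T.res (T.perp M) hs.perp (nonDeg_perp hn)).ed :=
  ⟨eqv_sum_res hs hn, by rw [(eqv_sum_res hs hn).ed_eq, ed_sum]⟩

theorem ed_eq_of_weight (T : Tri F ε) {s : Multiset (F[X] × ℕ)} (hle : s ≤ T.ed)
    (hw : Module.finrank F T.V ≤ wt s) : T.ed = s :=
  (eq_of_le_of_wt (fun _ => T.ed_prop) hle (by rwa [T.wt_ed])).symm

theorem mem_ed_of_top (T : Tri F ε) {φ : F[X]} (hm : φ.Monic) (hi : Irreducible φ) {i : ℕ} (hi0 : 0 < i) {v : T.V}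
    (hk : aeval T.g (φ ^ i) v = 0) (htop : aeval T.g (φ ^ (i - 1)) v ≠ 0) : ∃ e, i ≤ e ∧ (φ, e) ∈ T.ed := by
  classical
  by_contra hc
  push Not at hc
  have heq : H41.kerDim T.ed φ i = H41.kerDim T.ed φ (i - 1) := by
    unfold H41.kerDim
    refine congrArg Multiset.sum (Multiset.map_congr rfl fun x hx => ?_)
    split_ifs with hx1
    · have : x.2 < i := by
        by_contra hlt
        exact hc x.2 (by omega) (by rw [← hx1]; exact hx)
      rw [Nat.min_eq_right (by omega), Nat.min_eq_right (by omega)]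
    · rfl
  have hle : LinearMap.ker (aeval T.g (φ ^ (i - 1))) ≤ LinearMap.ker (aeval T.g (φ ^ i)) := fun y hy => by
    rw [LinearMap.mem_ker, show i = 1 + (i - 1) by omega, pow_add, T.aeval_mul_apply, LinearMap.mem_ker.1 hy, map_zero]
  have := Submodule.eq_of_le_of_finrank_eq hle (by rw [T.kdim hm hi, T.kdim hm hi, heq])
  exact htop (LinearMap.mem_ker.1 (this ▸ (LinearMap.mem_ker.2 hk) : v ∈ LinearMap.ker (aeval T.g (φ ^ (i - 1)))))

theorem le_max_of_sum {T1 T2 : Tri F ε} {φ : F[X]} {i : ℕ} (h : T.Max φ i) (hed : T.ed = T1.ed + T2.ed) {e : ℕ}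
    (he : (φ, e) ∈ T1.ed) : e ≤ i := h.2 e (by rw [hed]; exact Multiset.mem_add.2 (Or.inl he))

/-- A piece with two different reciprocal factors. -/
theorem split_pair (hε : ε * ε = 1) {φ : F[X]} {i : ℕ} (h : T.Max φ i) (hne : Cls.rp φ ≠ φ) :
    ∃ T1 T2 : Tri F ε, T.Eqv (T1.sum T2) ∧ T.ed = T1.ed + T2.ed ∧ T1.ed = {(φ, i), (Cls.rp φ, i)} := by
  classical
  obtain ⟨hm, hirr, hi⟩ := T.ed_prop h.1
  have h0 := T.coeff_ne_zero h.1
  obtain ⟨v, hv, hvt⟩ := h.exists_top
  obtain ⟨w, hw, hvw⟩ := h.exists_partner hε hv hvt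
  obtain ⟨u, hu⟩ := exists_u h
  have hmr := rp_monic h0
  have hirr' := rp_irreducible hirr h0
  have hco : IsCoprime φ (Cls.rp φ) := (hirr.coprime_iff_not_dvd).2 fun hd =>
    hne (Polynomial.eq_of_monic_of_associated hmr hm (hirr.associated_of_dvd hirr' hd).symm)
  have hww : ∀ q r : F[X], T.B (aeval T.g q w) (aeval T.g r w) = 0 := fun q r =>
    T.orth_of_coprime (p := Cls.rp φ ^ i) (q := Cls.rp φ ^ i) (by rw [rp_pow, rp_rp hm h0]; exact hco.pow)
      (by rw [T.aeval_comm_apply, hw, map_zero]) (by rw [T.aeval_comm_apply, hw, map_zero])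
  have hvv : ∀ q r : F[X], T.B (aeval T.g q v) (aeval T.g r v) = 0 := fun q r =>
    T.orth_of_coprime (p := φ ^ i) (q := φ ^ i) (by rw [rp_pow]; exact hco.symm.pow)
      (by rw [T.aeval_comm_apply, hv, map_zero]) (by rw [T.aeval_comm_apply, hv, map_zero])
  set M := T.cycSub v ⊔ T.cycSub w
  have hs : T.Stable M := stable_sup (cycSub_stable v) (cycSub_stable w)
  have htw : ∃ r : F[X], T.B (aeval T.g (Cls.rp φ ^ (i - 1)) w) (aeval T.g r v) ≠ 0 := by
    refine ⟨X ^ (φ ^ (i - 1)).natDegree, ?_⟩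
    rw [← rp_pow, T.aeval_rp, LinearMap.smul_apply, map_smul, LinearMap.smul_apply, aeval_X_pow,
      Module.End.mul_apply, smul_eq_mul]
    have hpow : ∀ (k : ℕ) (x y : T.V), T.B ((T.g ^ k) x) ((T.g ^ k) y) = T.B x y := by
      intro k
      induction k with
      | zero => simp
      | succ k ih => intro x y; rw [pow_succ', Module.End.mul_apply, Module.End.mul_apply, T.iso, ih]
    rw [hpow, T.adj' hε, T.sym]
    refine mul_ne_zero (inv_ne_zero ?_) (mul_ne_zero (left_ne_zero_of_mul_eq_one hε) hvw)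
    rw [coeff_zero_eq_eval_zero, eval_pow, ← coeff_zero_eq_eval_zero]
    exact pow_ne_zero _ h0
  have hn : T.NonDeg M := by
    intro x hx hx0
    obtain ⟨_, ha, _, hb, rfl⟩ := Submodule.mem_sup.1 hx
    obtain ⟨p, rfl⟩ := mem_cycSub.1 ha
    obtain ⟨q, rfl⟩ := mem_cycSub.1 hb
    obtain ⟨p', rfl⟩ := pow_dvd_of_pairing hirr hv hu ⟨1, by simpa using hvw⟩ fun r => by
      have := hx0 (aeval T.g r w) (Submodule.mem_sup_right (mem_cycSub.2 ⟨r, rfl⟩))
      rwa [map_add, LinearMap.add_apply, hww, add_zero] at this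
    obtain ⟨q', rfl⟩ := pow_dvd_of_pairing hirr' hw hu htw fun r => by
      have := hx0 (aeval T.g r v) (Submodule.mem_sup_left (mem_cycSub.2 ⟨r, rfl⟩))
      rwa [map_add, LinearMap.add_apply, hvv, zero_add] at this
    rw [mul_comm, T.aeval_mul_apply, hv, map_zero, mul_comm, T.aeval_mul_apply, hw, map_zero, add_zero]
  obtain ⟨he, hed⟩ := exists_of_res hs hn
  refine ⟨_, _, he, hed, ?_⟩
  let v1 : (T.res M hs hn).V := (⟨v, Submodule.mem_sup_left (self_mem_cycSub v)⟩ : M)
  obtain ⟨e, hle, hmem⟩ := (T.res M hs hn).mem_ed_of_top hm hirr hi (v := v1)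
    (inc_injective (((aeval_res hs hn _ _).trans hv).trans (map_zero _).symm))
    (fun h0' => hvt ((aeval_res hs hn _ _).symm.trans ((congrArg inc h0').trans (map_zero _))))
  obtain rfl : e = i := le_antisymm (le_max_of_sum h hed hmem) hle
  refine (T.res M hs hn).ed_eq_of_weight ?_ ?_
  · refine (Multiset.le_iff_subset ?_).2 fun x hx => ?_
    · simpa using fun h' : φ = Cls.rp φ => hne h'.symm
    · rcases (Multiset.mem_cons.1 hx) with rfl | hx
      · exact hmem
      · rw [Multiset.mem_singleton.1 hx]; exact mem_rp hε _ (x := (φ, e)) hmem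
  · show Module.finrank F M ≤ _
    refine (Submodule.finrank_add_le_finrank_add_finrank _ _).trans ?_
    have h1 := finrank_cycSub_le hm e hv
    have h2 := finrank_cycSub_le hmr e hw
    simp only [wt, Multiset.insert_eq_cons, Multiset.map_cons, Multiset.map_singleton, Multiset.sum_cons,
      Multiset.sum_singleton, rp_natDegree h0] at h2 ⊢
    dsimp only at *
    rw [mul_comm φ.natDegree e]
    omega

theorem cyc_of_nonzero (hε : ε * ε = 1) {φ : F[X]} {i : ℕ} (h : T.Max φ i) {v : T.V}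
    (hv : aeval T.g (φ ^ i) v = 0)
    (hr : ∃ r : F[X], T.B (aeval T.g (φ ^ (i - 1)) v) (aeval T.g r v) ≠ 0) :
    ∃ (T1 T2 : Tri F ε) (v1 : T1.V), T.Eqv (T1.sum T2) ∧ T.ed = T1.ed + T2.ed ∧ T1.ed = {(φ, i)} ∧ Cyc T1 φ i v1 := by
  classical
  obtain ⟨hm, hirr, hi⟩ := T.ed_prop h.1
  obtain ⟨u, hu⟩ := exists_u h
  set M := T.cycSub v
  have hs : T.Stable M := cycSub_stable v
  have hn : T.NonDeg M := by
    intro x hx hx0
    obtain ⟨p, rfl⟩ := mem_cycSub.1 hx
    obtain ⟨p', rfl⟩ := pow_dvd_of_pairing hirr hv hu hr fun r => hx0 _ (mem_cycSub.2 ⟨r, rfl⟩)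
    rw [mul_comm, T.aeval_mul_apply, hv, map_zero]
  obtain ⟨he, hed⟩ := exists_of_res hs hn
  let v1 : (T.res M hs hn).V := (⟨v, self_mem_cycSub v⟩ : M)
  have htop : aeval (T.res M hs hn).g (φ ^ (i - 1)) v1 ≠ 0 := fun h0 => by
    obtain ⟨r, hr⟩ := hr
    refine hr ?_
    rw [show aeval T.g (φ ^ (i - 1)) v = 0 from (aeval_res hs hn _ _).symm.trans ((congrArg inc h0).trans (map_zero _)), map_zero,
      LinearMap.zero_apply]
  obtain ⟨e, hle, hmem⟩ := (T.res M hs hn).mem_ed_of_top hm hirr hi (v := v1)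
    (inc_injective (((aeval_res hs hn _ _).trans hv).trans (map_zero _).symm)) htop
  obtain rfl : e = i := le_antisymm (le_max_of_sum h hed hmem) hle
  refine ⟨_, _, v1, he, hed, (T.res M hs hn).ed_eq_of_weight (Multiset.singleton_le.2 hmem) ?_, ?_, ?_, htop⟩
  · show Module.finrank F M ≤ _
    have h1 := finrank_cycSub_le hm e hv
    simpa [wt, mul_comm] using h1
  · refine LinearMap.ext fun x => inc_injective ((aeval_res hs hn _ x).trans ?_)
    obtain ⟨p, hp⟩ := mem_cycSub.1 (inc_mem x)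
    rw [LinearMap.zero_apply, map_zero, ← hp, T.aeval_comm_apply, hv, map_zero]
  · intro x
    obtain ⟨p, hp⟩ := mem_cycSub.1 (inc_mem x)
    exact ⟨p, inc_injective ((aeval_res hs hn p v1).trans hp)⟩

/-- The sign of a cyclic piece at `X - c` is attainable. -/
def SgnOK (ε : F) (i : ℕ) : Prop := ε * (-1) ^ (i - 1) = 1

theorem exceptional (h2 : (2 : F) ≠ 0) (hε : ε * ε = 1) {φ : F[X]} {i : ℕ} (h : T.Max φ i) (hs : Cls.rp φ = φ)
    (hz : ∀ v, aeval T.g (φ ^ i) v = 0 → ∀ r : F[X], T.B (aeval T.g (φ ^ (i - 1)) v) (aeval T.g r v) = 0) :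
    ∃ c, c * c = 1 ∧ φ = X - C c ∧ ¬ SgnOK ε i := by
  classical
  obtain ⟨hm, hirr, hi⟩ := T.ed_prop h.1
  obtain ⟨u, hu⟩ := exists_u h
  obtain ⟨v, hv, hvt⟩ := h.exists_top
  obtain ⟨w, hw, hvw⟩ := h.exists_partner hε hv hvt
  rw [hs] at hw
  set U := LinearMap.ker (aeval T.g (φ ^ i)) with hU
  set ψ := aeval T.g (φ ^ (i - 1)) with hψ
  have hmem : ∀ (r : F[X]) {x : T.V}, x ∈ U → aeval T.g r x ∈ U := fun r x hx => by
    rw [hU, LinearMap.mem_ker] at hx ⊢
    rw [T.aeval_comm_apply, hx, map_zero]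
  have pol : ∀ x ∈ U, ∀ y ∈ U, ∀ r : F[X], T.B (ψ x) (aeval T.g r y) = - T.B (ψ y) (aeval T.g r x) := by
    intro x hx y hy r
    have := hz (x + y) (U.add_mem hx hy) r
    rw [map_add ψ, map_add T.B, LinearMap.add_apply, map_add (aeval T.g r), map_add, map_add, hz x hx r, hz y hy r] at this
    linear_combination this
  have sym1 : ∀ x ∈ U, ∀ y ∈ U, T.B (ψ x) (aeval T.g (X : F[X]) y) = T.B (ψ x) (aeval T.g u y) := by
    intro x hx y hy
    have e1 := pol x hx y hy X
    have e2 := pol x hx _ (hmem u hy) 1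
    rw [map_one, Module.End.one_apply, Module.End.one_apply] at e2
    have e3 : T.B (ψ (aeval T.g u y)) x = T.B (ψ y) (aeval T.g (X : F[X]) x) := by
      rw [hψ, T.aeval_comm_apply, hu, aeval_X]
      conv_lhs => rw [← T.iso, T.g_gi]
    linear_combination e1 - e2 + e3
  have h3 : aeval T.g (φ ^ (i - 1) * (u - X)) v = 0 := by
    refine T.nd _ fun y => ?_
    obtain ⟨y1, hy1, r, ⟨z, rfl⟩, rfl⟩ := Submodule.mem_sup.1 (h.isCompl.sup_eq_top ▸ Submodule.mem_top :
      y ∈ LinearMap.ker (aeval T.g (φ ^ i)) ⊔ LinearMap.range (aeval T.g (φ ^ i)))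
    have hk : aeval T.g (φ ^ i) (aeval T.g (φ ^ (i - 1) * (u - X)) v) = 0 := by
      rw [T.aeval_comm_apply, hv, map_zero]
    have hperp := T.B_rp_eq_zero hk z
    rw [rp_pow, hs] at hperp
    rw [map_add, hperp, add_zero, T.aeval_mul_apply, T.aeval_comm_apply, T.adj, T.aeval_gi_eq hu, sub_comp,
      X_comp, map_sub, LinearMap.sub_apply, map_sub, sub_eq_zero, aeval_comp, hu]
    have : aeval T.gi u = T.g := by
      calc aeval T.gi u = (T.g * T.gi) * aeval T.gi u := by rw [T.g_mul_gi, one_mul]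
        _ = T.g * (T.gi * aeval T.gi u) := mul_assoc _ _ _
        _ = T.g * 1 := by
            congr 1
            have e := congrArg (fun f : Module.End F T.V => f * T.g) hu
            rw [T.gi_mul_g, show aeval T.g u * T.g = aeval T.g (u * X) by rw [map_mul, aeval_X]] at e
            have e' : aeval T.gi (u * X) = 1 := by
              refine LinearMap.ext fun x => sub_eq_zero.1 (T.nd_right _ fun a => ?_)
              rw [map_sub, ← T.adj, e]
              simp only [Module.End.one_apply, sub_self]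
            rw [mul_comm u X, map_mul, aeval_X] at e'
            exact e'
        _ = T.g := mul_one _
    rw [this]
    have := sym1 v hv y1 hy1
    rw [aeval_X, hu] at this
    exact this
  have h4 : φ ^ i ∣ φ ^ (i - 1) * (u - X) := pow_dvd_of_kill hirr hv hvt h3
  have h5 : φ ∣ u - X := by
    refine (mul_dvd_mul_iff_left (pow_ne_zero (i - 1) hm.ne_zero)).1 ?_
    rwa [← pow_succ, show i - 1 + 1 = i by omega]
  have h6 : φ ∣ u * X - 1 := by
    have h0 : aeval T.g (u * X - 1) v = 0 := by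
      rw [map_sub, map_mul, aeval_X, hu, T.gi_mul_g, map_one, sub_self, LinearMap.zero_apply]
    exact (dvd_pow_self φ hi.ne').trans (pow_dvd_of_kill hirr hv hvt h0)
  have h7 : φ ∣ (X - C 1) * (X - C (-1)) := by
    rw [show (X - C 1) * (X - C (-1)) = (u * X - 1) - X * (u - X) by rw [C_1, map_neg, C_1]; ring]
    exact dvd_sub h6 (dvd_mul_of_dvd_right h5 _)
  obtain ⟨c, hc1, hφc⟩ : ∃ c, c * c = 1 ∧ φ = X - C c := by
    rcases hirr.prime.dvd_or_dvd h7 with hd | hd
    · exact ⟨1, one_mul 1, Polynomial.eq_of_monic_of_associated hm (monic_X_sub_C _)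
        (hirr.associated_of_dvd (irreducible_X_sub_C _) hd)⟩
    · exact ⟨-1, by ring, Polynomial.eq_of_monic_of_associated hm (monic_X_sub_C _)
        (hirr.associated_of_dvd (irreducible_X_sub_C _) hd)⟩
  refine ⟨c, hc1, hφc, fun hok => ?_⟩
  subst hφc
  -- work inside the primary component
  have hUs : T.Stable U := fun x hx => by simpa using hmem X hx
  have hUn : T.NonDeg U := by
    intro x hx hx0
    refine T.nd x fun y => ?_
    obtain ⟨y1, hy1, r, ⟨z, rfl⟩, rfl⟩ := Submodule.mem_sup.1 (h.isCompl.sup_eq_top ▸ Submodule.mem_top :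
      y ∈ LinearMap.ker (aeval T.g ((X - C c) ^ i)) ⊔ LinearMap.range (aeval T.g ((X - C c) ^ i)))
    have hperp := T.B_rp_eq_zero (LinearMap.mem_ker.1 hx) z
    rw [rp_pow, hs] at hperp
    rw [map_add, hperp, add_zero]
    exact hx0 y1 hy1
  have hsw : T.B (ψ v) w = ε * (-1) ^ (i - 1) * T.B (ψ w) v := by
    let a : (T.res U hUs hUn).V := (⟨v, hv⟩ : U)
    let b : (T.res U hUs hUn).V := (⟨w, hw⟩ : U)
    have := socle_swap (T := T.res U hUs hUn) hc1 hi hε (LinearMap.ext fun x => inc_injective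
      ((aeval_res hUs hUn _ x).trans ((LinearMap.mem_ker.1 (inc_mem x)).trans (map_zero _).symm))) a b
    rw [res_B_inc, res_B_inc, aeval_res, aeval_res] at this
    exact this
  have hp := pol v hv w hw 1
  rw [map_one, Module.End.one_apply, Module.End.one_apply] at hp
  rw [hok, one_mul, show T.B (ψ w) v = - T.B (ψ v) w by rw [hp, neg_neg]] at hsw
  have : (2 : F) * T.B (ψ v) w = 0 := by linear_combination hsw
  exact mul_ne_zero h2 hvw this

theorem split_cyc (h2 : (2 : F) ≠ 0) (hε : ε * ε = 1) {φ : F[X]} {i : ℕ} (h : T.Max φ i) (hs : Cls.rp φ = φ)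
    (hgood : ∀ c : F, c * c = 1 → φ = X - C c → SgnOK ε i) :
    ∃ (T1 T2 : Tri F ε) (v1 : T1.V), T.Eqv (T1.sum T2) ∧ T.ed = T1.ed + T2.ed ∧ T1.ed = {(φ, i)} ∧ Cyc T1 φ i v1 := by
  by_cases hz : ∀ v, aeval T.g (φ ^ i) v = 0 → ∀ r : F[X], T.B (aeval T.g (φ ^ (i - 1)) v) (aeval T.g r v) = 0
  · obtain ⟨c, hc1, hφ, hno⟩ := exceptional h2 hε h hs hz
    exact absurd (hgood c hc1 hφ) hno
  · push Not at hz
    obtain ⟨v, hv, hr⟩ := hz
    exact cyc_of_nonzero hε h hv hr

theorem cyc_not_exceptional (h2 : (2 : F) ≠ 0) (hε : ε * ε = 1) {c : F} (hc1 : c * c = 1) {i : ℕ} (hi : 0 < i)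
    {v : T.V} (hc : Cyc T (X - C c) i v) : SgnOK ε i ∨ ε * (-1) ^ (i - 1) ≠ -1 := by
  refine Or.inr fun he => ?_
  have h := socle_swap hc1 hi hε hc.kill v v
  rw [he] at h
  have h0 : T.B (aeval T.g ((X - C c) ^ (i - 1)) v) v = 0 := by
    have : (2 : F) * T.B (aeval T.g ((X - C c) ^ (i - 1)) v) v = 0 := by linear_combination h
    exact (mul_eq_zero.1 this).resolve_left h2
  refine hc.top (T.nd _ fun y => ?_)
  obtain ⟨p, rfl⟩ := hc.gen y
  have := socle_pair hc1 hi hε hc.kill 1 p v v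
  rw [map_one, Module.End.one_apply] at this
  rw [this, h0, mul_zero]

theorem sgn_cases (hε : ε * ε = 1) (i : ℕ) : SgnOK ε i ∨ ε * (-1) ^ (i - 1) = -1 := by
  refine (mul_self_eq_one_iff).1 ?_
  rw [mul_mul_mul_comm, hε, ← mul_pow, neg_one_mul, neg_neg, one_pow, mul_one]

theorem split_two (h2 : (2 : F) ≠ 0) (hε : ε * ε = 1) {c : F} (hc1 : c * c = 1) {i : ℕ} (h : T.Max (X - C c) i)
    (hbad : ¬ SgnOK ε i) :
    ∃ (T1 T2 : Tri F ε) (v1 w1 : T1.V), T.Eqv (T1.sum T2) ∧ T.ed = T1.ed + T2.ed ∧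
      T1.ed = {(X - C c, i), (X - C c, i)} ∧ Two T1 c i v1 w1 := by
  classical
  obtain ⟨hm, hirr, hi⟩ := T.ed_prop h.1
  have hs := rp_X_sub_C hc1
  obtain ⟨u, hu⟩ := exists_u h
  obtain ⟨v, hv, hvt⟩ := h.exists_top
  obtain ⟨w, hw, hvw⟩ := h.exists_partner hε hv hvt
  rw [hs] at hw
  have hbad' : ε * (-1) ^ (i - 1) = -1 := (sgn_cases hε i).resolve_left hbad
  set U := LinearMap.ker (aeval T.g ((X - C c) ^ i)) with hU
  have hUs : T.Stable U := fun x hx => by
    rw [hU, LinearMap.mem_ker] at hx ⊢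
    rw [show T.g x = aeval T.g (X : F[X]) x by rw [aeval_X], T.aeval_comm_apply, hx, map_zero]
  have hUn : T.NonDeg U := by
    intro x hx hx0
    refine T.nd x fun y => ?_
    obtain ⟨y1, hy1, r, ⟨z, rfl⟩, rfl⟩ := Submodule.mem_sup.1 (h.isCompl.sup_eq_top ▸ Submodule.mem_top :
      y ∈ LinearMap.ker (aeval T.g ((X - C c) ^ i)) ⊔ LinearMap.range (aeval T.g ((X - C c) ^ i)))
    have hperp := T.B_rp_eq_zero (LinearMap.mem_ker.1 hx) z
    rw [rp_pow, hs] at hperp
    rw [map_add, hperp, add_zero]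
    exact hx0 y1 hy1
  set S := T.res U hUs hUn
  let a : S.V := (⟨v, hv⟩ : U)
  let b : S.V := (⟨w, hw⟩ : U)
  have hSk : aeval S.g ((X - C c) ^ i) = 0 := LinearMap.ext fun x => inc_injective
    ((aeval_res hUs hUn _ x).trans ((LinearMap.mem_ker.1 (inc_mem x)).trans (map_zero _).symm))
  have diag : ∀ x : S.V, S.B (aeval S.g ((X - C c) ^ (i - 1)) x) x = 0 := fun x => by
    have h := socle_swap hc1 hi hε hSk x x
    rw [hbad'] at h
    have : (2 : F) * S.B (aeval S.g ((X - C c) ^ (i - 1)) x) x = 0 := by linear_combination h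
    exact (mul_eq_zero.1 this).resolve_left h2
  have hab : S.B (aeval S.g ((X - C c) ^ (i - 1)) a) b ≠ 0 := fun h0 => hvw (by
    rw [res_B_inc, aeval_res] at h0
    exact h0)
  set M := T.cycSub v ⊔ T.cycSub w
  have hMs : T.Stable M := stable_sup (cycSub_stable v) (cycSub_stable w)
  have hval : ∀ p q : F[X], inc (aeval S.g p a + aeval S.g q b) = aeval T.g p v + aeval T.g q w :=
    fun p q => by rw [map_add, aeval_res, aeval_res]; rfl
  have hMn : T.NonDeg M := by
    intro x hx hx0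
    obtain ⟨_, ha, _, hb, rfl⟩ := Submodule.mem_sup.1 hx
    obtain ⟨p, rfl⟩ := mem_cycSub.1 ha
    obtain ⟨q, rfl⟩ := mem_cycSub.1 hb
    obtain ⟨⟨p', rfl⟩, ⟨q', rfl⟩⟩ := two_indep hc1 hi hε hSk (diag a) (diag b) hab (p := p) (q := q) fun p2 q2 => by
      rw [res_B_inc, hval, hval]
      exact hx0 _ (Submodule.add_mem_sup (mem_cycSub.2 ⟨p2, rfl⟩) (mem_cycSub.2 ⟨q2, rfl⟩))
    rw [mul_comm, T.aeval_mul_apply, hv, map_zero, mul_comm, T.aeval_mul_apply, hw, map_zero, add_zero]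
  obtain ⟨he, hed⟩ := exists_of_res hMs hMn
  set T1 := T.res M hMs hMn with hT1
  let v1 : T1.V := (⟨v, Submodule.mem_sup_left (self_mem_cycSub v)⟩ : M)
  let w1 : T1.V := (⟨w, Submodule.mem_sup_right (self_mem_cycSub w)⟩ : M)
  have hkill : aeval T1.g ((X - C c) ^ i) = 0 := by
    refine LinearMap.ext fun x => inc_injective ((aeval_res hMs hMn _ x).trans ?_)
    obtain ⟨_, ha, _, hb, hab⟩ := Submodule.mem_sup.1 (inc_mem x)
    obtain ⟨p, rfl⟩ := mem_cycSub.1 ha
    obtain ⟨q, rfl⟩ := mem_cycSub.1 hb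
    rw [LinearMap.zero_apply, map_zero, ← hab, map_add, T.aeval_comm_apply, hv, T.aeval_comm_apply _ q, hw, map_zero, map_zero, add_zero]
  have hB : ∀ (x : T1.V) (y : S.V), inc x = inc y → ∀ (x' : T1.V) (y' : S.V),
      inc x' = inc y' → ∀ p : F[X], T1.B (aeval T1.g p x) x' = S.B (aeval S.g p y) y' := by
    intro x y hxy x' y' hxy' p
    rw [res_B_inc, res_B_inc, aeval_res, aeval_res, hxy, hxy']
  have htwo : Two T1 c i v1 w1 := by
    refine ⟨hkill, fun x => ?_, (hB v1 a rfl v1 a rfl _).trans (diag a), (hB w1 b rfl w1 b rfl _).trans (diag b),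
      fun h0 => hab ((hB v1 a rfl w1 b rfl _).symm.trans h0)⟩
    obtain ⟨_, ha, _, hb, hab⟩ := Submodule.mem_sup.1 (inc_mem x)
    obtain ⟨p, rfl⟩ := mem_cycSub.1 ha
    obtain ⟨q, rfl⟩ := mem_cycSub.1 hb
    exact ⟨p, q, inc_injective (((map_add inc _ _).trans
      (congrArg₂ (· + ·) (aeval_res hMs hMn p v1) (aeval_res hMs hMn q w1))).trans hab)⟩
  refine ⟨T1, _, v1, w1, he, hed, ?_, htwo⟩
  have hwv : T1.B (aeval T1.g ((X - C c) ^ (i - 1)) w1) v1 ≠ 0 := by
    rw [socle_swap hc1 hi hε hkill w1 v1, hbad']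
    exact mul_ne_zero (by simp) htwo.vw
  -- the socle of the piece is two dimensional
  set ψ1 := aeval T1.g ((X - C c) ^ (i - 1)) with hψ1
  have hrank : 2 ≤ Module.finrank F (LinearMap.range ψ1) := by
    have hli : LinearIndependent F (![ψ1 v1, ψ1 w1]) := by
      rw [LinearIndependent.pair_iff]
      intro s t hst
      have e1 := congrArg (fun z => T1.B z w1) hst
      have e2 := congrArg (fun z => T1.B z v1) hst
      simp only [map_add, map_smul, LinearMap.add_apply, LinearMap.smul_apply, smul_eq_mul, map_zero,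
        LinearMap.zero_apply, hψ1, htwo.ww, htwo.vv, mul_zero, add_zero, zero_add] at e1 e2
      exact ⟨(mul_eq_zero.1 e1).resolve_right htwo.vw, (mul_eq_zero.1 e2).resolve_right hwv⟩
    have : Module.finrank F (Submodule.span F (Set.range ![ψ1 v1, ψ1 w1])) = 2 :=
      (finrank_span_eq_card hli).trans (Fintype.card_fin 2)
    rw [← this]
    refine Submodule.finrank_mono (Submodule.span_le.2 ?_)
    rintro _ ⟨j, rfl⟩
    fin_cases j
    · exact LinearMap.mem_range_self ψ1 v1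
    · exact LinearMap.mem_range_self ψ1 w1
  have hmX : ∀ x ∈ T1.ed, x.1 = X - C c ∧ x.2 ≤ i := by
    intro x hx
    have hp := T1.ed_prop hx
    have hfix : x.1 = X - C c := by
      by_contra hne
      have hco : IsCoprime x.1 ((X - C c) ^ i) := isCoprime_of_not_dvd (irreducible_X_sub_C c) (fun hd =>
        hne (Polynomial.eq_of_monic_of_associated hp.1 (monic_X_sub_C c)
          ((irreducible_X_sub_C c).associated_of_dvd hp.2.1 hd).symm)) i
      obtain ⟨p, q, hpq⟩ := hco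
      have hinj : LinearMap.ker (aeval T1.g (x.1 ^ 1)) = ⊥ := by
        rw [LinearMap.ker_eq_bot']
        intro z hz
        rw [pow_one] at hz
        have : aeval T1.g (p * x.1 + q * (X - C c) ^ i) z = z := by rw [hpq, map_one, Module.End.one_apply]
        rw [← this, map_add, LinearMap.add_apply, T1.aeval_mul_apply, hz, map_zero, T1.aeval_mul_apply, hkill,
          LinearMap.zero_apply, map_zero, add_zero]
      have h := T1.kdim hp.1 hp.2.1 1
      rw [hinj, finrank_bot, H41.kerDim] at h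
      have h2 := Multiset.le_sum_of_mem (Multiset.mem_map_of_mem
        (fun y : F[X] × ℕ => if y.1 = x.1 then min 1 y.2 * x.1.natDegree else 0) hx)
      rw [← h, if_pos rfl] at h2
      have := Nat.mul_pos (lt_min one_pos hp.2.2) hp.2.1.natDegree_pos
      omega
    exact ⟨hfix, le_max_of_sum h hed (by rw [← hfix]; exact hx)⟩
  have hdim : Module.finrank F T1.V ≤ 2 * i := by
    show Module.finrank F M ≤ _
    refine (Submodule.finrank_add_le_finrank_add_finrank _ _).trans ?_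
    have h1 := finrank_cycSub_le (monic_X_sub_C c) i hv
    have h2 := finrank_cycSub_le (monic_X_sub_C c) i hw
    rw [natDegree_X_sub_C] at h1 h2
    omega
  refine T1.ed_eq_of_weight ?_ (by simpa [wt, two_mul] using hdim)
  have hc2 : 2 ≤ T1.ed.count (X - C c, i) := by
    have hk : Module.finrank F (LinearMap.ker ψ1) + 2 ≤ H41.kerDim T1.ed (X - C c) i := by
      rw [← T1.kdim (monic_X_sub_C c) (irreducible_X_sub_C c), hkill, LinearMap.ker_zero, finrank_top,
        ← ψ1.finrank_range_add_finrank_ker]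
      omega
    rw [hψ1, T1.kdim (monic_X_sub_C c) (irreducible_X_sub_C c)] at hk
    have hcount := H41.kerDim_count T1.ed (X - C c) (i - 1)
    rw [show i - 1 + 1 = i by omega, natDegree_X_sub_C, one_mul] at hcount
    have hst : H41.kerDim T1.ed (X - C c) (i - 1 + 2) = H41.kerDim T1.ed (X - C c) i := by
      unfold H41.kerDim
      refine congrArg Multiset.sum (Multiset.map_congr rfl fun x hx => ?_)
      rw [if_pos (hmX x hx).1, if_pos (hmX x hx).1, Nat.min_eq_right (by have := (hmX x hx).2; omega),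
        Nat.min_eq_right (hmX x hx).2]
    omega
  rw [Multiset.le_iff_count]
  intro x
  by_cases hx : x = (X - C c, i)
  · subst hx; simpa using hc2
  · simp [hx]

end Tri

end H44.Cls
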