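import Mathlib
import Cfsg.Agent.H44.Cls.Split
import Cfsg.Agent.H44.Basic

/-! At most `2 ^ r` isometry classes for given elementary divisors with `r` signed exponents. -/

set_option autoImplicit false

namespace H44.Cls

open Polynomial

universe u

variable {F : Type u} [Field F] {ε : F}

open Classical in
/-- The quadratic character, as a sign. -/
noncomputable def qc (x : F) : ℤ := if IsSquare x then 1 else -1

theorem qc_cases (x : F) : qc x = 1 ∨ qc x = -1 := by
  unfold qc; split_ifs <;> simp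

theorem qc_mul_self (x : F) : qc x * qc x = 1 := by
  rcases qc_cases x with h | h <;> simp [h]

theorem qc_mul [Finite F] {x y : F} (hx : x ≠ 0) (hy : y ≠ 0) : qc (x * y) = qc x * qc y := by
  classical
  cases nonempty_fintype F
  by_cases h2 : ringChar F = 2
  · simp [qc, FiniteField.isSquare_of_char_two h2]
  · have key : ∀ z : F, z ≠ 0 → qc z = quadraticChar F z := fun z hz => by
      unfold qc
      split_ifs with h
      · exact ((quadraticChar_one_iff_isSquare hz).2 h).symm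
      · exact (quadraticChar_neg_one_iff_not_isSquare.2 h).symm
    rw [key _ (mul_ne_zero hx hy), key _ hx, key _ hy, map_mul]

theorem qc_sq_mul [Finite F] {d x : F} (hd : d ≠ 0) (hx : x ≠ 0) : qc (d ^ 2 * x) = qc x := by
  rw [qc_mul (pow_ne_zero 2 hd) hx, qc, if_pos (IsSquare.sq d), one_mul]

namespace Tri

variable (T : Tri F ε)

/-- The Gram matrix in a basis. -/
noncomputable def gram {ι : Type*} [Fintype ι] (b : Module.Basis ι F T.V) : Matrix ι ι F :=
  Matrix.of fun i j => T.B (b i) (b j)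

theorem gram_det_ne {ι : Type*} [Fintype ι] [DecidableEq ι] (b : Module.Basis ι F T.V) :
    (T.gram b).det ≠ 0 := by
  have hnd : LinearMap.BilinForm.Nondegenerate T.B := ⟨T.nd, T.nd_right⟩
  have h := (LinearMap.BilinForm.nondegenerate_iff_det_ne_zero b).mp hnd
  convert h
  ext i j
  simp [gram, LinearMap.BilinForm.toMatrix_apply, LinearMap.toMatrix₂_apply]

/-- The discriminant class. -/
noncomputable def chi : ℤ := qc (T.gram (Module.finBasis F T.V)).det

theorem chi_eq [Finite F] {ι : Type*} [Fintype ι] [DecidableEq ι] (b : Module.Basis ι F T.V) :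
    T.chi = qc (T.gram b).det := by
  obtain ⟨d, hd, h⟩ := H44.gram_det_basis_change T.B b (Module.finBasis F T.V)
  have h' : (T.gram b).det = d ^ 2 * (T.gram (Module.finBasis F T.V)).det := h
  rw [h', qc_sq_mul hd (T.gram_det_ne _), chi]

theorem chi_mul_self : T.chi * T.chi = 1 := qc_mul_self _

variable {T}

theorem Eqv.chi_eq [Finite F] {T' : Tri F ε} (h : T.Eqv T') : T.chi = T'.chi := by
  obtain ⟨e, -, h2⟩ := h
  rw [T'.chi_eq ((Module.finBasis F T.V).map e), chi]
  congr 2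
  ext i j
  simp [gram, h2]

theorem chi_sum [Finite F] (T T' : Tri F ε) : (T.sum T').chi = T.chi * T'.chi := by
  classical
  let b0 : Module.Basis (Fin (Module.finrank F T.V) ⊕ Fin (Module.finrank F T'.V)) F (T.V × T'.V) :=
    (Module.finBasis F T.V).prod (Module.finBasis F T'.V)
  let b : Module.Basis (Fin (Module.finrank F T.V) ⊕ Fin (Module.finrank F T'.V)) F (T.sum T').V := b0
  have hg : (T.sum T').gram b = Matrix.fromBlocks (T.gram (Module.finBasis F T.V)) 0 0
      (T'.gram (Module.finBasis F T'.V)) := by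
    ext (i | i) (j | j) <;>
      (show T.B (b0 _).1 (b0 _).1 + T'.B (b0 _).2 (b0 _).2 = _; simp [gram, b0])
  rw [(T.sum T').chi_eq b, hg, Matrix.det_fromBlocks_zero₂₁, qc_mul (T.gram_det_ne _) (T'.gram_det_ne _)]
  rfl

theorem chi_scale [Finite F] (T : Tri F ε) {c : F} (hc : c ≠ 0) :
    (T.scale hc).chi = qc (c ^ Module.finrank F T.V) * T.chi := by
  let b : Module.Basis (Fin (Module.finrank F T.V)) F (T.scale hc).V := Module.finBasis F T.V
  have hg : (T.scale hc).gram b = c • T.gram (Module.finBasis F T.V) := by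
    ext i j
    rfl
  rw [(T.scale hc).chi_eq b, hg, Matrix.det_smul, Fintype.card_fin, qc_mul (pow_ne_zero _ hc) (T.gram_det_ne _)]
  rfl

theorem eqv_of_finrank_zero {T' : Tri F ε} (h : Module.finrank F T.V = 0) (h' : Module.finrank F T'.V = 0) :
    T.Eqv T' := by
  haveI : Subsingleton T.V := Module.finrank_zero_iff.1 h
  haveI : Subsingleton T'.V := Module.finrank_zero_iff.1 h'
  exact ⟨LinearEquiv.ofFinrankEq _ _ (h.trans h'.symm), fun x => Subsingleton.elim _ _, fun x y => by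
    rw [Subsingleton.elim x 0, map_zero, map_zero, LinearMap.zero_apply, map_zero, LinearMap.zero_apply]⟩

/-- Two copies of a form are two copies of its multiple by a sum of two squares. -/
theorem sum_scale_eqv (T : Tri F ε) {x y c : F} (hc : c ≠ 0) (h : x * x + y * y = c) :
    ((T.scale hc).sum (T.scale hc)).Eqv (T.sum T) := by
  let e : (T.V × T.V) →ₗ[F] (T.V × T.V) :=
    { toFun := fun u => (x • u.1 + y • u.2, -(y • u.1) + x • u.2)
      map_add' := fun u v => by simp only [Prod.fst_add, Prod.snd_add, smul_add, neg_add, Prod.mk_add_mk]; abel_nf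
      map_smul' := fun a u => by
        simp only [Prod.smul_fst, Prod.smul_snd, RingHom.id_apply, Prod.smul_mk, smul_add, smul_neg, smul_comm a] }
  have hbij : Function.Bijective e := by
    have hi : Function.Injective e := by
      rw [← LinearMap.ker_eq_bot, LinearMap.ker_eq_bot']
      rintro ⟨u, v⟩ huv
      have h1 : x • u + y • v = 0 := congrArg Prod.fst huv
      have h2 : -(y • u) + x • v = 0 := congrArg Prod.snd huv
      have hu : c • u = 0 := by
        rw [← h]
        have : (x * x + y * y) • u = x • (x • u + y • v) - y • (-(y • u) + x • v) := by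
          module
        rw [this, h1, h2, smul_zero, smul_zero, sub_zero]
      have hv : c • v = 0 := by
        rw [← h]
        have : (x * x + y * y) • v = y • (x • u + y • v) + x • (-(y • u) + x • v) := by
          module
        rw [this, h1, h2, smul_zero, smul_zero, add_zero]
      exact Prod.ext ((smul_eq_zero.1 hu).resolve_left hc) ((smul_eq_zero.1 hv).resolve_left hc)
    exact ⟨hi, LinearMap.injective_iff_surjective.1 hi⟩
  refine ⟨(LinearEquiv.ofBijective e hbij : (T.V × T.V) ≃ₗ[F] (T.V × T.V)), fun (u : T.V × T.V) => ?_,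
    fun (u v : T.V × T.V) => ?_⟩
  · show (x • T.g u.1 + y • T.g u.2, -(y • T.g u.1) + x • T.g u.2) =
      (T.g (x • u.1 + y • u.2), T.g (-(y • u.1) + x • u.2))
    simp only [map_add, map_neg, map_smul]
  · show T.B (x • u.1 + y • u.2) (x • v.1 + y • v.2) + T.B (-(y • u.1) + x • u.2) (-(y • v.1) + x • v.2) =
      c * T.B u.1 v.1 + c * T.B u.2 v.2
    simp only [map_add, map_neg, map_smul, LinearMap.add_apply, LinearMap.neg_apply, LinearMap.smul_apply, smul_eq_mul]
    linear_combination (T.B u.1 v.1 + T.B u.2 v.2) * h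

end Tri

/-- The elementary divisors carrying a sign. -/
def IsD (ε : F) (x : F[X] × ℕ) : Prop := (x.1 = X - C 1 ∨ x.1 = X - C (-1)) ∧ Tri.SgnOK ε x.2

open Classical in
/-- The set of signed elementary divisors. -/
noncomputable def sgnSet (ε : F) (s : Multiset (F[X] × ℕ)) : Finset (F[X] × ℕ) := s.toFinset.filter (IsD ε)

theorem mem_sgnSet {s : Multiset (F[X] × ℕ)} {x : F[X] × ℕ} : x ∈ sgnSet ε s ↔ x ∈ s ∧ IsD ε x := by
  simp [sgnSet]

/-- `L` represents every isometry with elementary divisors `s`. -/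
def Covers (s : Multiset (F[X] × ℕ)) (L : List (Tri F ε)) : Prop :=
  ∀ T : Tri F ε, T.ed = s → ∃ r ∈ L, T.Eqv r

/-- `L` represents every isometry with elementary divisors `s` and discriminant `d`. -/
def CoversD (s : Multiset (F[X] × ℕ)) (d : ℤ) (L : List (Tri F ε)) : Prop :=
  ∀ T : Tri F ε, T.ed = s → T.chi = d → ∃ r ∈ L, T.Eqv r

theorem max_of_ed {T T' : Tri F ε} (h : T.ed = T'.ed) {φ : F[X]} {i : ℕ} (hM : T.Max φ i) : T'.Max φ i := by
  unfold Tri.Max at hM ⊢
  rwa [← h]

theorem eq_sub_one_of_sq {φ : F[X]} {c : F} (hc : c * c = 1) (hφ : φ = X - C c) :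
    φ = X - C 1 ∨ φ = X - C (-1) := by
  rcases mul_self_eq_one_iff.1 hc with rfl | rfl
  · exact Or.inl hφ
  · exact Or.inr hφ

/-- The standard step: one piece shared by all. -/
theorem covers_step [Finite F] {s s' : Multiset (F[X] × ℕ)} (P : Tri F ε)
    (hsplit : ∀ T : Tri F ε, T.ed = s → ∃ T2 : Tri F ε, T.Eqv (P.sum T2) ∧ T2.ed = s')
    (hle : (sgnSet ε s').card ≤ (sgnSet ε s).card)
    (h : (∃ L : List (Tri F ε), Covers s' L ∧ L.length ≤ 2 ^ (sgnSet ε s').card) ∧
      (ε = 1 → ∀ d, ∃ L : List (Tri F ε), CoversD s' d L ∧ L.length ≤ 2 ^ ((sgnSet ε s').card - 1))) :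
    (∃ L : List (Tri F ε), Covers s L ∧ L.length ≤ 2 ^ (sgnSet ε s).card) ∧
      (ε = 1 → ∀ d, ∃ L : List (Tri F ε), CoversD s d L ∧ L.length ≤ 2 ^ ((sgnSet ε s).card - 1)) := by
  obtain ⟨⟨L, hL, hlen⟩, hD⟩ := h
  refine ⟨⟨L.map (fun r => P.sum r), fun T hT => ?_, ?_⟩, fun h1 d => ?_⟩
  · obtain ⟨T2, he, he2⟩ := hsplit T hT
    obtain ⟨r, hr, hre⟩ := hL T2 he2
    exact ⟨P.sum r, List.mem_map_of_mem hr, he.trans ((Tri.Eqv.refl P).sum hre)⟩
  · rw [List.length_map]
    exact hlen.trans (Nat.pow_le_pow_right two_pos hle)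
  · obtain ⟨L', hL', hlen'⟩ := hD h1 (d * P.chi)
    refine ⟨L'.map (fun r => P.sum r), fun T hT hd => ?_, ?_⟩
    · obtain ⟨T2, he, he2⟩ := hsplit T hT
      have hchi : T2.chi = d * P.chi := by
        rw [← hd, he.chi_eq, Tri.chi_sum, mul_comm P.chi, mul_assoc, P.chi_mul_self, mul_one]
      obtain ⟨r, hr, hre⟩ := hL' T2 he2 hchi
      exact ⟨P.sum r, List.mem_map_of_mem hr, he.trans ((Tri.Eqv.refl P).sum hre)⟩
    · rw [List.length_map]
      exact hlen'.trans (Nat.pow_le_pow_right two_pos (Nat.sub_le_sub_right hle 1))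

theorem odd_of_sgnOK (h2 : (2 : F) ≠ 0) {i : ℕ} (hi : 0 < i) (h : Tri.SgnOK (1 : F) i) : Odd i := by
  rw [Tri.SgnOK, one_mul] at h
  rcases Nat.even_or_odd (i - 1) with he | ho
  · obtain ⟨k, hk⟩ := he
    exact ⟨k, by omega⟩
  · rw [ho.neg_one_pow] at h
    exact absurd (show (2 : F) = 0 by linear_combination -h) h2

/-- At most `2 ^ r` classes with given elementary divisors, and half as many for a given discriminant. -/
theorem exists_covers [Finite F] (h2 : (2 : F) ≠ 0) (hε : ε * ε = 1) (s : Multiset (F[X] × ℕ)) :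
    (∃ L : List (Tri F ε), Covers s L ∧ L.length ≤ 2 ^ (sgnSet ε s).card) ∧
      (ε = 1 → ∀ d, ∃ L : List (Tri F ε), CoversD s d L ∧ L.length ≤ 2 ^ ((sgnSet ε s).card - 1)) := by
  classical
  suffices ∀ N, ∀ s : Multiset (F[X] × ℕ), wt s = N →
      (∃ L : List (Tri F ε), Covers s L ∧ L.length ≤ 2 ^ (sgnSet ε s).card) ∧
      (ε = 1 → ∀ d, ∃ L : List (Tri F ε), CoversD s d L ∧ L.length ≤ 2 ^ ((sgnSet ε s).card - 1)) from
    this _ s rfl
  intro N
  induction N using Nat.strong_induction_on with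
  | _ N ih =>
  intro s hN
  by_cases hex : ∃ T : Tri F ε, T.ed = s
  swap
  · exact ⟨⟨[], fun T hT => absurd ⟨T, hT⟩ hex, by simp⟩,
      fun _ d => ⟨[], fun T hT => absurd ⟨T, hT⟩ hex, by simp⟩⟩
  obtain ⟨T0, hT0⟩ := hex
  rcases Multiset.empty_or_exists_mem s with rfl | ⟨x, hx⟩
  · have h0 : ∀ T : Tri F ε, T.ed = 0 → Module.finrank F T.V = 0 := fun T hT => by
      rw [← T.wt_ed, hT]; simp [wt]
    exact ⟨⟨[T0], fun T hT => ⟨T0, List.mem_singleton_self _, Tri.eqv_of_finrank_zero (h0 T hT) (h0 T0 hT0)⟩,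
        by simp [sgnSet]⟩, fun _ d => ⟨[T0], fun T hT _ =>
          ⟨T0, List.mem_singleton_self _, Tri.eqv_of_finrank_zero (h0 T hT) (h0 T0 hT0)⟩, by simp [sgnSet]⟩⟩
  set φ := x.1
  let E := (s.toFinset.filter fun y => y.1 = φ).image Prod.snd
  have hE : E.Nonempty := ⟨x.2, Finset.mem_image.2 ⟨x, Finset.mem_filter.2 ⟨Multiset.mem_toFinset.2 hx, rfl⟩, rfl⟩⟩
  set i := E.max' hE
  have hM : T0.Max φ i := by
    obtain ⟨y, hy, hyi⟩ := Finset.mem_image.1 (E.max'_mem hE)
    obtain ⟨hy1, hy2⟩ := Finset.mem_filter.1 hy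
    refine ⟨?_, fun e he => ?_⟩
    · rw [hT0, show (φ, i) = y from Prod.ext hy2.symm hyi.symm]
      exact Multiset.mem_toFinset.1 hy1
    · exact E.le_max' e (Finset.mem_image.2 ⟨(φ, e), Finset.mem_filter.2 ⟨Multiset.mem_toFinset.2 (hT0 ▸ he), rfl⟩, rfl⟩)
  obtain ⟨hm, hirr, hi⟩ := T0.ed_prop (x := (φ, i)) hM.1
  have h0 : φ.coeff 0 ≠ 0 := T0.coeff_ne_zero (x := (φ, i)) hM.1
  -- removing a nonempty piece keeps the induction going
  have recp : ∀ p : Multiset (F[X] × ℕ), (φ, i) ∈ p → p ≤ s →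
      wt (s - p) < N ∧ (sgnSet ε (s - p)).card ≤ (sgnSet ε s).card := fun p hp hps => by
    refine ⟨?_, Finset.card_le_card fun y hy => ?_⟩
    · rw [← hN]
      conv_rhs => rw [← add_tsub_cancel_of_le hps, wt_add]
      have := wt_pos hp hirr hi
      omega
    · rw [mem_sgnSet] at hy ⊢
      exact ⟨Multiset.mem_of_le (Multiset.sub_le_self s p) hy.1, hy.2⟩
  have rest : ∀ {T1 T2 : Tri F ε} {p : Multiset (F[X] × ℕ)}, T1.ed + T2.ed = s → T1.ed = p → T2.ed = s - p :=
    fun h1 h2 => by rw [← h1, h2, add_tsub_cancel_left]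
  by_cases hpair : rp φ = φ
  swap
  · -- a pair of reciprocal factors
    obtain ⟨P, P2, -, hPed, hP1⟩ := Tri.split_pair hε hM hpair
    obtain ⟨hlt, hle⟩ := recp P.ed (by rw [hP1]; simp) (by rw [← hT0, hPed]; exact Multiset.le_add_right _ _)
    refine covers_step P (fun T hT => ?_) hle (ih _ hlt _ rfl)
    obtain ⟨T1, T2, he, hed, hed1⟩ := Tri.split_pair hε (max_of_ed (hT0.trans hT.symm) hM) hpair
    refine ⟨T2, he.trans ((?_ : T1.Eqv P).sum (Tri.Eqv.refl T2)), rest (hed.symm.trans hT) (hed1.trans hP1.symm)⟩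
    -- Lagrangian halves
    have hco : IsCoprime φ (rp φ) := (hirr.coprime_iff_not_dvd).2 fun hd =>
      hpair (Polynomial.eq_of_monic_of_associated (rp_monic h0) hm
        (hirr.associated_of_dvd (rp_irreducible hirr h0) hd).symm)
    have halves : ∀ S : Tri F ε, S.ed = {(φ, i), (rp φ, i)} →
        S.Stable (LinearMap.ker (aeval S.g (φ ^ i))) ∧ S.Stable (LinearMap.ker (aeval S.g (rp φ ^ i))) ∧
        IsCompl (LinearMap.ker (aeval S.g (φ ^ i))) (LinearMap.ker (aeval S.g (rp φ ^ i))) ∧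
        (∀ a ∈ LinearMap.ker (aeval S.g (φ ^ i)), ∀ b ∈ LinearMap.ker (aeval S.g (φ ^ i)), S.B a b = 0) ∧
        (∀ a ∈ LinearMap.ker (aeval S.g (rp φ ^ i)), ∀ b ∈ LinearMap.ker (aeval S.g (rp φ ^ i)), S.B a b = 0) := by
      intro S hS
      have st : ∀ p : F[X], S.Stable (LinearMap.ker (aeval S.g p)) := fun p a ha => by
        rw [LinearMap.mem_ker] at ha ⊢
        rw [show S.g a = aeval S.g (X : F[X]) a by rw [aeval_X], S.aeval_comm_apply, ha, map_zero]
      have hd : Disjoint (LinearMap.ker (aeval S.g (φ ^ i))) (LinearMap.ker (aeval S.g (rp φ ^ i))) :=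
        Polynomial.disjoint_ker_aeval_of_isCoprime S.g hco.pow
      refine ⟨st _, st _, ⟨hd, codisjoint_iff.2 (Submodule.eq_top_of_finrank_eq ?_)⟩,
        fun a ha b hb => S.orth_of_coprime (by rw [rp_pow]; exact hco.symm.pow) ha hb,
        fun a ha b hb => S.orth_of_coprime (by rw [rp_pow, rp_rp hm h0]; exact hco.pow) ha hb⟩
      have h1 := Submodule.finrank_sup_add_finrank_inf_eq (LinearMap.ker (aeval S.g (φ ^ i)))
        (LinearMap.ker (aeval S.g (rp φ ^ i)))
      rw [hd.eq_bot, finrank_bot, add_zero, S.kdim hm hirr, S.kdim (rp_monic h0) (rp_irreducible hirr h0)] at h1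
      rw [h1, ← S.wt_ed, hS]
      simp [H41.kerDim, wt, hpair, Ne.symm hpair, mul_comm i, rp_natDegree h0]
    obtain ⟨a1, a2, a3, a4, a5⟩ := halves T1 hed1
    obtain ⟨b1, b2, b3, b4, b5⟩ := halves P hP1
    obtain ⟨E', hE'⟩ := Tri.similar_of_ed_eq (hed1.trans hP1.symm)
    have hmap : Submodule.map (E' : T1.V →ₗ[F] P.V) (LinearMap.ker (aeval T1.g (φ ^ i))) =
        LinearMap.ker (aeval P.g (φ ^ i)) := by
      ext w
      rw [Submodule.mem_map_equiv, LinearMap.mem_ker, LinearMap.mem_ker, ← E'.map_eq_zero_iff,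
        H41.Similar.aeval_apply hE', E'.apply_symm_apply]
    refine Tri.eqv_of_lagrangian hε _ _ _ _ a1 a2 b1 b2 a3 b3 a4 a5 b4 b5 (E'.ofSubmodules _ _ hmap) fun a => ?_
    exact Subtype.ext (hE' a.1)
  haveI : Fact (Irreducible φ) := ⟨hirr⟩
  by_cases hlin : ∃ c, c * c = 1 ∧ φ = X - C c
  swap
  · -- a self-reciprocal factor other than `X ± 1`
    have hgood : ∀ c : F, c * c = 1 → φ = X - C c → Tri.SgnOK ε i := fun c hc hφ => absurd ⟨c, hc, hφ⟩ hlin
    have hne : AdjoinRoot.root φ * AdjoinRoot.root φ ≠ 1 := by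
      intro h
      rw [← AdjoinRoot.mk_X, ← map_mul, ← map_one (AdjoinRoot.mk φ), AdjoinRoot.mk_eq_mk] at h
      have h' : φ ∣ (X - C 1) * (X - C (-1)) := by
        rwa [show (X - C 1) * (X - C (-1)) = (X * X - 1 : F[X]) by rw [C_1, map_neg, C_1]; ring]
      rcases hirr.prime.dvd_or_dvd h' with hd | hd
      · exact hlin ⟨1, one_mul 1, Polynomial.eq_of_monic_of_associated hm (monic_X_sub_C _)
          (hirr.associated_of_dvd (irreducible_X_sub_C _) hd)⟩
      · exact hlin ⟨-1, by ring, Polynomial.eq_of_monic_of_associated hm (monic_X_sub_C _)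
          (hirr.associated_of_dvd (irreducible_X_sub_C _) hd)⟩
    obtain ⟨P, P2, vP, -, hPed, hP1, hPc⟩ := Tri.split_cyc h2 hε hM hpair hgood
    obtain ⟨hlt, hle⟩ := recp P.ed (by rw [hP1]; simp) (by rw [← hT0, hPed]; exact Multiset.le_add_right _ _)
    refine covers_step P (fun T hT => ?_) hle (ih _ hlt _ rfl)
    obtain ⟨T1, T2, v1, he, hed, hed1, hc1⟩ := Tri.split_cyc h2 hε (max_of_ed (hT0.trans hT.symm) hM) hpair hgood
    exact ⟨T2, he.trans ((Tri.cyc_eqv hm h0 hpair hi h2 hε hne hc1 hPc).sum (Tri.Eqv.refl T2)),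
      rest (hed.symm.trans hT) (hed1.trans hP1.symm)⟩
  obtain ⟨c, hc1, hφc⟩ := hlin
  rw [hφc] at hM hpair
  by_cases hsg : Tri.SgnOK ε i
  swap
  · -- two generators
    obtain ⟨P, P2, vP, wP, -, hPed, hP1, hPc⟩ := Tri.split_two h2 hε hc1 hM hsg
    obtain ⟨hlt, hle⟩ := recp P.ed (by rw [hP1, hφc]; simp) (by rw [← hT0, hPed]; exact Multiset.le_add_right _ _)
    refine covers_step P (fun T hT => ?_) hle (ih _ hlt _ rfl)
    obtain ⟨T1, T2, v1, w1, he, hed, hed1, hd1⟩ := Tri.split_two h2 hε hc1 (max_of_ed (hT0.trans hT.symm) hM) hsg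
    exact ⟨T2, he.trans ((Tri.two_eqv hc1 hi h2 hε hd1 hPc).sum (Tri.Eqv.refl T2)),
      rest (hed.symm.trans hT) (hed1.trans hP1.symm)⟩
  -- the signed case
  have hgood : ∀ c' : F, c' * c' = 1 → X - C c = X - C c' → Tri.SgnOK ε i := fun _ _ _ => hsg
  obtain ⟨P, P2, vP, -, hPed, hP1, hPc⟩ := Tri.split_cyc h2 hε hM hpair hgood
  cases nonempty_fintype F
  have hchar : ringChar F ≠ 2 := fun h => h2 (by
    have := ringChar.Nat.cast_ringChar (R := F)
    rw [h] at this
    exact_mod_cast this)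
  obtain ⟨ν, hν⟩ := FiniteField.exists_nonsquare hchar
  have hν0 : ν ≠ 0 := fun h => hν (h ▸ IsSquare.zero)
  obtain ⟨a, b, hab⟩ := FiniteField.exists_root_sum_quadratic (R := F) (f := X ^ 2) (g := X ^ 2 - C ν)
    (degree_X_pow 2) (degree_X_pow_sub_C two_pos _) (FiniteField.odd_card_of_char_ne_two hchar)
  have hab' : a * a + b * b = ν := by
    simp only [eval_pow, eval_X, eval_sub, eval_C] at hab
    linear_combination hab
  have piece : ∀ {S : Tri F ε} {v : S.V}, Tri.Cyc S (X - C c) i v → S.Eqv P ∨ S.Eqv (P.scale hν0) := by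
    intro S v hS
    rcases Tri.cyc_eqv_or_scale h2 hε hc1 hi hν0 hν hPc hS with h | h
    · exact Or.inl h.symm
    · exact Or.inr h.symm
  obtain ⟨hlt, hle⟩ := recp P.ed (by rw [hP1, hφc]; simp) (by rw [← hT0, hPed]; exact Multiset.le_add_right _ _)
  have hν_ed : (P.scale hν0).ed = {(X - C c, i)} := (Tri.scale_ed hν0).trans hP1
  by_cases hmult : (X - C c, i) ∈ s - P.ed
  · refine covers_step P (fun T hT => ?_) hle (ih _ hlt _ rfl)
    have hMT := max_of_ed (hT0.trans hT.symm) hM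
    obtain ⟨T1, T2, v1, he, hed, hed1, hc'⟩ := Tri.split_cyc h2 hε hMT hpair hgood
    have hs' : T2.ed = s - P.ed := rest (hed.symm.trans hT) (hed1.trans hP1.symm)
    rcases piece hc' with h | h
    · exact ⟨T2, he.trans (h.sum (Tri.Eqv.refl T2)), hs'⟩
    have hM2 : T2.Max (X - C c) i :=
      ⟨hs' ▸ hmult, fun e he' => hMT.2 e (by rw [hed]; exact Multiset.mem_add.2 (Or.inr he'))⟩
    obtain ⟨T3, T4, v3, he2, hed2, hed3, hc3⟩ := Tri.split_cyc h2 hε hM2 hpair hgood
    have he' := he.trans (h.sum he2)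
    rcases piece hc3 with h' | h'
    · refine ⟨(P.scale hν0).sum T4, he'.trans ((((Tri.Eqv.refl _).sum (h'.sum (Tri.Eqv.refl T4)))).trans
        (Tri.sum_comm_left _ _ _)), ?_⟩
      rw [Tri.ed_sum, hν_ed, ← hed3, ← hed2, hs']
    · refine ⟨P.sum T4, he'.trans ((((Tri.Eqv.refl _).sum (h'.sum (Tri.Eqv.refl T4)))).trans
        ((Tri.sum_assoc _ _ _).symm.trans (((P.sum_scale_eqv hν0 hab').sum (Tri.Eqv.refl T4)).trans
          (Tri.sum_assoc _ _ _)))), ?_⟩
      rw [Tri.ed_sum, ← hs', hed2, hed3, hP1]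
  -- the last sign at this exponent
  have hcard : (sgnSet ε (s - P.ed)).card + 1 ≤ (sgnSet ε s).card := by
    have hD : IsD ε (X - C c, i) := ⟨eq_sub_one_of_sq hc1 rfl, hsg⟩
    have hnot : (X - C c, i) ∉ sgnSet ε (s - P.ed) := fun h => hmult (mem_sgnSet.1 h).1
    rw [← Finset.card_insert_of_notMem hnot]
    refine Finset.card_le_card fun y hy => ?_
    rcases Finset.mem_insert.1 hy with rfl | hy
    · exact mem_sgnSet.2 ⟨hT0 ▸ hM.1, hD⟩
    · exact mem_sgnSet.2 ⟨Multiset.mem_of_le (Multiset.sub_le_self s _) (mem_sgnSet.1 hy).1, (mem_sgnSet.1 hy).2⟩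
  obtain ⟨L, hL, hlen⟩ := (ih _ hlt _ rfl).1
  have split' : ∀ T : Tri F ε, T.ed = s → ∃ r ∈ L, T.Eqv (P.sum r) ∨ T.Eqv ((P.scale hν0).sum r) := by
    intro T hT
    obtain ⟨T1, T2, v1, he, hed, hed1, hc'⟩ := Tri.split_cyc h2 hε (max_of_ed (hT0.trans hT.symm) hM) hpair hgood
    obtain ⟨r, hr, hre⟩ := hL T2 (rest (hed.symm.trans hT) (hed1.trans hP1.symm))
    exact ⟨r, hr, (piece hc').imp (fun h => he.trans (h.sum hre)) (fun h => he.trans (h.sum hre))⟩
  refine ⟨⟨L.map (fun r => P.sum r) ++ L.map (fun r => (P.scale hν0).sum r), fun T hT => ?_, ?_⟩, fun hε1 d => ?_⟩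
  · obtain ⟨r, hr, h | h⟩ := split' T hT
    · exact ⟨_, List.mem_append_left _ (List.mem_map_of_mem hr), h⟩
    · exact ⟨_, List.mem_append_right _ (List.mem_map_of_mem hr), h⟩
  · rw [List.length_append, List.length_map, List.length_map]
    calc L.length + L.length ≤ 2 ^ ((sgnSet ε (s - P.ed)).card + 1) := by rw [pow_succ]; omega
      _ ≤ _ := Nat.pow_le_pow_right two_pos hcard
  · subst hε1
    have hdim : Odd (Module.finrank F P.V) := by
      rw [← P.wt_ed, hP1]
      simpa [wt] using odd_of_sgnOK h2 hi hsg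
    have hneg : (P.scale hν0).chi = - P.chi := by
      obtain ⟨k, hk⟩ := hdim
      rw [Tri.chi_scale, hk, pow_succ, qc_mul (pow_ne_zero _ hν0) hν0, pow_mul, sq, show qc ν = -1 from if_neg hν,
        show qc ((ν * ν) ^ k) = 1 from if_pos ((IsSquare.mul_self ν).pow k)]
      ring
    refine ⟨L.map (fun r => if (P.sum r).chi = d then P.sum r else (P.scale hν0).sum r), fun T hT hd => ?_, ?_⟩
    · obtain ⟨r, hr, h⟩ := split' T hT
      refine ⟨_, List.mem_map_of_mem hr, ?_⟩
      rcases h with h | h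
      · rw [if_pos (by rw [← h.chi_eq, hd])]
        exact h
      · rw [if_neg]
        · exact h
        · rw [Tri.chi_sum, ← hd, h.chi_eq, Tri.chi_sum, hneg]
          intro h0'
          rcases qc_cases (P.gram (Module.finBasis F P.V)).det with hp | hp <;>
            rcases qc_cases (r.gram (Module.finBasis F r.V)).det with hr' | hr' <;>
              simp [Tri.chi, hp, hr'] at h0'
    · rw [List.length_map]
      exact hlen.trans (Nat.pow_le_pow_right two_pos (by omega))

end H44.Cls
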