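import Mathlib
import Cfsg.Agent.H44.Cls.Cover
import Cfsg.Agent.H48.PalCount

/-! Palindromic polynomials as characteristic polynomials of orthogonal isometries. -/

set_option autoImplicit false

namespace H44.Cls

open Polynomial

universe u

variable {F : Type u} [Field F]

/-- An isometry with a root `c = ± 1` on a diagonal plane. -/
noncomputable def plane (c e : F) (hc : c * c = 1) (he : e ≠ 0) : Tri F (1 : F) where
  V := Fin 2 → F
  B := LinearMap.mk₂ F (fun u v => u 0 * v 0 + e * (u 1 * v 1))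
    (fun a b x => by simp; ring) (fun r a x => by simp; ring)
    (fun a x y => by simp; ring) (fun r a x => by simp; ring)
  g := Matrix.toLin' (Matrix.diagonal fun _ => c)
  sym x y := by simp only [LinearMap.mk₂_apply]; ring
  nd x hx := by
    have h0 := hx (Pi.single 0 1)
    have h1 := hx (Pi.single 1 1)
    simp at h0 h1
    funext i
    fin_cases i
    · exact h0
    · exact h1.resolve_left he
  iso x y := by
    simp only [LinearMap.mk₂_apply, Matrix.toLin'_apply, Matrix.mulVec_diagonal]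
    linear_combination (x 0 * y 0 + e * (x 1 * y 1)) * hc

theorem plane_charpoly (c e : F) (hc : c * c = 1) (he : e ≠ 0) :
    (plane c e hc he).g.charpoly = (X - C c) ^ 2 := by
  show (Matrix.toLin' (Matrix.diagonal fun _ : Fin 2 => c)).charpoly = _
  rw [Matrix.charpoly_toLin', Matrix.charpoly_diagonal, Finset.prod_const, Finset.card_univ, Fintype.card_fin]

theorem plane_chi [Finite F] (c e : F) (hc : c * c = 1) (he : e ≠ 0) : (plane c e hc he).chi = qc e := by
  let b : Module.Basis (Fin 2) F (plane c e hc he).V := Pi.basisFun F (Fin 2)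
  have hg : (plane c e hc he).gram b = Matrix.diagonal ![1, e] := by
    ext i j
    show (Pi.basisFun F (Fin 2) i) 0 * (Pi.basisFun F (Fin 2) j) 0 +
      e * ((Pi.basisFun F (Fin 2) i) 1 * (Pi.basisFun F (Fin 2) j) 1) = _
    fin_cases i <;> fin_cases j <;> simp
  rw [(plane c e hc he).chi_eq b, hg, Matrix.det_diagonal, Fin.prod_univ_two]
  simp

theorem charpoly_sum {ε : F} (T T' : Tri F ε) : (T.sum T').g.charpoly = T.g.charpoly * T'.g.charpoly :=
  LinearMap.charpoly_prodMap T.g T'.g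

theorem Tri.Eqv.charpoly_eq {ε : F} {T T' : Tri F ε} (h : T.Eqv T') : T.g.charpoly = T'.g.charpoly := by
  obtain ⟨e, h1, -⟩ := h
  rw [← LinearEquiv.charpoly_conj e T.g]
  congr 1
  ext x
  show e (T.g (e.symm x)) = T'.g x
  rw [h1, e.apply_symm_apply]

theorem finrank_eq_natDegree {ε : F} (T : Tri F ε) : Module.finrank F T.V = T.g.charpoly.natDegree :=
  (LinearMap.charpoly_natDegree T.g).symm

/-- The discriminant of the standard symplectic matrix. -/
noncomputable def kappa (F : Type u) [Field F] (n : ℕ) : ℤ := qc (Matrix.J (Fin n) F).det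

/-- A palindromic polynomial without roots `±1`, realised on a form with known discriminant. -/
theorem exists_tri_free [Finite F] (h2 : (2 : F) ≠ 0) {P : F[X]} (hP : H48.SS.Pal P) (h1 : P.eval 1 ≠ 0)
    (hn1 : P.eval (-1) ≠ 0) {n : ℕ} (hn : P.natDegree = 2 * n) :
    ∃ T : Tri F (1 : F), T.g.charpoly = P ∧ T.chi = qc (P.eval 1 * P.eval (-1)) * kappa F n := by
  classical
  obtain ⟨r, A, hA, -, hAP⟩ := hP.real
  obtain rfl : r = n := by
    have := congrArg natDegree hAP
    rw [Matrix.charpoly_natDegree_eq_dim, Fintype.card_sum, Fintype.card_fin, hn] at this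
    omega
  have hdetA : A.det = 1 := H47.symplectic_det_one ⟨A, hA⟩
  set Ai := A⁻¹
  have hu : IsUnit A.det := by rw [hdetA]; exact isUnit_one
  have hAi : Ai * A = 1 := Matrix.nonsing_inv_mul A hu
  have hAi' : A * Ai = 1 := Matrix.mul_nonsing_inv A hu
  set D := A - Ai
  have hprod : (Matrix.scalar (Fin r ⊕ Fin r) (1 : F) - A) * (Matrix.scalar (Fin r ⊕ Fin r) (-1 : F) - A) = D * A := by
    show _ = (A - Ai) * A
    rw [sub_mul A Ai A, hAi, map_one, map_neg, map_one]
    noncomm_ring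
  have hdetD : D.det = P.eval 1 * P.eval (-1) := by
    rw [← hAP, Matrix.eval_charpoly, Matrix.eval_charpoly, ← Matrix.det_mul, hprod, Matrix.det_mul, hdetA, mul_one]
  have hD0 : D.det ≠ 0 := by rw [hdetD]; exact mul_ne_zero h1 hn1
  have hpres := H48.mem_symplectic_iff.1 hA
  have hadj : ∀ u v, H48.sf (A.mulVec u) v = H48.sf u (Ai.mulVec v) := fun u v => by
    rw [← hpres u (Ai.mulVec v), Matrix.mulVec_mulVec, hAi', Matrix.one_mulVec]
  let B : LinearMap.BilinForm F (Fin r ⊕ Fin r → F) := H48.sf ∘ₗ Matrix.toLin' D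
  have hB : ∀ u v, B u v = H48.sf (A.mulVec u) v - H48.sf (Ai.mulVec u) v := fun u v => by
    show H48.sf (Matrix.toLin' D u) v = _
    rw [Matrix.toLin'_apply, Matrix.sub_mulVec, map_sub, LinearMap.sub_apply]
  let T : Tri F (1 : F) :=
    { V := Fin r ⊕ Fin r → F
      B := B
      g := Matrix.toLin' A
      sym := fun u v => by
        rw [one_mul, hB, hB, hadj v u, H48.sf_swap (Ai.mulVec u) v, hadj u v, H48.sf_swap (Ai.mulVec v) u]
        ring
      nd := fun u hu => by
        have h0 : Matrix.toLin' D u = 0 := H48.eq_zero_of_sf fun v => hu v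
        rw [Matrix.toLin'_apply] at h0
        by_contra hu0
        exact hD0 (Matrix.exists_mulVec_eq_zero_iff.1 ⟨u, hu0, h0⟩)
      iso := fun u v => by
        rw [hB, hB, Matrix.toLin'_apply, Matrix.toLin'_apply, hpres, Matrix.mulVec_mulVec _ Ai A, hAi, Matrix.one_mulVec,
          hadj (u) v]
        congr 1
        rw [← hpres (Ai.mulVec u) v, Matrix.mulVec_mulVec, hAi', Matrix.one_mulVec] }
  refine ⟨T, by show (Matrix.toLin' A).charpoly = P; rw [Matrix.charpoly_toLin', hAP], ?_⟩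
  let b : Module.Basis (Fin r ⊕ Fin r) F T.V := Pi.basisFun F _
  have hg : T.gram b = D.transpose * Matrix.J (Fin r) F := by
    ext i j
    show H48.sf (Matrix.toLin' D (Pi.basisFun F _ i)) (Pi.basisFun F _ j) = _
    rw [Matrix.toLin'_apply, Pi.basisFun_apply, Pi.basisFun_apply, Matrix.mulVec_single_one, H48.sf_def,
      Matrix.mulVec_single_one]
    rfl
  have hJ : (Matrix.J (Fin r) F).det ≠ 0 := fun h => by
    have := Matrix.J_det_mul_J_det (Fin r) F
    rw [h, mul_zero] at this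
    exact zero_ne_one this
  rw [T.chi_eq b, hg, Matrix.det_mul, Matrix.det_transpose, qc_mul hD0 hJ, hdetD]
  rfl

/-- A root `c = ± 1` of a palindromic polynomial is a double root with palindromic cofactor. -/
theorem pal_split (h2 : (2 : F) ≠ 0) {P : F[X]} (hP : H48.SS.Pal P) {c : F} (hc : c * c = 1) (h : P.eval c = 0) :
    ∃ R, H48.SS.Pal R ∧ P = (X - C c) ^ 2 * R := by
  have h0 : c ≠ 0 := left_ne_zero_of_mul_eq_one hc
  have hP0 : P.coeff 0 = 1 := by rw [← hP.rev, coeff_zero_reverse, hP.monic.leadingCoeff]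
  obtain ⟨R1, hR1⟩ := dvd_iff_isRoot.2 (show IsRoot P c from h)
  have hR1m : R1.Monic := (monic_X_sub_C c).of_mul_monic_left (hR1 ▸ hP.monic)
  have hR10 : R1.coeff 0 = -c := by
    have := congrArg (fun p : F[X] => p.coeff 0) hR1
    simp only [mul_coeff_zero, coeff_sub, coeff_X_zero, coeff_C_zero, zero_sub, hP0] at this
    linear_combination (-(R1.coeff 0)) * hc + c * this
  have hrP : rp P = P := by rw [rp, hP0, inv_one, map_one, one_mul, hP.rev]
  have hrR : rp R1 = R1 := by
    have h' := congrArg rp hR1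
    rw [hrP, rp_mul, rp_X_sub_C hc, hR1] at h'
    exact (mul_left_cancel₀ (monic_X_sub_C c).ne_zero h').symm
  have hodd : Odd R1.natDegree := by
    have := hP.even
    rw [hR1, (monic_X_sub_C c).natDegree_mul hR1m, natDegree_X_sub_C, add_comm] at this
    exact Nat.not_even_iff_odd.1 fun he => Nat.not_even_iff_odd.2 he.add_one this
  have hz : R1.eval c = 0 := by
    have e := eval_rp (p := R1) hc
    obtain ⟨k, hk⟩ := hodd
    rw [hrR, hR10, hk, pow_succ, pow_mul, sq, hc, one_pow, one_mul, inv_neg,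
      inv_eq_of_mul_eq_one_right hc, neg_mul, hc] at e
    have : (2 : F) * R1.eval c = 0 := by linear_combination e
    exact (mul_eq_zero.1 this).resolve_left h2
  obtain ⟨R, hR⟩ := dvd_iff_isRoot.2 (show IsRoot R1 c from hz)
  have hPR : P = (X - C c) ^ 2 * R := by rw [hR1, hR, sq, mul_assoc]
  refine ⟨R, H48.SS.Pal.quot ⟨(monic_X_sub_C c).pow 2, by simp, ?_⟩ (hPR ▸ hP), hPR⟩
  have h' : rp ((X - C c) ^ 2) = (X - C c) ^ 2 := by rw [rp_pow, rp_X_sub_C hc]
  rw [rp] at h'
  have hc0 : ((X - C c) ^ 2).coeff 0 = 1 := by simp [coeff_zero_eq_eval_zero, sq, hc]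
  rwa [hc0, inv_one, map_one, one_mul] at h'

theorem exists_nonsquare' [Finite F] (h2 : (2 : F) ≠ 0) : ∃ ν : F, ν ≠ 0 ∧ qc ν = -1 := by
  cases nonempty_fintype F
  have hchar : ringChar F ≠ 2 := fun h => h2 (by
    have := ringChar.Nat.cast_ringChar (R := F)
    rw [h] at this
    exact_mod_cast this)
  obtain ⟨ν, hν⟩ := FiniteField.exists_nonsquare hchar
  exact ⟨ν, fun h => hν (h ▸ IsSquare.zero), if_neg hν⟩

/-- Every palindromic polynomial is realised; in both discriminants if it has a root `± 1`. -/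
theorem exists_tri [Finite F] (h2 : (2 : F) ≠ 0) :
    ∀ {P : F[X]}, H48.SS.Pal P → ∀ {n : ℕ}, P.natDegree = 2 * n → ∀ d : ℤ, (d = 1 ∨ d = -1) →
      (P.eval 1 * P.eval (-1) = 0 ∨ qc (P.eval 1 * P.eval (-1)) * kappa F n = d) →
      ∃ T : Tri F (1 : F), T.g.charpoly = P ∧ T.chi = d := by
  suffices ∀ (N : ℕ) (P : F[X]), P.natDegree = N → H48.SS.Pal P → ∀ {n : ℕ}, P.natDegree = 2 * n →
      ∀ d : ℤ, (d = 1 ∨ d = -1) → (P.eval 1 * P.eval (-1) = 0 ∨ qc (P.eval 1 * P.eval (-1)) * kappa F n = d) →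
      ∃ T : Tri F (1 : F), T.g.charpoly = P ∧ T.chi = d from
    fun {P} hP {n} hn d hd h => this _ P rfl hP hn d hd h
  intro N
  induction N using Nat.strong_induction_on with
  | _ N ih =>
    intro P hN hP n hn d hd h
    by_cases hz : P.eval 1 * P.eval (-1) = 0
    swap
    · obtain ⟨h1, hn1⟩ := mul_ne_zero_iff.1 hz
      obtain ⟨T, hT, hchi⟩ := exists_tri_free h2 hP h1 hn1 hn
      exact ⟨T, hT, hchi.trans (h.resolve_left hz)⟩
    obtain ⟨c, hc, hPc⟩ : ∃ c : F, c * c = 1 ∧ P.eval c = 0 := by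
      rcases mul_eq_zero.1 hz with h' | h'
      · exact ⟨1, one_mul 1, h'⟩
      · exact ⟨-1, by ring, h'⟩
    obtain ⟨R, hR, hPR⟩ := pal_split h2 hP hc hPc
    have hdeg : P.natDegree = 2 + R.natDegree := by
      rw [hPR, ((monic_X_sub_C c).pow 2).natDegree_mul hR.monic, natDegree_pow, natDegree_X_sub_C]
    obtain ⟨m, hm⟩ : ∃ m, R.natDegree = 2 * m := ⟨n - 1, by omega⟩
    -- some discriminant is available for the cofactor
    obtain ⟨d', hd', TR, hTR, hchi⟩ : ∃ d' : ℤ, (d' = 1 ∨ d' = -1) ∧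
        ∃ T : Tri F (1 : F), T.g.charpoly = R ∧ T.chi = d' := by
      by_cases hzR : R.eval 1 * R.eval (-1) = 0
      · exact ⟨1, Or.inl rfl, ih _ (by omega) R rfl hR hm 1 (Or.inl rfl) (Or.inl hzR)⟩
      · have hk : qc (R.eval 1 * R.eval (-1)) * kappa F m = 1 ∨ qc (R.eval 1 * R.eval (-1)) * kappa F m = -1 := by
          rcases qc_cases (R.eval 1 * R.eval (-1)) with a | a <;>
            rcases qc_cases (Matrix.J (Fin m) F).det with b | b <;> simp [kappa, a, b]
        exact ⟨_, hk, ih _ (by omega) R rfl hR hm _ hk (Or.inr rfl)⟩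
    obtain ⟨e, he0, he⟩ : ∃ e : F, e ≠ 0 ∧ qc e = d * d' := by
      obtain ⟨ν, hν0, hν⟩ := exists_nonsquare' h2
      have h1 : qc (1 : F) = 1 := if_pos IsSquare.one
      rcases hd with rfl | rfl <;> rcases hd' with rfl | rfl
      · exact ⟨1, one_ne_zero, by rw [h1]; rfl⟩
      · exact ⟨ν, hν0, by rw [hν]; rfl⟩
      · exact ⟨ν, hν0, by rw [hν]; rfl⟩
      · exact ⟨1, one_ne_zero, by rw [h1]; rfl⟩
    refine ⟨(plane c e hc he0).sum TR, by rw [charpoly_sum, plane_charpoly, hTR, hPR], ?_⟩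
    rw [Tri.chi_sum, plane_chi, he, hchi, mul_assoc]
    rcases hd' with rfl | rfl <;> simp

end H44.Cls
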