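import Mathlib
import Cfsg.Agent.H44.Cls.Cover
import Cfsg.Agent.H48.PalCount

/-! Elementary divisors with chosen signs, labelled by sign bits and palindromic polynomials. -/

set_option autoImplicit false

namespace H44.Cls

open Polynomial

universe u

variable {F : Type u} [Field F] {ε : F}

open Classical in
/-- An exceptional block occurs with even multiplicity. -/
theorem even_count (h2 : (2 : F) ≠ 0) (hε : ε * ε = 1) {c : F} (hc : c * c = 1) {i : ℕ}
    (hi : ¬ Tri.SgnOK ε i) (T : Tri F ε) : Even (T.ed.count (X - C c, i)) := by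
  classical
  suffices ∀ N, ∀ T : Tri F ε, wt T.ed = N → Even (T.ed.count (X - C c, i)) from this _ T rfl
  intro N
  induction N using Nat.strong_induction_on with
  | _ N ih =>
  intro T hN
  by_cases hmem : (X - C c, i) ∈ T.ed
  swap
  · rw [Multiset.count_eq_zero_of_notMem hmem]; exact Even.zero
  let E := (T.ed.toFinset.filter fun y => y.1 = X - C c).image Prod.snd
  have hE : i ∈ E := Finset.mem_image.2 ⟨_, Finset.mem_filter.2 ⟨Multiset.mem_toFinset.2 hmem, rfl⟩, rfl⟩
  have hne : E.Nonempty := ⟨i, hE⟩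
  set m := E.max' hne
  have hM : T.Max (X - C c) m := by
    obtain ⟨y, hy, hym⟩ := Finset.mem_image.1 (E.max'_mem hne)
    obtain ⟨hy1, hy2⟩ := Finset.mem_filter.1 hy
    refine ⟨?_, fun e he => E.le_max' e
      (Finset.mem_image.2 ⟨(X - C c, e), Finset.mem_filter.2 ⟨Multiset.mem_toFinset.2 he, rfl⟩, rfl⟩)⟩
    rw [show (X - C c, m) = y from Prod.ext hy2.symm hym.symm]
    exact Multiset.mem_toFinset.1 hy1
  have hm0 : 0 < m := (T.ed_prop hM.1).2.2
  have dec : ∀ {T1 T2 : Tri F ε}, T.ed = T1.ed + T2.ed → (X - C c, m) ∈ T1.ed → wt T2.ed < N := fun h h' => by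
    have := wt_pos h' (irreducible_X_sub_C c) hm0
    rw [← hN, h, wt_add]
    omega
  by_cases hsg : Tri.SgnOK ε m
  · obtain ⟨T1, T2, v1, -, hed, hed1, -⟩ := Tri.split_cyc h2 hε hM (rp_X_sub_C hc) (fun _ _ _ => hsg)
    have hne' : (X - C c, i) ≠ (X - C c, m) := fun h => hi (by
      rw [show i = m from congrArg Prod.snd h]
      exact hsg)
    rw [hed, Multiset.count_add, hed1, Multiset.count_singleton, if_neg hne', zero_add]
    exact ih _ (dec hed (by rw [hed1]; simp)) T2 rfl
  · obtain ⟨T1, T2, v1, w1, -, hed, hed1, -⟩ := Tri.split_two h2 hε hc hM hsg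
    rw [hed, Multiset.count_add, hed1]
    refine Even.add ?_ (ih _ (dec hed (by rw [hed1]; simp)) T2 rfl)
    simp only [Multiset.insert_eq_cons, Multiset.count_cons, Multiset.count_singleton]
    split_ifs <;> decide

open Classical in
/-- The sign bits of a multiplicity and a sign. -/
noncomputable def bitsOf (a : ℕ) (σ : Prop) : Bool × Bool :=
  if Even a then (decide σ, decide σ) else (decide σ, !decide σ)

/-- Number of true bits. -/
def bsum (b : Bool × Bool) : ℕ := b.1.toNat + b.2.toNat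

theorem bsum_le {a : ℕ} {σ : Prop} (hσ : σ → 0 < a) : bsum (bitsOf a σ) ≤ a ∧ Even (a - bsum (bitsOf a σ)) := by
  classical
  unfold bitsOf
  rcases Nat.even_or_odd a with he | ho
  · rw [if_pos he]
    by_cases h : σ
    · obtain ⟨k, hk⟩ := he
      have := hσ h
      simp [bsum, h]
      exact ⟨by omega, k - 1, by omega⟩
    · simpa [bsum, h] using he
  · rw [if_neg (Nat.not_even_iff_odd.2 ho)]
    obtain ⟨k, hk⟩ := ho
    by_cases h : σ <;> simp [bsum, h] <;> exact ⟨by omega, k, by omega⟩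

theorem bitsOf_fst {a : ℕ} {σ : Prop} : (bitsOf a σ).1 = true ↔ σ := by
  classical
  unfold bitsOf
  split_ifs <;> simp

/-- An exponent `i` divisor other than at `X ± 1`. -/
def IsOther (i : ℕ) (x : F[X] × ℕ) : Prop := x.2 = i ∧ x.1 ≠ X - C 1 ∧ x.1 ≠ X - C (-1)

open Classical in
/-- The irreducible factors at exponent `i` other than `X ± 1`. -/
noncomputable def othersAt (s : Multiset (F[X] × ℕ)) (i : ℕ) : Multiset F[X] :=
  (s.filter fun x => IsOther i x).map Prod.fst

open Classical in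
/-- The sign bits of a signed elementary divisor multiset at exponent `i`. -/
noncomputable def lblBits (s : Multiset (F[X] × ℕ)) (A : Finset (F[X] × ℕ)) (i : ℕ) : (Bool × Bool) × (Bool × Bool) :=
  if Tri.SgnOK ε i then (bitsOf (s.count (X - C 1, i)) ((X - C 1, i) ∈ A),
    bitsOf (s.count (X - C (-1), i)) ((X - C (-1), i) ∈ A))
  else ((false, false), (false, false))

open Classical in
/-- The factors of the palindromic polynomial at exponent `i`. -/
noncomputable def lblFac (ε : F) (s : Multiset (F[X] × ℕ)) (A : Finset (F[X] × ℕ)) (i : ℕ) : Multiset F[X] :=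
  Multiset.replicate (s.count (X - C 1, i) - bsum (lblBits (ε := ε) s A i).1) (X - C 1) +
    Multiset.replicate (s.count (X - C (-1), i) - bsum (lblBits (ε := ε) s A i).2) (X - C (-1)) + othersAt s i

open Classical in
theorem mem_othersAt {s : Multiset (F[X] × ℕ)} {i : ℕ} {p : F[X]} :
    p ∈ othersAt s i ↔ (p, i) ∈ s ∧ p ≠ X - C 1 ∧ p ≠ X - C (-1) := by
  rw [othersAt, Multiset.mem_map]
  constructor
  · rintro ⟨⟨q, e⟩, hx, rfl⟩
    rw [Multiset.mem_filter] at hx
    obtain ⟨hx, rfl, h1, h2⟩ := hx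
    exact ⟨hx, h1, h2⟩
  · rintro ⟨hx, h1, h2⟩
    exact ⟨(p, i), Multiset.mem_filter.2 ⟨hx, rfl, h1, h2⟩, rfl⟩

open Classical in
theorem count_othersAt (s : Multiset (F[X] × ℕ)) (i : ℕ) (p : F[X]) :
    (othersAt s i).count p = if p ≠ X - C 1 ∧ p ≠ X - C (-1) then s.count (p, i) else 0 := by
  classical
  rw [othersAt]
  induction s using Multiset.induction with
  | empty => simp
  | cons a s ih =>
    obtain ⟨q, e⟩ := a
    by_cases hcond : IsOther i (q, e)
    · rw [Multiset.filter_cons_of_pos (s := s) hcond, Multiset.map_cons, Multiset.count_cons, ih,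
        Multiset.count_cons]
      obtain ⟨rfl, h1, h2⟩ := hcond
      by_cases hp : p = q
      · subst hp; simp only [h1, h2, ne_eq, not_false_eq_true, and_self, if_true]
      · simp [hp]
    · rw [Multiset.filter_cons_of_neg (s := s) hcond, ih, Multiset.count_cons]
      by_cases hp : p = q ∧ i = e
      · obtain ⟨rfl, rfl⟩ := hp
        rw [if_neg (fun h => hcond ⟨rfl, h⟩), if_neg (fun h => hcond ⟨rfl, h⟩)]
      · rw [if_neg (show (p, i) ≠ (q, e) from fun h => hp ⟨congrArg Prod.fst h, congrArg Prod.snd h⟩), add_zero]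

theorem one_ne_neg_one (h2 : (2 : F) ≠ 0) : (X - C 1 : F[X]) ≠ X - C (-1) := fun h => h2 (by
  have := congrArg (fun p : F[X] => p.coeff 0) h
  simp at this
  linear_combination -this)

open Classical in
theorem count_lblFac (h2 : (2 : F) ≠ 0) (s : Multiset (F[X] × ℕ))
    (A : Finset (F[X] × ℕ)) (i : ℕ) (p : F[X]) :
    (lblFac ε s A i).count p =
      if p = X - C 1 then s.count (p, i) - bsum (lblBits (ε := ε) s A i).1
      else if p = X - C (-1) then s.count (p, i) - bsum (lblBits (ε := ε) s A i).2 else s.count (p, i) := by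
  have hne := one_ne_neg_one h2
  unfold lblFac
  rw [Multiset.count_add, Multiset.count_add, Multiset.count_replicate, Multiset.count_replicate, count_othersAt]
  by_cases h1 : p = X - C 1
  · subst h1
    rw [if_pos rfl, if_neg hne.symm, if_neg (fun h => h.1 rfl), if_pos rfl, add_zero, add_zero]
  · by_cases h1' : p = X - C (-1)
    · subst h1'
      rw [if_neg hne, if_pos rfl, if_neg (fun h => h.2 rfl), if_neg hne.symm, if_pos rfl, zero_add, add_zero]
    · rw [if_neg (Ne.symm h1), if_neg (Ne.symm h1'), if_pos ⟨h1, h1'⟩, if_neg h1, if_neg h1', zero_add, zero_add]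

section Realised

variable (h2 : (2 : F) ≠ 0) (hε : ε * ε = 1) (T : Tri F ε) {A : Finset (F[X] × ℕ)}
  (hA : A ⊆ sgnSet ε T.ed) (i : ℕ)

include h2 hε hA

open Classical in
theorem lblBits_spec :
    (bsum (lblBits (ε := ε) T.ed A i).1 ≤ T.ed.count (X - C 1, i) ∧
      Even (T.ed.count (X - C 1, i) - bsum (lblBits (ε := ε) T.ed A i).1)) ∧
    (bsum (lblBits (ε := ε) T.ed A i).2 ≤ T.ed.count (X - C (-1), i) ∧
      Even (T.ed.count (X - C (-1), i) - bsum (lblBits (ε := ε) T.ed A i).2)) := by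
  have hpos : ∀ y, y ∈ A → 0 < T.ed.count y := fun y hy =>
    Multiset.count_pos.2 (mem_sgnSet.1 (hA hy)).1
  unfold lblBits
  split_ifs with hs
  · exact ⟨bsum_le (hpos _), bsum_le (hpos _)⟩
  · simp only [bsum, Bool.toNat_false, add_zero, tsub_zero, zero_le, true_and]
    exact ⟨even_count h2 hε (one_mul 1) hs T, even_count h2 hε (by ring) hs T⟩

theorem lblFac_prop {p : F[X]} (hp : p ∈ lblFac ε T.ed A i) :
    p.Monic ∧ Irreducible p ∧ p.coeff 0 ≠ 0 := by
  classical
  simp only [lblFac, Multiset.mem_add, Multiset.mem_replicate, mem_othersAt] at hp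
  rcases hp with (⟨-, rfl⟩ | ⟨-, rfl⟩) | ⟨hp, -, -⟩
  · exact ⟨monic_X_sub_C _, irreducible_X_sub_C _, by simp⟩
  · exact ⟨monic_X_sub_C _, irreducible_X_sub_C _, by simp⟩
  · exact ⟨(T.ed_prop hp).1, (T.ed_prop hp).2.1, T.coeff_ne_zero (x := (p, i)) hp⟩

theorem othersAt_pal : rp (othersAt T.ed i).prod = (othersAt T.ed i).prod ∧
    Even (othersAt T.ed i).prod.natDegree ∧ (othersAt T.ed i).prod.coeff 0 = 1 := by
  classical
  set O := othersAt T.ed i
  have hO : ∀ p ∈ O, p.Monic ∧ Irreducible p ∧ p.coeff 0 ≠ 0 ∧ p ≠ X - C 1 ∧ p ≠ X - C (-1) := fun p hp => by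
    obtain ⟨h, h1, h1'⟩ := mem_othersAt.1 hp
    exact ⟨(T.ed_prop h).1, (T.ed_prop h).2.1, T.coeff_ne_zero (x := (p, i)) h, h1, h1'⟩
  have hp1 : rp (X - C (1 : F)) = X - C 1 := rp_X_sub_C (one_mul 1)
  have hp2 : rp (X - C (-1 : F)) = X - C (-1) := rp_X_sub_C (by ring)
  have hmap : O.map rp = O := by
    refine Multiset.ext.2 fun p => ?_
    by_cases hp : p ∈ O
    · obtain ⟨hm, hirr, h0, h1, h1'⟩ := hO p hp
      conv_lhs => rw [← rp_rp hm h0]
      rw [Multiset.count_map_eq_count _ _ (fun a ha b hb hab => by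
          rw [← rp_rp (hO a ha).1 (hO a ha).2.2.1, hab, rp_rp (hO b hb).1 (hO b hb).2.2.1])]
      · rw [count_othersAt, count_othersAt, if_pos, if_pos ⟨h1, h1'⟩, Tri.count_rp hε T hm hirr h0]
        exact ⟨fun h => h1 (by rw [← rp_rp hm h0, h, hp1]), fun h => h1' (by rw [← rp_rp hm h0, h, hp2])⟩
      · obtain ⟨h, -, -⟩ := mem_othersAt.1 hp
        exact mem_othersAt.2 ⟨Tri.mem_rp hε T (x := (p, i)) h,
          fun h => h1 (by rw [← rp_rp hm h0, h, hp1]), fun h => h1' (by rw [← rp_rp hm h0, h, hp2])⟩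
    · rw [Multiset.count_eq_zero_of_notMem hp, Multiset.count_eq_zero]
      intro h
      obtain ⟨q, hq, rfl⟩ := Multiset.mem_map.1 h
      obtain ⟨hm, hirr, h0, h1, h1'⟩ := hO q hq
      obtain ⟨h', -, -⟩ := mem_othersAt.1 hq
      exact hp (mem_othersAt.2 ⟨Tri.mem_rp hε T (x := (q, i)) h',
        fun h => h1 (by rw [← rp_rp hm h0, h, hp1]), fun h => h1' (by rw [← rp_rp hm h0, h, hp2])⟩)
  have hrp : rp O.prod = O.prod := by rw [rp_multiset_prod, hmap]
  have h0 : O.prod.coeff 0 ≠ 0 := by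
    rw [coeff_zero_multiset_prod, Ne, Multiset.prod_eq_zero_iff]
    intro h
    obtain ⟨p, hp, hp0⟩ := Multiset.mem_map.1 h
    exact (hO p hp).2.2.1 hp0
  have hev : ∀ c : F, (∀ p ∈ O, p ≠ X - C c) → O.prod.eval c ≠ 0 := by
    intro c hc h
    rw [← IsRoot.def, ← dvd_iff_isRoot] at h
    obtain ⟨p, hp, hd⟩ := (prime_X_sub_C c).exists_mem_multiset_dvd h
    exact hc p hp (Polynomial.eq_of_monic_of_associated (hO p hp).1 (monic_X_sub_C c)
      ((irreducible_X_sub_C c).associated_of_dvd (hO p hp).2.1 hd).symm)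
  exact ⟨hrp, rp_self_even h2 hrp h0 (hev 1 fun p hp => (hO p hp).2.2.2.1)
    (hev (-1) fun p hp => (hO p hp).2.2.2.2)⟩

theorem lblFac_pal : H48.SS.Pal (lblFac ε T.ed A i).prod := by
  classical
  obtain ⟨⟨-, k, hk⟩, -, l, hl⟩ := lblBits_spec h2 hε T hA i
  obtain ⟨hrp, ⟨d, hd⟩, hc0⟩ := othersAt_pal h2 hε T hA i
  have hOm : (othersAt T.ed i).prod.Monic := by
    simpa using monic_multiset_prod_of_monic (othersAt T.ed i) (fun p => p)
      fun p hp => (T.ed_prop (mem_othersAt.1 hp).1).1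
  have e : (lblFac ε T.ed A i).prod = (X - C 1) ^ (2 * k) * (X - C (-1)) ^ (2 * l) * (othersAt T.ed i).prod := by
    rw [lblFac, Multiset.prod_add, Multiset.prod_add, Multiset.prod_replicate, Multiset.prod_replicate, hk, hl,
      ← two_mul, ← two_mul]
  have hm : (lblFac ε T.ed A i).prod.Monic := by
    simpa using monic_multiset_prod_of_monic (lblFac ε T.ed A i) (fun p => p)
      fun p hp => (lblFac_prop h2 hε T hA i hp).1
  have hc : (lblFac ε T.ed A i).prod.coeff 0 = 1 := by
    rw [e, mul_coeff_zero, mul_coeff_zero, hc0, mul_one, coeff_zero_eq_eval_zero, coeff_zero_eq_eval_zero]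
    simp [pow_mul]
  have hdeg : (lblFac ε T.ed A i).prod.natDegree = 2 * k + 2 * l + (d + d) := by
    have M1 : ((X - C (1 : F)) ^ (2 * k)).Monic := (monic_X_sub_C 1).pow _
    have M2 : ((X - C (-1 : F)) ^ (2 * l)).Monic := (monic_X_sub_C (-1)).pow _
    rw [e, Monic.natDegree_mul (M1.mul M2) hOm, Monic.natDegree_mul M1 M2, hd, natDegree_pow, natDegree_pow,
      natDegree_X_sub_C, natDegree_X_sub_C]
    simp
  refine ⟨hm, ⟨k + l + d, by rw [hdeg]; ring⟩, ?_⟩
  have h := congrArg rp e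
  rw [rp_mul, rp_mul, rp_pow, rp_pow, rp_X_sub_C (one_mul 1), rp_X_sub_C (by ring), hrp, ← e, rp, hc, inv_one,
    map_one, one_mul] at h
  exact h

end Realised

/-- Recovering a signed multiset from bits and factors. -/
theorem lbl_injective (h2 : (2 : F) ≠ 0) (hε : ε * ε = 1) {T T' : Tri F ε} {A A' : Finset (F[X] × ℕ)}
    (hA : A ⊆ sgnSet ε T.ed) (hA' : A' ⊆ sgnSet ε T'.ed)
    (hb : ∀ i, 0 < i → lblBits (ε := ε) T.ed A i = lblBits (ε := ε) T'.ed A' i)
    (hp : ∀ i, 0 < i → (lblFac ε T.ed A i).prod = (lblFac ε T'.ed A' i).prod) : T.ed = T'.ed ∧ A = A' := by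
  classical
  have hf : ∀ i, 0 < i → lblFac ε T.ed A i = lblFac ε T'.ed A' i := fun i hi => by
    have h := congrArg UniqueFactorizationMonoid.normalizedFactors (hp i hi)
    have key : ∀ (S : Tri F ε) (B : Finset (F[X] × ℕ)), B ⊆ sgnSet ε S.ed →
        UniqueFactorizationMonoid.normalizedFactors (lblFac ε S.ed B i).prod = lblFac ε S.ed B i := fun S B hB => by
      rw [UniqueFactorizationMonoid.normalizedFactors_prod_eq _ fun p hp => (lblFac_prop h2 hε S hB i hp).2.1]
      exact (Multiset.map_congr rfl fun p hp => (lblFac_prop h2 hε S hB i hp).1.normalize_eq_self).trans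
        (Multiset.map_id' _)
    rwa [key T A hA, key T' A' hA'] at h
  have hed : T.ed = T'.ed := by
    refine Multiset.ext.2 fun ⟨p, i⟩ => ?_
    by_cases hi : 0 < i
    · have h := congrArg (Multiset.count p) (hf i hi)
      rw [count_lblFac h2, count_lblFac h2] at h
      obtain ⟨⟨a1, -⟩, ⟨a2, -⟩⟩ := lblBits_spec h2 hε T hA i
      obtain ⟨⟨b1, -⟩, ⟨b2, -⟩⟩ := lblBits_spec h2 hε T' hA' i
      rw [hb i hi] at h a1 a2
      split_ifs at h with h1 h1'
      · subst h1; omega
      · subst h1'; omega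
      · exact h
    · rw [Multiset.count_eq_zero_of_notMem fun h => hi (T.ed_prop h).2.2,
        Multiset.count_eq_zero_of_notMem fun h => hi (T'.ed_prop h).2.2]
  refine ⟨hed, ?_⟩
  have main : ∀ {S S' : Tri F ε} {B B' : Finset (F[X] × ℕ)}, B ⊆ sgnSet ε S.ed → B' ⊆ sgnSet ε S'.ed →
      (∀ i, 0 < i → lblBits (ε := ε) S.ed B i = lblBits (ε := ε) S'.ed B' i) → B ⊆ B' := by
    intro S S' B B' hB _ hbb x hx
    obtain ⟨hxs, hx1, hxs'⟩ := mem_sgnSet.1 (hB hx)
    have hi := (S.ed_prop hxs).2.2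
    obtain ⟨p, i⟩ := x
    have h := hbb i hi
    rw [lblBits, lblBits, if_pos hxs', if_pos hxs', Prod.mk.injEq] at h
    rcases hx1 with hp1 | hp1 <;> simp only at hp1 <;> subst hp1
    · exact bitsOf_fst.1 (h.1 ▸ bitsOf_fst.2 hx)
    · exact bitsOf_fst.1 (h.2 ▸ bitsOf_fst.2 hx)
  exact Finset.Subset.antisymm (main hA hA' hb) (main hA' hA fun i hi => (hb i hi).symm)

end H44.Cls
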