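import Mathlib

/-! Numerical bounds for the products in the count of orthogonal classes. -/

set_option autoImplicit false

namespace H44.Cls

open Finset

theorem euler_lower (m : ℕ) : (5 / 9 : ℝ) ≤ ∏ k ∈ range m, (1 - (1 / 3 : ℝ) ^ (k + 1)) := by
  have hstep : ∀ d, (5 / 9 : ℝ) * (1 + 3 / 5 * (1 / 3 : ℝ) ^ (d + 4)) ≤
      ∏ k ∈ range (d + 4), (1 - (1 / 3 : ℝ) ^ (k + 1)) := by
    intro d
    induction d with
    | zero => norm_num [Finset.prod_range_succ]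
    | succ d ih =>
      rw [show d + 1 + 4 = d + 4 + 1 by omega, Finset.prod_range_succ _ (d + 4), pow_succ]
      set y := (1 / 3 : ℝ) ^ (d + 4) with hy
      have hy0 : 0 ≤ y := by positivity
      have hy1 : y ≤ 1 / 81 :=
        (pow_le_pow_of_le_one (by norm_num) (by norm_num) (by omega : 4 ≤ d + 4)).trans (by norm_num)
      have h1 : 0 ≤ 1 - y * (1 / 3) := by linarith
      refine le_trans ?_ (mul_le_mul_of_nonneg_right ih h1)
      nlinarith
  rcases Nat.lt_or_ge m 4 with h | h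
  · interval_cases m <;> norm_num [Finset.prod_range_succ]
  · obtain ⟨d, rfl⟩ : ∃ d, m = d + 4 := ⟨m - 4, by omega⟩
    refine le_trans ?_ (hstep d)
    have : (0 : ℝ) ≤ (1 / 3 : ℝ) ^ (d + 4) := by positivity
    nlinarith

theorem euler_le {y : ℝ} (hy0 : 0 ≤ y) (hy : y ≤ 1 / 3) (m : ℕ) :
    ∏ k ∈ range m, (1 - y ^ (k + 1))⁻¹ ≤ 9 / 5 := by
  rw [Finset.prod_inv_distrib]
  have h : (5 / 9 : ℝ) ≤ ∏ k ∈ range m, (1 - y ^ (k + 1)) :=
    (euler_lower m).trans (Finset.prod_le_prod (fun k _ => sub_nonneg.2 (pow_le_one₀ (by norm_num) (by norm_num)))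
      fun k _ => by gcongr)
  exact (inv_anti₀ (by norm_num) h).trans (by norm_num)

theorem odd_tail_le {x : ℝ} (hx0 : 0 ≤ x) (hx2 : x ^ 2 ≤ 1 / 3) (m : ℕ) :
    ∏ k ∈ range m, (1 + x ^ (2 * k + 3)) ≤ 13103 / 10000 := by
  have hx : x ≤ 57736 / 100000 := by nlinarith
  have h3 : x ^ 3 ≤ 19247 / 100000 := (pow_le_pow_left₀ hx0 hx 3).trans (by norm_num)
  have h5 : x ^ 5 ≤ 6417 / 100000 := (pow_le_pow_left₀ hx0 hx 5).trans (by norm_num)
  have h7 : x ^ 7 ≤ 2140 / 100000 := (pow_le_pow_left₀ hx0 hx 7).trans (by norm_num)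
  have hstep : ∀ d, ∏ k ∈ range (d + 3), (1 + x ^ (2 * k + 3)) ≤
      13103 / 10000 * (1 - 1 / 2 * x ^ (2 * d + 7)) := by
    intro d
    induction d with
    | zero =>
      simp only [zero_add, Finset.prod_range_succ, Finset.prod_range_zero, one_mul, mul_zero, mul_one]
      norm_num only
      have := pow_nonneg hx0 3
      have := pow_nonneg hx0 5
      have := pow_nonneg hx0 7
      calc (1 + x ^ 3) * (1 + x ^ 5) * (1 + x ^ 7) ≤
          (1 + 19247 / 100000) * (1 + 6417 / 100000) * (1 + 2140 / 100000) := by gcongr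
        _ ≤ 13103 / 10000 * (1 - 1 / 2 * (2140 / 100000)) := by norm_num
        _ ≤ 13103 / 10000 * (1 - 1 / 2 * x ^ 7) := by gcongr
    | succ d ih =>
      rw [show d + 1 + 3 = d + 3 + 1 by omega, Finset.prod_range_succ _ (d + 3)]
      have hy : x ^ (2 * (d + 1) + 7) = x ^ (2 * d + 7) * x ^ 2 := by rw [← pow_add]; ring_nf
      have hy' : x ^ (2 * (d + 3) + 3) = x ^ (2 * d + 7) * x ^ 2 := by rw [← pow_add]; ring_nf
      rw [hy, hy']
      have hy0 : 0 ≤ x ^ (2 * d + 7) := by positivity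
      have hx20 : 0 ≤ x ^ 2 := by positivity
      refine le_trans (mul_le_mul_of_nonneg_right ih (by positivity)) ?_
      nlinarith [mul_le_mul_of_nonneg_left hx2 hy0, mul_nonneg (mul_nonneg hy0 hy0) hx20]
  rcases Nat.lt_or_ge m 3 with h | h
  · have h0 := hstep 0
    have hp : 0 ≤ x ^ (2 * 0 + 7) := by positivity
    refine le_trans ?_ (h0.trans (by generalize x ^ (2 * 0 + 7) = t at hp ⊢; nlinarith))
    exact Finset.prod_le_prod_of_subset_of_one_le (Finset.range_subset_range.2 (by omega)) (fun k _ => by positivity)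
      fun k _ _ => le_add_of_nonneg_right (pow_nonneg hx0 _)
  · obtain ⟨d, rfl⟩ : ∃ d, m = d + 3 := ⟨m - 3, by omega⟩
    refine (hstep d).trans ?_
    have : 0 ≤ x ^ (2 * d + 7) := by positivity
    nlinarith

theorem odd_pair_le {x : ℝ} (hx0 : 0 ≤ x) (hx2 : x ^ 2 ≤ 1 / 3) (m : ℕ) :
    ∏ k ∈ range m, (1 + x ^ (2 * k + 1)) ^ 4 + ∏ k ∈ range m, (1 - x ^ (2 * k + 1)) ^ 4 ≤ 92 / 5 := by
  rcases m with _ | m
  · norm_num
  rw [Finset.prod_range_succ', Finset.prod_range_succ']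
  have hx1 : x ≤ 1 := by nlinarith
  have e : ∀ k, 2 * (k + 1) + 1 = 2 * k + 3 := fun k => by omega
  simp only [e, mul_zero, zero_add, pow_one]
  have hle : ∏ k ∈ range m, (1 - x ^ (2 * k + 3)) ^ 4 ≤ ∏ k ∈ range m, (1 + x ^ (2 * k + 3)) ^ 4 :=
    Finset.prod_le_prod (fun k _ => by positivity) fun k _ =>
      pow_le_pow_left₀ (sub_nonneg.2 (pow_le_one₀ hx0 hx1))
        (by linarith [pow_nonneg hx0 (2 * k + 3)]) 4
  have hR : ∏ k ∈ range m, (1 + x ^ (2 * k + 3)) ^ 4 ≤ (13103 / 10000) ^ 4 := by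
    rw [Finset.prod_pow]
    exact pow_le_pow_left₀ (Finset.prod_nonneg fun k _ => by positivity) (odd_tail_le hx0 hx2 m) 4
  have hR0 : 0 ≤ ∏ k ∈ range m, (1 + x ^ (2 * k + 3)) ^ 4 := Finset.prod_nonneg fun k _ => by positivity
  have h4 : (1 + x) ^ 4 + (1 - x) ^ 4 ≤ 56 / 9 := by
    rw [show (1 + x) ^ 4 + (1 - x) ^ 4 = 2 + 12 * x ^ 2 + 2 * (x ^ 2) ^ 2 by ring]
    nlinarith
  have h4' : 0 ≤ (1 - x) ^ 4 := by positivity
  calc _ ≤ (∏ k ∈ range m, (1 + x ^ (2 * k + 3)) ^ 4) * (1 + x) ^ 4 +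
      (∏ k ∈ range m, (1 + x ^ (2 * k + 3)) ^ 4) * (1 - x) ^ 4 := by gcongr
    _ = (∏ k ∈ range m, (1 + x ^ (2 * k + 3)) ^ 4) * ((1 + x) ^ 4 + (1 - x) ^ 4) := by ring
    _ ≤ (13103 / 10000) ^ 4 * (56 / 9) := mul_le_mul hR h4 (by positivity) (by norm_num)
    _ ≤ 92 / 5 := by norm_num

end H44.Cls
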