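import Mathlib
import Cfsg.Agent.H44.Cls.Labels
import Cfsg.Agent.H44.Cls.Numeric

/-! The number of labels of weight `2n`. -/

set_option autoImplicit false

namespace H44.Cls

open Finset

/-- Four sign bits. -/
abbrev Bits := (Bool × Bool) × (Bool × Bool)

/-- Number of true bits. -/
def w4 (b : Bits) : ℕ := bsum b.1 + bsum b.2

/-- All bit patterns at odd exponents, none at even ones. -/
def oddBits (j : ℕ) : Finset Bits := if Even j then Finset.univ else {((false, false), (false, false))}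

/-- No bit at all. -/
def noBits (_ : ℕ) : Finset Bits := {((false, false), (false, false))}

universe u

variable (F : Type u) [Field F] [Fintype F]

/-- A label: bits and free coefficients of a palindromic polynomial at each exponent. -/
abbrev Lab (N : ℕ) := Fin N → Bits × Σ e : Fin (N + 1), (Fin e.1 → F)

/-- The labels of weight `N` with the allowed bits `D`. -/
noncomputable def labSet (N : ℕ) (D : ℕ → Finset Bits) : Finset (Lab F N) :=
  letI := Classical.decEq (Lab F N)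
  Finset.univ.filter fun f => (∀ j, (f j).1 ∈ D j.1) ∧
    ∑ j : Fin N, (j.1 + 1) * (w4 (f j).1 + 2 * (f j).2.1.1) = N

/-- The factor of an exponent in the weighted count. -/
noncomputable def lfac (q x y : ℝ) (N : ℕ) (D : ℕ → Finset Bits) (j : ℕ) : ℝ :=
  (∑ b ∈ D j, y ^ ((j + 1) * w4 b)) *
    (if j = 0 then 1 else ∑ e ∈ range (N + 1), (q * x ^ (2 * (j + 1))) ^ e)

theorem card_labSet_le {n : ℕ} (hn : 0 < n) (D : ℕ → Finset Bits) {x : ℝ} (hx : 0 ≤ x)
    (hqx : (Fintype.card F : ℝ) * x ^ 2 = 1) :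
    ((labSet F (2 * n) D).card : ℝ) ≤ (Fintype.card F : ℝ) ^ n *
      ((∏ j ∈ range (2 * n), lfac (Fintype.card F) x x (2 * n) D j +
        ∏ j ∈ range (2 * n), lfac (Fintype.card F) x (-x) (2 * n) D j) / 2) := by
  classical
  set q : ℝ := (Fintype.card F : ℝ) with hq
  set N := 2 * n with hN
  have hN0 : 0 < N := by omega
  let P : Finset (Fin N → Bits × Fin (N + 1)) := Finset.univ.filter fun f => (∀ j, (f j).1 ∈ D j.1) ∧
    ∑ j : Fin N, (j.1 + 1) * (w4 (f j).1 + 2 * (f j).2.1) = N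
  let proj : Lab F N → (Fin N → Bits × Fin (N + 1)) := fun f j => ((f j).1, (f j).2.1)
  have h1 : (labSet F N D).card = ∑ p ∈ P, ((labSet F N D).filter fun f => proj f = p).card :=
    Finset.card_eq_sum_card_fiberwise fun f hf => by
      simp only [labSet, Finset.coe_filter, Finset.mem_univ, true_and, Set.mem_ofPred_eq] at hf
      simpa [P, proj] using hf
  have h2 : ∀ p : Fin N → Bits × Fin (N + 1), ((labSet F N D).filter fun f => proj f = p).card ≤
      ∏ j : Fin N, Fintype.card F ^ (p j).2.1 := by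
    intro p
    have : ((labSet F N D).filter fun f => proj f = p).card ≤
        (Fintype.piFinset fun j : Fin N => (Finset.univ : Finset (Fin (p j).2.1 → F)).image
          fun c => ((p j).1, (⟨(p j).2, c⟩ : Σ e : Fin (N + 1), (Fin e.1 → F)))).card := by
      refine Finset.card_le_card fun f hf => Fintype.mem_piFinset.2 fun j => ?_
      obtain ⟨-, hfp⟩ := Finset.mem_filter.1 hf
      subst hfp
      exact Finset.mem_image.2 ⟨(f j).2.2, Finset.mem_univ _, rfl⟩
    refine this.trans ?_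
    rw [Fintype.card_piFinset]
    exact Finset.prod_le_prod' fun j _ => Finset.card_image_le.trans (by simp)
  -- weights
  let T : (Fin N → Bits × Fin (N + 1)) → ℝ → ℝ := fun p y =>
    ∏ j : Fin N, y ^ ((j.1 + 1) * w4 (p j).1) * (if j.1 = 0 then 1 else (q * x ^ (2 * (j.1 + 1))) ^ (p j).2.1)
  let Q : Finset (Fin N → Bits × Fin (N + 1)) := Fintype.piFinset fun j : Fin N =>
    D j.1 ×ˢ (if j.1 = 0 then {0} else Finset.univ)
  have hT : ∀ y, ∑ p ∈ Q, T p y = ∏ j ∈ range N, lfac q x y N D j := by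
    intro y
    rw [← Fin.prod_univ_eq_prod_range (lfac q x y N D) N]
    rw [show (∑ p ∈ Q, T p y) = ∏ j : Fin N, ∑ c ∈ D j.1 ×ˢ (if j.1 = 0 then {0} else Finset.univ),
        y ^ ((j.1 + 1) * w4 c.1) * (if j.1 = 0 then 1 else (q * x ^ (2 * (j.1 + 1))) ^ (c.2 : Fin (N + 1)).1) from
      (Finset.prod_univ_sum _ fun (j : Fin N) (c : Bits × Fin (N + 1)) =>
        y ^ ((j.1 + 1) * w4 c.1) * (if j.1 = 0 then 1 else (q * x ^ (2 * (j.1 + 1))) ^ c.2.1)).symm]
    refine Finset.prod_congr rfl fun j _ => ?_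
    unfold lfac
    rw [Finset.sum_product, Finset.sum_mul]
    refine Finset.sum_congr rfl fun b _ => ?_
    by_cases hj : j.1 = 0
    · simp [hj]
    · rw [if_neg hj, if_neg hj, Finset.mul_sum,
        ← Fin.sum_univ_eq_sum_range (fun e => y ^ ((j.1 + 1) * w4 b) * (q * x ^ (2 * (j.1 + 1))) ^ e) (N + 1)]
      simp [hj]
  let drop : (Fin N → Bits × Fin (N + 1)) → (Fin N → Bits × Fin (N + 1)) := fun p j =>
    if j.1 = 0 then ((p j).1, 0) else p j
  have hval : ∀ p ∈ P, (∏ j : Fin N, (q : ℝ) ^ (p j).2.1) = q ^ n * T (drop p) x ∧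
      (∏ j : Fin N, (q : ℝ) ^ (p j).2.1) = q ^ n * T (drop p) (-x) := by
    intro p hp
    obtain ⟨-, hw⟩ := (Finset.mem_filter.1 hp).2
    have hxN : q ^ n * x ^ N = 1 := by rw [hN, pow_mul, ← mul_pow, hqx, one_pow]
    have key : ∀ y : ℝ, y ^ 2 = x ^ 2 → q ^ n * T (drop p) y = ∏ j : Fin N, q ^ (p j).2.1 := by
      intro y hy
      have e1 : T (drop p) y = ∏ j : Fin N, (y ^ ((j.1 + 1) * (w4 (p j).1 + 2 * (p j).2.1)) * q ^ (p j).2.1) := by
        refine Finset.prod_congr rfl fun j _ => ?_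
        have hc : (q * x ^ (2 * (j.1 + 1))) ^ (p j).2.1 = q ^ (p j).2.1 * y ^ ((j.1 + 1) * (2 * (p j).2.1)) := by
          rw [mul_pow, pow_mul x 2, ← hy, ← pow_mul, ← pow_mul]
          ring_nf
        rw [Nat.mul_add (j.1 + 1), pow_add, mul_assoc, mul_comm (y ^ ((j.1 + 1) * (2 * (p j).2.1))), ← hc]
        by_cases hj : j.1 = 0
        · simp only [drop, hj, if_true, zero_add, mul_one, hqx, one_pow]
        · simp only [drop, hj, if_false]
      rw [e1, Finset.prod_mul_distrib, Finset.prod_pow_eq_pow_sum, hw, ← mul_assoc,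
        show y ^ N = x ^ N by rw [hN, pow_mul, pow_mul, hy], hxN, one_mul]
    exact ⟨(key x rfl).symm, (key (-x) (by ring)).symm⟩
  have hmem : ∀ p ∈ P, drop p ∈ Q := fun p hp => Fintype.mem_piFinset.2 fun j => by
    obtain ⟨hD, -⟩ := (Finset.mem_filter.1 hp).2
    by_cases hj : j.1 = 0
    · simpa [drop, hj] using hj ▸ hD j
    · simpa [drop, hj] using hD j
  have hinj : Set.InjOn drop P := by
    intro p hp p' hp' h
    have hne : ∀ j : Fin N, j.1 ≠ 0 → p j = p' j := fun j hj => by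
      simpa [drop, hj] using congrFun h j
    have h0 : (p ⟨0, hN0⟩).1 = (p' ⟨0, hN0⟩).1 := by
      simpa [drop] using congrArg Prod.fst (congrFun h ⟨0, hN0⟩)
    obtain ⟨-, hw⟩ := (Finset.mem_filter.1 hp).2
    obtain ⟨-, hw'⟩ := (Finset.mem_filter.1 hp').2
    rw [← Finset.add_sum_erase _ _ (Finset.mem_univ (⟨0, hN0⟩ : Fin N))] at hw hw'
    have hrest : ∑ j ∈ Finset.univ.erase (⟨0, hN0⟩ : Fin N), (j.1 + 1) * (w4 (p j).1 + 2 * (p j).2.1) =
        ∑ j ∈ Finset.univ.erase (⟨0, hN0⟩ : Fin N), (j.1 + 1) * (w4 (p' j).1 + 2 * (p' j).2.1) :=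
      Finset.sum_congr rfl fun j hj => by
        rw [hne j fun h0 => (Finset.mem_erase.1 hj).1 (Fin.ext h0)]
    rw [hrest, h0] at hw
    funext j
    by_cases hj : j.1 = 0
    · obtain rfl : j = ⟨0, hN0⟩ := Fin.ext hj
      exact Prod.ext h0 (Fin.ext (by simp only [zero_add, one_mul] at hw hw'; omega))
    · exact hne j hj
  have hQpm : ∀ p ∈ Q, 0 ≤ T p x + T p (-x) := by
    intro p _
    have hq0 : (0 : ℝ) ≤ q := Nat.cast_nonneg _
    have hTx : 0 ≤ T p x := Finset.prod_nonneg fun j _ => by split_ifs <;> positivity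
    have : |T p (-x)| = T p x := by
      simp only [T, Finset.abs_prod]
      refine Finset.prod_congr rfl fun j _ => ?_
      rw [abs_mul, abs_pow, abs_neg, abs_of_nonneg hx]
      congr 1
      split_ifs
      · exact abs_one
      · exact abs_of_nonneg (by positivity)
    linarith [neg_abs_le (T p (-x))]
  have hmain : ((labSet F N D).card : ℝ) ≤ ∑ p ∈ P, q ^ n * ((T (drop p) x + T (drop p) (-x)) / 2) := by
    have : ((labSet F N D).card : ℝ) ≤ ∑ p ∈ P, ((∏ j : Fin N, Fintype.card F ^ (p j).2.1 : ℕ) : ℝ) := by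
      rw [h1]; push_cast
      exact Finset.sum_le_sum fun p _ => by exact_mod_cast h2 p
    refine this.trans (Finset.sum_le_sum fun p hp => le_of_eq ?_)
    push_cast
    obtain ⟨ha, hb⟩ := hval p hp
    rw [← hq]
    linear_combination (ha + hb) / 2
  refine hmain.trans ?_
  rw [← Finset.mul_sum, ← hT, ← hT, ← Finset.sum_add_distrib, Finset.sum_div]
  refine mul_le_mul_of_nonneg_left ?_ (by positivity)
  rw [← Finset.sum_image (f := fun p => (T p x + T p (-x)) / 2) hinj]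
  exact Finset.sum_le_sum_of_subset_of_nonneg (Finset.image_subset_iff.2 hmem)
    fun p hp _ => div_nonneg (hQpm p hp) (by norm_num)

theorem prod_range_two_mul {M : Type*} [CommMonoid M] (f : ℕ → M) (n : ℕ) :
    ∏ j ∈ range (2 * n), f j = (∏ k ∈ range n, f (2 * k)) * ∏ k ∈ range n, f (2 * k + 1) := by
  induction n with
  | zero => simp
  | succ n ih =>
    rw [show 2 * (n + 1) = 2 * n + 1 + 1 by ring, Finset.prod_range_succ, Finset.prod_range_succ, ih,
      Finset.prod_range_succ _ n, Finset.prod_range_succ _ n]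
    simp only [mul_assoc, mul_comm, mul_left_comm]

theorem geom_part_le {q x : ℝ} (hx : 0 ≤ x) (hq : 3 ≤ q) (hqx : q * x ^ 2 = 1) (N : ℕ) :
    ∏ j ∈ range N, (if j = 0 then 1 else ∑ e ∈ range (N + 1), (q * x ^ (2 * (j + 1))) ^ e) ≤ 9 / 5 := by
  set y := x ^ 2 with hy
  have hy0 : 0 ≤ y := by positivity
  have hy3 : y ≤ 1 / 3 := by nlinarith
  have h : ∀ j, q * x ^ (2 * (j + 1)) = y ^ j := fun j => by
    rw [pow_mul, pow_succ, ← hy, mul_left_comm, hqx, mul_one]
  rcases N with _ | N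
  · norm_num
  rw [Finset.prod_range_succ']
  simp only [if_true, mul_one, h, Nat.succ_ne_zero, if_false]
  refine le_trans (Finset.prod_le_prod (fun k _ => Finset.sum_nonneg fun e _ => by positivity) fun k _ => ?_)
    (euler_le hy0 hy3 N)
  have hlt : y ^ (k + 1) < 1 := pow_lt_one₀ hy0 (by linarith) (Nat.succ_ne_zero k)
  rw [← one_div, le_div_iff₀ (sub_pos.2 hlt), geom_sum_mul_neg]
  linarith [pow_nonneg (pow_nonneg hy0 (k + 1)) (N + 1 + 1)]

theorem sum_bits_pow (y : ℝ) : ∑ b : Bits, y ^ w4 b = (1 + y) ^ 4 := by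
  simp [Fintype.sum_prod_type, w4, bsum]
  ring

theorem labSet_noBits_le (hq : 3 ≤ Fintype.card F) {n : ℕ} (hn : 0 < n) :
    ((labSet F (2 * n) noBits).card : ℝ) ≤ 9 / 5 * (Fintype.card F : ℝ) ^ n := by
  set q : ℝ := (Fintype.card F : ℝ)
  have hq3 : 3 ≤ q := by unfold q; exact_mod_cast hq
  set x : ℝ := (Real.sqrt q)⁻¹
  have hx : 0 ≤ x := inv_nonneg.2 (Real.sqrt_nonneg q)
  have hqx : q * x ^ 2 = 1 := by
    rw [inv_pow, Real.sq_sqrt (by linarith), mul_inv_cancel₀ (by linarith)]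
  refine (card_labSet_le F hn noBits hx hqx).trans ?_
  have e : ∀ y, ∏ j ∈ range (2 * n), lfac q x y (2 * n) noBits j =
      ∏ j ∈ range (2 * n), (if j = 0 then 1 else ∑ e ∈ range (2 * n + 1), (q * x ^ (2 * (j + 1))) ^ e) :=
    fun y => Finset.prod_congr rfl fun j _ => by simp [lfac, noBits, w4, bsum]
  rw [e, e, add_self_div_two, mul_comm]
  exact mul_le_mul_of_nonneg_right (geom_part_le hx hq3 hqx _) (by positivity)

theorem labSet_oddBits_le (hq : 3 ≤ Fintype.card F) {n : ℕ} (hn : 0 < n) :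
    ((labSet F (2 * n) oddBits).card : ℝ) ≤ 414 / 25 * (Fintype.card F : ℝ) ^ n := by
  set q : ℝ := (Fintype.card F : ℝ)
  have hq3 : 3 ≤ q := by unfold q; exact_mod_cast hq
  set x : ℝ := (Real.sqrt q)⁻¹
  have hx : 0 ≤ x := inv_nonneg.2 (Real.sqrt_nonneg q)
  have hqx : q * x ^ 2 = 1 := by
    rw [inv_pow, Real.sq_sqrt (by linarith), mul_inv_cancel₀ (by linarith)]
  have hx2 : x ^ 2 ≤ 1 / 3 := by nlinarith
  refine (card_labSet_le F hn oddBits hx hqx).trans ?_
  set G := ∏ j ∈ range (2 * n), (if j = 0 then 1 else ∑ e ∈ range (2 * n + 1), (q * x ^ (2 * (j + 1))) ^ e)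
    with hG
  have hbits : ∀ y : ℝ, ∏ j ∈ range (2 * n), ∑ b ∈ oddBits j, y ^ ((j + 1) * w4 b) =
      ∏ k ∈ range n, (1 + y ^ (2 * k + 1)) ^ 4 := by
    intro y
    rw [prod_range_two_mul]
    have hev : ∀ k, ∑ b ∈ oddBits (2 * k), y ^ ((2 * k + 1) * w4 b) = (1 + y ^ (2 * k + 1)) ^ 4 := fun k => by
      rw [oddBits, if_pos (even_two_mul k), ← sum_bits_pow]
      exact Finset.sum_congr rfl fun b _ => by rw [pow_mul]
    have hod : ∀ k, ∑ b ∈ oddBits (2 * k + 1), y ^ ((2 * k + 1 + 1) * w4 b) = 1 := fun k => by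
      rw [oddBits, if_neg (Nat.not_even_two_mul_add_one k)]; simp [w4, bsum]
    simp only [hev, hod, Finset.prod_const_one, mul_one]
  have e : ∀ y, ∏ j ∈ range (2 * n), lfac q x y (2 * n) oddBits j =
      (∏ k ∈ range n, (1 + y ^ (2 * k + 1)) ^ 4) * G := fun y => by
    rw [← hbits, hG, ← Finset.prod_mul_distrib]; rfl
  have hneg : ∏ k ∈ range n, (1 + (-x) ^ (2 * k + 1)) ^ 4 = ∏ k ∈ range n, (1 - x ^ (2 * k + 1)) ^ 4 :=
    Finset.prod_congr rfl fun k _ => by rw [(odd_two_mul_add_one k).neg_pow, sub_eq_add_neg]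
  rw [e, e, hneg, ← add_mul, mul_comm (414 / 25 : ℝ)]
  refine mul_le_mul_of_nonneg_left ?_ (by positivity)
  have hGle : G ≤ 9 / 5 := geom_part_le hx hq3 hqx _
  have hG0 : 0 ≤ G := Finset.prod_nonneg fun j _ => by
    split_ifs
    · exact zero_le_one
    · positivity
  have hb := odd_pair_le hx hx2 n
  have hb0 : 0 ≤ ∏ k ∈ range n, (1 + x ^ (2 * k + 1)) ^ 4 + ∏ k ∈ range n, (1 - x ^ (2 * k + 1)) ^ 4 := by
    refine add_nonneg ?_ ?_ <;> exact Finset.prod_nonneg fun k _ => by positivity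
  nlinarith [mul_le_mul hb hGle hG0 (by norm_num : (0 : ℝ) ≤ 92 / 5)]

end H44.Cls
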