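import Mathlib
import Cfsg.Agent.H44.Cls.LabelCount
import Cfsg.Agent.H41.PolySeq

/-! The class number bound for an orthogonal space of even dimension, `q` odd. -/

set_option autoImplicit false

namespace H44.Cls

open Polynomial

universe u

variable {F : Type u} [Field F]

theorem sgnOK_one_iff (h2 : (2 : F) ≠ 0) (j : ℕ) : Tri.SgnOK (1 : F) (j + 1) ↔ Even j := by
  rw [Tri.SgnOK, one_mul, Nat.add_sub_cancel]
  rcases Nat.even_or_odd j with he | ho
  · simp [he, he.neg_one_pow]
  · refine ⟨fun h => absurd (show (2 : F) = 0 by rw [ho.neg_one_pow] at h; linear_combination -h) h2,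
      fun h => absurd h (Nat.not_even_iff_odd.2 ho)⟩

open Classical in
theorem count_map_fst (s : Multiset (F[X] × ℕ)) (i : ℕ) (p : F[X]) :
    ((s.filter fun x => x.2 = i).map Prod.fst).count p = s.count (p, i) := by
  induction s using Multiset.induction with
  | empty => simp
  | cons a s ih =>
    obtain ⟨r, e⟩ := a
    by_cases he : e = i
    · subst he
      rw [Multiset.filter_cons_of_pos (p := fun x : F[X] × ℕ => x.2 = e) (s := s) rfl, Multiset.map_cons,
        Multiset.count_cons, ih, Multiset.count_cons]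
      simp [Prod.ext_iff]
    · rw [Multiset.filter_cons_of_neg (p := fun x : F[X] × ℕ => x.2 = i) (s := s) he, ih,
        Multiset.count_cons_of_ne fun h => he (congrArg Prod.snd h).symm]

variable {ε : F}

open Classical in
theorem deg_at (h2 : (2 : F) ≠ 0) (hε : ε * ε = 1) (T : Tri F ε) {A : Finset (F[X] × ℕ)}
    (hA : A ⊆ sgnSet ε T.ed) (i : ℕ) :
    ((T.ed.filter fun x => x.2 = i).map fun x => x.1.natDegree).sum =
      bsum (lblBits (ε := ε) T.ed A i).1 + bsum (lblBits (ε := ε) T.ed A i).2 +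
        (lblFac ε T.ed A i).prod.natDegree := by
  obtain ⟨⟨a1, -⟩, ⟨a2, -⟩⟩ := lblBits_spec h2 hε T hA i
  have hsplit : (T.ed.filter fun x => x.2 = i).map Prod.fst =
      Multiset.replicate (bsum (lblBits (ε := ε) T.ed A i).1) (X - C 1) +
      Multiset.replicate (bsum (lblBits (ε := ε) T.ed A i).2) (X - C (-1)) + lblFac ε T.ed A i := by
    refine Multiset.ext.2 fun p => ?_
    rw [count_map_fst, Multiset.count_add, Multiset.count_add, Multiset.count_replicate, Multiset.count_replicate,
      count_lblFac h2]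
    have hne := one_ne_neg_one h2
    by_cases h1 : p = X - C 1
    · subst h1; rw [if_pos rfl, if_neg hne.symm, if_pos rfl]; omega
    · by_cases h1' : p = X - C (-1)
      · subst h1'; rw [if_neg (Ne.symm h1), if_pos rfl, if_neg h1, if_pos rfl]; omega
      · rw [if_neg (Ne.symm h1), if_neg (Ne.symm h1'), if_neg h1, if_neg h1']; omega
  have h := congrArg (fun m : Multiset F[X] => (m.map Polynomial.natDegree).sum) hsplit
  simp only [Multiset.map_map, Multiset.map_add, Multiset.sum_add, Multiset.map_replicate, Multiset.sum_replicate,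
    natDegree_X_sub_C, smul_eq_mul, mul_one] at h
  rw [show (fun x : F[X] × ℕ => x.1.natDegree) = Polynomial.natDegree ∘ Prod.fst from rfl, h]
  congr 1
  have := Polynomial.natDegree_multiset_prod_of_monic (lblFac ε T.ed A i)
    fun p hp => (lblFac_prop h2 hε T hA i hp).1
  exact this.symm

open Classical in
theorem sum_weights (T : Tri F ε) {N : ℕ} (hN : Module.finrank F T.V = N) :
    ∑ j : Fin N, (j.1 + 1) * ((T.ed.filter fun x => x.2 = j.1 + 1).map fun x => x.1.natDegree).sum = N := by
  have hle : ∀ x ∈ T.ed, 1 ≤ x.2 ∧ x.2 ≤ N := fun x hx => by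
    refine ⟨(T.ed_prop hx).2.2, ?_⟩
    have h1 : x.1.natDegree * x.2 ≤ wt T.ed :=
      Multiset.le_sum_of_mem (Multiset.mem_map_of_mem (fun y : F[X] × ℕ => y.1.natDegree * y.2) hx)
    rw [T.wt_ed, hN] at h1
    exact (Nat.le_mul_of_pos_left _ (T.ed_prop hx).2.1.natDegree_pos).trans h1
  conv_rhs => rw [← hN, ← T.wt_ed, wt, ← H41.bind_filter_snd (n := N) T.ed hle, Multiset.map_bind, Multiset.sum_bind,
    ← Finset.sum_eq_multiset_sum]
  refine Finset.sum_congr rfl fun j _ => ?_
  rw [← Multiset.sum_map_mul_left]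
  congr 1
  exact Multiset.map_congr rfl fun x hx => by rw [(Multiset.mem_filter.1 hx).2, mul_comm]

open Classical in
theorem count_eq_zero_of_gt (T : Tri F ε) {N i : ℕ} (hN : Module.finrank F T.V = N) (hi : N < i) (p : F[X]) :
    T.ed.count (p, i) = 0 := Multiset.count_eq_zero_of_notMem fun hx => by
  have h1 : p.natDegree * i ≤ wt T.ed :=
    Multiset.le_sum_of_mem (Multiset.mem_map_of_mem (fun y : F[X] × ℕ => y.1.natDegree * y.2) hx)
  rw [T.wt_ed, hN] at h1
  have := (Nat.le_mul_of_pos_left i (T.ed_prop hx).2.1.natDegree_pos).trans h1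
  omega

/-- The label of a signed type. -/
noncomputable def lab [Fintype F] (N : ℕ) (T : Tri F ε) (A : Finset (F[X] × ℕ)) : Lab F N := fun j =>
  (lblBits (ε := ε) T.ed A (j.1 + 1),
    ⟨⟨min N ((lblFac ε T.ed A (j.1 + 1)).prod.natDegree / 2), Nat.lt_succ_of_le (min_le_left _ _)⟩,
      fun k => (lblFac ε T.ed A (j.1 + 1)).prod.coeff (k.1 + 1)⟩)

open Classical in
theorem lab_mem [Fintype F] (h2 : (2 : F) ≠ 0) {N : ℕ} (T : Tri F 1) (hN : Module.finrank F T.V = N)
    {A : Finset (F[X] × ℕ)} (hA : A ⊆ sgnSet 1 T.ed) (D : ℕ → Finset Bits)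
    (hD : ∀ j, lblBits (ε := (1 : F)) T.ed A (j + 1) ∈ D j) : lab N T A ∈ labSet F N D := by
  simp only [labSet, Finset.mem_filter, Finset.mem_univ, true_and]
  refine ⟨fun j => hD j.1, ?_⟩
  have hs := sum_weights T hN
  refine Eq.trans (Finset.sum_congr rfl fun j hj => ?_) hs
  rw [deg_at h2 (one_mul 1) T hA]
  have hev := (lblFac_pal h2 (one_mul 1) T hA (j.1 + 1)).even
  have hle : (j.1 + 1) * ((T.ed.filter fun x => x.2 = j.1 + 1).map fun x => x.1.natDegree).sum ≤ N :=
    (Finset.single_le_sum (f := fun k : Fin N =>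
      (k.1 + 1) * ((T.ed.filter fun x => x.2 = k.1 + 1).map fun x => x.1.natDegree).sum)
      (fun k _ => Nat.zero_le _) (Finset.mem_univ j)).trans_eq hs
  rw [deg_at h2 (one_mul 1) T hA] at hle
  have hd := (Nat.le_mul_of_pos_left _ (Nat.succ_pos j.1)).trans hle
  obtain ⟨m, hm⟩ := hev
  simp only [lab, w4]
  rw [Nat.min_eq_right (by omega)]
  congr 1
  omega

open Classical in
theorem lab_injective [Fintype F] (h2 : (2 : F) ≠ 0) {N : ℕ} {T T' : Tri F 1} (hN : Module.finrank F T.V = N)
    (hN' : Module.finrank F T'.V = N) {A A' : Finset (F[X] × ℕ)} (hA : A ⊆ sgnSet 1 T.ed)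
    (hA' : A' ⊆ sgnSet 1 T'.ed) (h : lab N T A = lab N T' A') : T.ed = T'.ed ∧ A = A' := by
  have hfac : ∀ i, N < i → ∀ (S : Tri F 1), Module.finrank F S.V = N → ∀ B, B ⊆ sgnSet (1 : F) S.ed →
      lblBits (ε := (1 : F)) S.ed B i = ((false, false), (false, false)) ∧ lblFac 1 S.ed B i = 0 := by
    intro i hi S hS B hB
    have hc : ∀ p, S.ed.count (p, i) = 0 := count_eq_zero_of_gt S hS hi
    have hnB : ∀ p, (p, i) ∉ B := fun p hp =>
      (Multiset.count_pos.2 (mem_sgnSet.1 (hB hp)).1).ne' (hc p)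
    have hb : lblBits (ε := (1 : F)) S.ed B i = ((false, false), (false, false)) := by
      unfold lblBits
      split_ifs
      · simp [bitsOf, hc, hnB]
      · rfl
    refine ⟨hb, Multiset.eq_zero_of_forall_notMem fun p hp => ?_⟩
    have := Multiset.count_pos.2 hp
    rw [count_lblFac h2] at this
    simp only [hc, zero_tsub] at this
    split_ifs at this <;> omega
  have key : ∀ i, 0 < i → lblBits (ε := (1 : F)) T.ed A i = lblBits (ε := (1 : F)) T'.ed A' i ∧
      (lblFac 1 T.ed A i).prod = (lblFac 1 T'.ed A' i).prod := by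
    intro i hi
    rcases Nat.lt_or_ge N i with hlt | hge
    · rw [(hfac i hlt T hN A hA).1, (hfac i hlt T' hN' A' hA').1, (hfac i hlt T hN A hA).2,
        (hfac i hlt T' hN' A' hA').2]
      exact ⟨rfl, rfl⟩
    · obtain ⟨j, rfl⟩ : ∃ j, i = j + 1 := ⟨i - 1, by omega⟩
      have hj := congrFun h ⟨j, by omega⟩
      simp only [lab, Prod.mk.injEq] at hj
      obtain ⟨hb, hsig⟩ := hj
      refine ⟨hb, ?_⟩
      have hP := lblFac_pal h2 (one_mul 1) T hA (j + 1)
      have hP' := lblFac_pal h2 (one_mul 1) T' hA' (j + 1)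
      have deg : ∀ (S : Tri F 1), Module.finrank F S.V = N → ∀ B, B ⊆ sgnSet (1 : F) S.ed →
          (lblFac 1 S.ed B (j + 1)).prod.natDegree ≤ N := fun S hS B hB => by
        have hs := sum_weights S hS
        have hle := (Finset.single_le_sum (f := fun k : Fin N =>
          (k.1 + 1) * ((S.ed.filter fun x => x.2 = k.1 + 1).map fun x => x.1.natDegree).sum)
          (fun k _ => Nat.zero_le _) (Finset.mem_univ (⟨j, by omega⟩ : Fin N))).trans_eq hs
        rw [deg_at h2 (one_mul 1) S hB] at hle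
        dsimp only at hle
        have := (Nat.le_mul_of_pos_left _ (Nat.succ_pos j)).trans hle
        omega
      obtain ⟨m, hm⟩ := hP.even
      obtain ⟨m', hm'⟩ := hP'.even
      have d1 := deg T hN A hA
      have d2 := deg T' hN' A' hA'
      have he : m = m' := by
        have := congrArg (fun z : Σ e : Fin (N + 1), (Fin e.1 → F) => z.1.1) hsig
        simp only at this
        rw [Nat.min_eq_right (by omega), Nat.min_eq_right (by omega)] at this
        omega
      subst he
      refine hP.ext hP' (n := m) (by omega) (by omega) fun k => ?_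
      have hco := congrArg (fun z : Σ e : Fin (N + 1), (Fin e.1 → F) =>
        if hk : k.1 < z.1.1 then z.2 ⟨k.1, hk⟩ else 0) hsig
      have hk1 := k.2
      simp only at hco
      rw [dif_pos (by omega), dif_pos (by omega)] at hco
      exact hco
  exact lbl_injective h2 (one_mul 1) hA hA' (fun i hi => (key i hi).1) fun i hi => (key i hi).2

variable [Fintype F]

/-- `2 k ≤ 19 q ^ n` for a group embedded in the isometries of one orthogonal space of dimension `2n`. -/
theorem two_classes_le (hodd : Odd (Fintype.card F)) {n : ℕ} (hn : 0 < n) {G : Type*} [Group G] [Finite G]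
    (tr : G → Tri F 1) (hdim : ∀ g, Module.finrank F (tr g).V = 2 * n) {d : ℤ} (hchi : ∀ g, (tr g).chi = d)
    (hconj : ∀ g h, (tr g).Eqv (tr h) → IsConj g h) :
    2 * Nat.card (ConjClasses G) ≤ 19 * Fintype.card F ^ n := by
  classical
  cases nonempty_fintype G
  have hchar := H44.ringChar_ne_two_of_odd_card hodd
  have h2 : (2 : F) ≠ 0 := Ring.two_ne_zero hchar
  have hq : 3 ≤ Fintype.card F := by
    have := Fintype.one_lt_card (α := F)
    obtain ⟨k, hk⟩ := hodd
    omega
  let S : Finset (Multiset (F[X] × ℕ)) := Finset.univ.image fun g => (tr g).ed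
  have hrep : ∀ s : S, ∃ g, (tr g).ed = s.1 := fun s => by
    obtain ⟨g, -, hg⟩ := Finset.mem_image.1 s.2
    exact ⟨g, hg⟩
  choose rep hrepe using hrep
  choose L hL hLlen using fun s : S => (exists_covers (ε := (1 : F)) h2 (one_mul 1) s.1).2 rfl d
  -- classes into representatives
  have key : ∀ c : ConjClasses G, ∃ (g : G) (p : Σ s : S, Fin (L s).length),
      ConjClasses.mk g = c ∧ (tr g).Eqv ((L p.1).get p.2) := fun c => by
    obtain ⟨g, rfl⟩ := ConjClasses.exists_rep c
    obtain ⟨r, hr, he⟩ := hL ⟨(tr g).ed, Finset.mem_image.2 ⟨g, Finset.mem_univ g, rfl⟩⟩ (tr g) rfl (hchi g)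
    obtain ⟨k, hk⟩ := List.get_of_mem hr
    exact ⟨g, ⟨⟨(tr g).ed, Finset.mem_image.2 ⟨g, Finset.mem_univ g, rfl⟩⟩, k⟩, rfl, hk ▸ he⟩
  choose gc pc hgc hpc using key
  have h1 : Nat.card (ConjClasses G) ≤ ∑ s : S, 2 ^ ((sgnSet (1 : F) s.1).card - 1) := by
    refine (Nat.card_le_card_of_injective pc fun c c' h => ?_).trans ?_
    · rw [← hgc c, ← hgc c', ConjClasses.mk_eq_mk_iff_isConj]
      refine hconj _ _ ((hpc c).trans ?_)
      rw [h]
      exact (hpc c').symm
    · rw [Nat.card_sigma]
      exact Finset.sum_le_sum fun s _ => by rw [Nat.card_fin]; exact hLlen s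
  -- signed types into labels
  have h3 : ∑ s : S, 2 ^ (sgnSet (1 : F) s.1).card ≤ (labSet F (2 * n) oddBits).card := by
    rw [show ∑ s : S, 2 ^ (sgnSet (1 : F) s.1).card =
        (Finset.univ.sigma fun s : S => (sgnSet (1 : F) s.1).powerset).card by simp]
    refine Finset.card_le_card_of_injOn (fun x => lab (2 * n) (tr (rep x.1)) x.2) ?_ ?_
    · intro x hx
      rw [Finset.mem_coe, Finset.mem_sigma, Finset.mem_powerset] at hx
      refine lab_mem h2 _ (hdim _) (by rw [hrepe]; exact hx.2) _ fun j => ?_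
      unfold oddBits
      by_cases hj : Even j
      · rw [if_pos hj]; exact Finset.mem_univ _
      · rw [if_neg hj, Finset.mem_singleton, lblBits, if_neg fun h => hj ((sgnOK_one_iff h2 j).1 h)]
    · rintro ⟨s, A⟩ hx ⟨s', A'⟩ hx' h
      rw [Finset.mem_coe, Finset.mem_sigma, Finset.mem_powerset] at hx hx'
      obtain ⟨he, rfl⟩ := lab_injective h2 (hdim _) (hdim _) (by rw [hrepe]; exact hx.2) (by rw [hrepe]; exact hx'.2) h
      rw [hrepe, hrepe] at he
      obtain rfl : s = s' := Subtype.ext he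
      rfl
  have h4 : (Finset.univ.filter fun s : S => (sgnSet (1 : F) s.1).card = 0).card ≤
      (labSet F (2 * n) noBits).card := by
    refine Finset.card_le_card_of_injOn (fun s => lab (2 * n) (tr (rep s)) ∅) ?_ ?_
    · intro s hs
      rw [Finset.mem_coe, Finset.mem_filter, Finset.card_eq_zero] at hs
      refine lab_mem h2 _ (hdim _) (Finset.empty_subset _) _ fun j => ?_
      simp only [noBits, Finset.mem_singleton]
      unfold lblBits
      split_ifs with hsg
      · have hz : ∀ p : F[X], (p = X - C 1 ∨ p = X - C (-1)) → (tr (rep s)).ed.count (p, j + 1) = 0 := fun p hp =>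
          Multiset.count_eq_zero_of_notMem fun hmem => by
            have : (p, j + 1) ∈ sgnSet (1 : F) s.1 := mem_sgnSet.2 ⟨hrepe s ▸ hmem, hp, hsg⟩
            simp [hs.2] at this
        rw [hz _ (Or.inl rfl), hz _ (Or.inr rfl)]
        simp [bitsOf]
      · rfl
    · intro s _ s' _ h
      obtain ⟨he, -⟩ := lab_injective h2 (hdim _) (hdim _) (Finset.empty_subset _) (Finset.empty_subset _) h
      exact Subtype.ext (by rwa [hrepe, hrepe] at he)
  have h5 : 2 * ∑ s : S, 2 ^ ((sgnSet (1 : F) s.1).card - 1) ≤ ∑ s : S, 2 ^ (sgnSet (1 : F) s.1).card +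
      (Finset.univ.filter fun s : S => (sgnSet (1 : F) s.1).card = 0).card := by
    rw [Finset.card_filter, ← Finset.sum_add_distrib, Finset.mul_sum]
    refine Finset.sum_le_sum fun s _ => ?_
    rcases (sgnSet (1 : F) s.1).card with _ | m <;> simp [pow_succ, mul_comm]
  have h6 : ((2 * Nat.card (ConjClasses G) : ℕ) : ℝ) ≤ ((19 * Fintype.card F ^ n : ℕ) : ℝ) := by
    have e1 := labSet_oddBits_le F hq hn
    have e2 := labSet_noBits_le F hq hn
    have e3 : 2 * Nat.card (ConjClasses G) ≤ (labSet F (2 * n) oddBits).card + (labSet F (2 * n) noBits).card := by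
      omega
    have e4 : ((2 * Nat.card (ConjClasses G) : ℕ) : ℝ) ≤
        ((labSet F (2 * n) oddBits).card : ℝ) + (labSet F (2 * n) noBits).card := by exact_mod_cast e3
    refine e4.trans ?_
    push_cast
    have : (0 : ℝ) ≤ (Fintype.card F : ℝ) ^ n := by positivity
    linarith
  exact_mod_cast h6

end H44.Cls
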