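import Mathlib
import Cfsg.Prelude.Def_Classical
import Cfsg.Agent.H44.Cls.ClassBound
import Cfsg.Agent.H44.Cls.Realise

/-! Class number bounds for the isometry group of a quadratic form of even dimension, `q` odd. -/

set_option autoImplicit false

namespace H44.Cls

open Polynomial

universe u

variable {F : Type u} [Field F]

/-- The trivial isometry of a space. -/
noncomputable def Tri.triv {ε : F} (T : Tri F ε) : Tri F ε where
  V := T.V
  B := T.B
  g := 1
  sym := T.sym
  nd := T.nd
  iso _ _ := rfl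

theorem triv_ed {ε : F} (T : Tri F ε) :
    T.triv.ed = Multiset.replicate (Module.finrank F T.V) (X - C 1, 1) := by
  classical
  refine eq_of_kerDim _ _ (fun _ => T.triv.ed_prop) (fun x hx => ?_) fun p hp hip k => ?_
  · rw [Multiset.eq_of_mem_replicate hx]
    exact ⟨monic_X_sub_C _, irreducible_X_sub_C _, one_pos⟩
  have hev : ∀ r : F[X], aeval T.triv.g r = r.eval 1 • (1 : Module.End F T.V) := fun r => by
    show aeval (1 : Module.End F T.V) r = _
    rw [show (1 : Module.End F T.V) = algebraMap F (Module.End F T.V) 1 from (map_one _).symm,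
      aeval_algebraMap_apply, aeval_def, eval₂_eq_eval_map, Algebra.algebraMap_self, Polynomial.map_id, map_one,
      Algebra.algebraMap_eq_smul_one]
  rw [← T.triv.kdim hp hip, H41.kerDim, Multiset.map_replicate, Multiset.sum_replicate, smul_eq_mul, hev, eval_pow]
  show Module.finrank F (LinearMap.ker (p.eval 1 ^ k • (1 : Module.End F T.V))) = _
  by_cases hp1 : X - C 1 = p
  · subst hp1
    rcases k with _ | k
    · rw [pow_zero, one_smul, LinearMap.ker_eq_bot.2 fun a b h => h, finrank_bot]
      simp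
    · rw [if_pos rfl, Nat.min_eq_right (Nat.le_add_left 1 k), natDegree_X_sub_C, eval_sub, eval_X, eval_C, sub_self,
        zero_pow (Nat.succ_ne_zero k), zero_smul, LinearMap.ker_zero, finrank_top, mul_one, mul_one]
  · have hne : p.eval 1 ≠ 0 := fun h => hp1 (Polynomial.eq_of_monic_of_associated hp (monic_X_sub_C 1)
      ((irreducible_X_sub_C 1).associated_of_dvd hip (dvd_iff_isRoot.2 h)).symm).symm
    rw [if_neg hp1, mul_zero, LinearMap.ker_smul _ _ (pow_ne_zero k hne),
      LinearMap.ker_eq_bot.2 fun a b h => h, finrank_bot]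

/-- Spaces of equal dimension and discriminant are isometric. -/
theorem exists_isometry [Finite F] (h2 : (2 : F) ≠ 0) (T T' : Tri F (1 : F))
    (hd : Module.finrank F T.V = Module.finrank F T'.V) (hc : T.chi = T'.chi) :
    ∃ e : T.V ≃ₗ[F] T'.V, ∀ x y, T'.B (e x) (e y) = T.B x y := by
  classical
  obtain ⟨L, hL, hlen⟩ := (exists_covers h2 (one_mul 1) T.triv.ed).2 rfl T.chi
  have hs : (sgnSet (1 : F) T.triv.ed).card ≤ 1 := Finset.card_le_one.2 fun x hx y hy => by
    rw [mem_sgnSet, triv_ed] at hx hy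
    rw [Multiset.eq_of_mem_replicate hx.1, Multiset.eq_of_mem_replicate hy.1]
  have hlen1 : L.length ≤ 1 := by
    refine hlen.trans ?_
    rw [show (sgnSet (1 : F) T.triv.ed).card - 1 = 0 by omega, pow_zero]
  have ht : T.triv.chi = T.chi := rfl
  have ht' : T'.triv.chi = T.chi := hc.symm
  obtain ⟨r, hr, her⟩ := hL T.triv rfl ht
  obtain ⟨r', hr', her'⟩ := hL T'.triv (by rw [triv_ed, triv_ed, hd]) ht'
  obtain rfl : r = r' := by
    match L, hlen1, hr, hr' with
    | [a], _, hr, hr' => rw [List.mem_singleton.1 hr, List.mem_singleton.1 hr']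
  obtain ⟨e, -, he⟩ := her.trans her'.symm
  exact ⟨e, he⟩

/-- Palindromic polynomials of degree `2n`. -/
def PalDeg (F : Type u) [Field F] (n : ℕ) : Type u := {P : F[X] // H48.SS.Pal P ∧ P.natDegree = 2 * n}

/-- The free coefficients of a palindromic polynomial. -/
noncomputable def palEquiv (n : ℕ) : PalDeg F n ≃ (Fin n → F) :=
  Equiv.ofBijective (fun P i => P.1.coeff (i.1 + 1))
    ⟨fun P R h => Subtype.ext (P.2.1.ext R.2.1 P.2.2 R.2.2 fun i => congrFun h i), fun a => by
      obtain ⟨P, hP, hd, hco⟩ := H48.SS.exists_pal a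
      exact ⟨⟨P, hP, hd⟩, funext hco⟩⟩

/-- The product of the values at `± 1`. -/
noncomputable def pm {n : ℕ} (P : PalDeg F n) : F := P.1.eval 1 * P.1.eval (-1)

/-- A palindromic direction changing the value at `1` only. -/
noncomputable def dir (F : Type u) [Field F] (n : ℕ) : F[X] := X ^ (n - 1) + 2 * X ^ n + X ^ (n + 1)

theorem pal_add_dir {n : ℕ} (hn : 2 ≤ n) {P : F[X]} (hP : H48.SS.Pal P) (hd : P.natDegree = 2 * n) (r : F) :
    H48.SS.Pal (P + C r * dir F n) ∧ (P + C r * dir F n).natDegree = 2 * n := by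
  have e : C r * dir F n = C r * X ^ (n - 1) + C (2 * r) * X ^ n + C r * X ^ (n + 1) := by
    rw [dir, map_mul C 2 r, show (C (2 : F)) = 2 from map_ofNat C 2]; ring
  have hlt : (C r * dir F n).natDegree < 2 * n := by
    have : (dir F n).natDegree ≤ n + 1 := by
      rw [dir]
      refine (natDegree_add_le _ _).trans (max_le ((natDegree_add_le _ _).trans (max_le ?_ ?_)) ?_)
      · rw [natDegree_X_pow]; omega
      · refine natDegree_mul_le.trans ?_
        rw [natDegree_X_pow, show ((2 : F[X])).natDegree = 0 by simp]; omega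
      · rw [natDegree_X_pow]
    exact lt_of_le_of_lt ((natDegree_C_mul_le _ _).trans this) (by omega)
  have hdeg : (P + C r * dir F n).natDegree = 2 * n := by
    rw [natDegree_add_eq_left_of_natDegree_lt (by omega), hd]
  refine ⟨⟨?_, by rw [hdeg]; exact even_two_mul n, ?_⟩, hdeg⟩
  · show leadingCoeff _ = 1
    rw [leadingCoeff, hdeg, coeff_add, coeff_eq_zero_of_natDegree_lt hlt, add_zero, ← hd]
    exact hP.monic.leadingCoeff
  · rw [reverse, hdeg, reflect_add, e, reflect_add, reflect_add, reflect_C_mul_X_pow, reflect_C_mul_X_pow,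
      reflect_C_mul_X_pow, revAt_le (by omega), revAt_le (by omega), revAt_le (by omega),
      show 2 * n - (n - 1) = n + 1 by omega, show 2 * n - n = n by omega, show 2 * n - (n + 1) = n - 1 by omega,
      ← hd, show reflect P.natDegree P = P from hP.rev]
    ring

theorem half_le_card [Fintype F] (h2 : (2 : F) ≠ 0) {n : ℕ} (hn : 2 ≤ n) (t : ℤ) (ht : t = 1 ∨ t = -1) :
    Fintype.card F ^ n ≤ 2 * Nat.card {P : PalDeg F n // pm P = 0 ∨ qc (pm P) = t} := by
  classical
  let _ : Fintype (PalDeg F n) := Fintype.ofEquiv _ (palEquiv n).symm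
  obtain ⟨ν, hν0, hν⟩ := exists_nonsquare' h2
  have hd1 : (dir F n).eval 1 = 4 := by simp [dir]; norm_num
  have hd2 : (dir F n).eval (-1) = 0 := by
    obtain ⟨m, rfl⟩ : ∃ m, n = m + 1 := ⟨n - 1, by omega⟩
    simp [dir, pow_succ]; ring
  have h4 : (4 : F) ≠ 0 := by rw [show (4 : F) = 2 * 2 by norm_num]; exact mul_ne_zero h2 h2
  let ψ : PalDeg F n → PalDeg F n := fun P =>
    ⟨P.1 + C ((ν - 1) * P.1.eval 1 / 4) * dir F n, pal_add_dir hn P.2.1 P.2.2 _⟩
  have hv1 : ∀ P, (ψ P).1.eval 1 = ν * P.1.eval 1 := fun P => by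
    simp only [ψ, eval_add, eval_mul, eval_C, hd1, div_mul_cancel₀ _ h4]
    ring
  have hv2 : ∀ P, (ψ P).1.eval (-1) = P.1.eval (-1) := fun P => by
    simp only [ψ, eval_add, eval_mul, eval_C, hd2, mul_zero, add_zero]
  have hψ : Function.Injective ψ := fun P R h => by
    have e1 : P.1.eval 1 = R.1.eval 1 := mul_left_cancel₀ hν0 ((hv1 P).symm.trans (by rw [h, hv1]))
    have e2 := congrArg Subtype.val h
    simp only [ψ, e1] at e2
    exact Subtype.ext (add_right_cancel e2)
  let S : Finset (PalDeg F n) := Finset.univ.filter fun P => pm P = 0 ∨ qc (pm P) = t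
  let R : Finset (PalDeg F n) := Finset.univ.filter fun P => ¬ (pm P = 0 ∨ qc (pm P) = t)
  have hmap : R.card ≤ S.card := by
    refine Finset.card_le_card_of_injOn ψ (fun P hP => ?_) hψ.injOn
    obtain ⟨-, hP'⟩ := Finset.mem_filter.1 hP
    rw [not_or] at hP'
    refine Finset.mem_filter.2 ⟨Finset.mem_univ _, Or.inr ?_⟩
    haveI : Finite F := inferInstance
    rw [pm, hv1, hv2, mul_assoc, ← pm, qc_mul hν0 hP'.1, hν]
    rcases qc_cases (pm P) with a | a <;> rcases ht with rfl | rfl <;> simp_all
  have hsum : S.card + R.card = Fintype.card F ^ n := by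
    rw [Finset.card_filter_add_card_filter_not, Finset.card_univ, Fintype.card_congr (palEquiv n), Fintype.card_fun,
      Fintype.card_fin]
  rw [Nat.card_eq_fintype_card, Fintype.card_subtype]
  show Fintype.card F ^ n ≤ 2 * S.card
  omega

variable {ι : Type} [Fintype ι] [DecidableEq ι]

/-- The class number bounds for the isometry group of a quadratic form. -/
theorem quad_class_bounds [Fintype F] (hodd : Odd (Fintype.card F)) {n : ℕ} (hn : 2 ≤ n)
    (hι : Fintype.card ι = 2 * n) (Q : (ι → F) → F) (B : LinearMap.BilinForm F (ι → F))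
    (hsym : ∀ x y, B y x = B x y) (hnd : ∀ x, (∀ y, B x y = 0) → x = 0) (hQ : ∀ x, B x x = 2 * Q x) :
    Fintype.card F ^ n ≤ 2 * Nat.card (ConjClasses ↥(Cfsg.isometryGroup F Q)) ∧
      2 * Nat.card (ConjClasses ↥(Cfsg.isometryGroup F Q)) ≤ 19 * Fintype.card F ^ n := by
  classical
  have h2 : (2 : F) ≠ 0 := Ring.two_ne_zero (H44.ringChar_ne_two_of_odd_card hodd)
  set G := Cfsg.isometryGroup F Q with hG
  let act : G → Module.End F (ι → F) := fun g => Matrix.toLin' ((g : Matrix.GeneralLinearGroup ι F) : Matrix ι ι F)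
  have hQpres : ∀ (g : G) (x : ι → F), Q (act g x) = Q x := fun g x => by
    show Q (Matrix.toLin' _ x) = Q x
    rw [Matrix.toLin'_apply]
    exact g.2 x x
  have pol : ∀ (f : Module.End F (ι → F)), (∀ x, Q (f x) = Q x) → ∀ x y, B (f x) (f y) = B x y := fun f hf x y => by
    have hd : ∀ x, B (f x) (f x) = B x x := fun x => by rw [hQ, hQ, hf]
    have e := hd (x + y)
    simp only [map_add, LinearMap.add_apply, hd x, hd y, hsym x y, hsym (f x) (f y)] at e
    have : (2 : F) * (B (f x) (f y) - B x y) = 0 := by linear_combination e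
    exact sub_eq_zero.1 ((mul_eq_zero.1 this).resolve_left h2)
  let tr : G → Tri F (1 : F) := fun g =>
    { V := ι → F
      B := B
      g := act g
      sym := fun x y => by rw [one_mul]; exact hsym x y
      nd := hnd
      iso := pol _ (hQpres g) }
  have hdim : ∀ g, Module.finrank F (tr g).V = 2 * n := fun g => by
    show Module.finrank F (ι → F) = _
    rw [Module.finrank_fintype_fun_eq_card, hι]
  set d := (tr 1).chi with hd
  have hchi : ∀ g, (tr g).chi = d := fun g => rfl
  -- elements of the group from isometries of the form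
  have mk : ∀ E : (ι → F) ≃ₗ[F] (ι → F), (∀ x y, B (E x) (E y) = B x y) → ∃ g : G, ∀ x, act g x = E x := by
    intro E hE
    let M : Matrix.GeneralLinearGroup ι F :=
      { val := LinearMap.toMatrix' E.toLinearMap
        inv := LinearMap.toMatrix' E.symm.toLinearMap
        val_inv := by rw [← LinearMap.toMatrix'_comp]; simp
        inv_val := by rw [← LinearMap.toMatrix'_comp]; simp }
    have hM : M ∈ G := fun x _ => by
      show Q ((LinearMap.toMatrix' E.toLinearMap).mulVec x) = Q x
      rw [LinearMap.toMatrix'_mulVec]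
      have := hE x x
      rw [hQ, hQ] at this
      exact mul_left_cancel₀ h2 this
    exact ⟨⟨M, hM⟩, fun x => by
      show Matrix.toLin' (LinearMap.toMatrix' E.toLinearMap) x = _
      rw [Matrix.toLin'_toMatrix']; rfl⟩
  have hact : ∀ g g' : G, (∀ x, act g x = act g' x) → g = g' := fun g g' h => by
    apply Subtype.ext; apply Units.ext
    exact Matrix.toLin'.injective (LinearMap.ext h)
  have hmul : ∀ g g' : G, ∀ x, act (g * g') x = act g (act g' x) := fun g g' x => by
    show Matrix.toLin' (_ * _) x = _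
    rw [Matrix.toLin'_mul]; rfl
  have hconj : ∀ g h, (tr g).Eqv (tr h) → IsConj g h := by
    rintro g h ⟨e, h1, h2'⟩
    obtain ⟨c, hc⟩ := mk e h2'
    refine isConj_iff.2 ⟨c, ?_⟩
    rw [mul_inv_eq_iff_eq_mul]
    refine hact _ _ fun x => ?_
    rw [hmul, hmul, hc, hc]
    exact h1 x
  refine ⟨?_, two_classes_le hodd (by omega) tr hdim hchi hconj⟩
  have hd1 : d = 1 ∨ d = -1 := qc_cases _
  set t := d * kappa F n
  have ht : t = 1 ∨ t = -1 := by
    rcases hd1 with h | h <;> rcases qc_cases (Matrix.J (Fin n) F).det with k | k <;> simp [t, kappa, h, k]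
  refine (half_le_card h2 hn t ht).trans (Nat.mul_le_mul_left 2 ?_)
  -- one class for each realised polynomial
  have hreal : ∀ P : {P : PalDeg F n // pm P = 0 ∨ qc (pm P) = t}, ∃ g : G, (act g).charpoly = P.1.1 := by
    rintro ⟨⟨P, hP, hPd⟩, hPt⟩
    obtain ⟨T, hT, hTd⟩ := exists_tri h2 hP hPd d hd1 (hPt.imp id fun h => by
      rw [show qc (P.eval 1 * P.eval (-1)) = t from h]
      show d * kappa F n * kappa F n = d
      rw [mul_assoc, kappa, qc_mul_self, mul_one])
    obtain ⟨e, he⟩ := exists_isometry h2 T (tr 1)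
      (by rw [hdim, finrank_eq_natDegree, hT, hPd]) (by rw [hchi, hTd])
    obtain ⟨g, hg⟩ := mk (e.symm.trans ((LinearEquiv.ofInjectiveEndo T.g T.g_injective).trans e)) fun x y => by
      refine (he (T.g (e.symm x)) (T.g (e.symm y))).trans ?_
      rw [T.iso, ← he (e.symm x) (e.symm y), e.apply_symm_apply, e.apply_symm_apply]
    refine ⟨g, ?_⟩
    have hge : act g = e.conj T.g := LinearMap.ext fun x => by rw [hg]; rfl
    rw [hge]
    exact (LinearEquiv.charpoly_conj e T.g).trans hT
  choose gP hgP using hreal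
  refine Nat.card_le_card_of_injective (fun P => ConjClasses.mk (gP P)) fun P R h => ?_
  obtain ⟨c, hc⟩ := isConj_iff.1 (ConjClasses.mk_eq_mk_iff_isConj.1 h)
  have hbij : Function.Bijective (act c) :=
    ⟨(tr c).g_injective, LinearMap.injective_iff_surjective.1 (tr c).g_injective⟩
  have hcp : (act (gP R)).charpoly = (act (gP P)).charpoly := by
    have : act (gP R) = (LinearEquiv.ofBijective (act c) hbij).conj (act (gP P)) := LinearMap.ext fun x => by
      obtain ⟨y, rfl⟩ := hbij.2 x
      rw [← hc, LinearEquiv.conj_apply_apply, LinearEquiv.ofBijective_symm_apply_apply, ← hmul,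
        inv_mul_cancel_right, hmul]
      rfl
    rw [this, LinearEquiv.charpoly_conj]
  rw [hgP, hgP] at hcp
  exact Subtype.ext (Subtype.ext hcp.symm)

end H44.Cls
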