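import Mathlib
import Cfsg.Agent.H27.ClassNumber

/-! Class numbers of a subgroup of index two. -/

set_option autoImplicit false

namespace H44.Cls

open Subgroup

/-- The classes of `G` inside `H` that fall apart in the index two subgroup `H`. -/
def SplitClasses {G : Type*} [Group G] (H : Subgroup G) : Set (ConjClasses G) :=
  {c | ∃ x, ConjClasses.mk x = c ∧ centralizer ({x} : Set G) ≤ H}

variable {G : Type*} [Group G] [Finite G]

theorem split_iff {H : Subgroup G} [H.Normal] {x y : G} (h : IsConj x y) :
    centralizer ({x} : Set G) ≤ H ↔ centralizer ({y} : Set G) ≤ H := by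
  obtain ⟨g, rfl⟩ := isConj_iff.1 h
  rw [H27.cent_conj, map_le_iff_le_comap]
  have e : H.comap (MulAut.conj g).toMonoidHom = H := by
    ext z
    exact (Subgroup.Normal.mem_comm_iff ‹H.Normal›).trans (by simp)
  rw [e]

/-- `2 k(H) ≤ k(G) + 3 σ` for `H` of index two, with equality in fact. -/
theorem two_mul_classes_index_two (H : Subgroup G) (hH : H.index = 2) :
    2 * Nat.card (ConjClasses H) = Nat.card (ConjClasses G) + 3 * Nat.card (SplitClasses H) := by
  classical
  cases nonempty_fintype G
  haveI : H.Normal := normal_of_index_eq_two hH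
  set C : G → ℕ := fun x => Nat.card (centralizer ({x} : Set G))
  set D : G → ℕ := fun x => Nat.card (centralizer ({x} : Set G) ⊓ H : Subgroup G)
  -- halving
  have half : ∀ x : G, ¬ centralizer ({x} : Set G) ≤ H → 2 * D x = C x := by
    intro x hx
    have h1 := H27.card_inf_mul_index_ge (centralizer ({x} : Set G)) H
    rw [hH] at h1
    have h2 : D x ∣ C x := card_dvd_of_le inf_le_left
    have h3 : D x < C x := by
      refine lt_of_le_of_ne (card_le_of_le inf_le_left) fun h => hx ?_
      exact inf_eq_left.1 (eq_of_le_of_card_ge inf_le_left h.ge)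
    obtain ⟨k, hk⟩ := h2
    have hpos : 0 < D x := Nat.card_pos
    have h4 : C x ≤ D x * 2 := h1
    rw [hk] at h3 h4 ⊢
    have : 1 < k := Nat.lt_of_mul_lt_mul_left (a := D x) (by rwa [mul_one])
    have : k ≤ 2 := Nat.le_of_mul_le_mul_left h4 hpos
    rw [show k = 2 by omega, mul_comm]
  have full : ∀ x : G, centralizer ({x} : Set G) ≤ H → D x = C x := fun x hx => by
    simp only [D, C, inf_eq_left.2 hx]
  have hS : ∀ x : G, centralizer ({x} : Set G) ≤ H → x ∈ H := fun x hx => hx (H27.mem_cent.2 rfl)
  -- the three sums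
  have eG : Nat.card (ConjClasses G) * Nat.card G = ∑ x : G, C x := H27.classNumber_mul_card
  have eH : Nat.card (ConjClasses H) * Nat.card H = ∑ x ∈ Finset.univ.filter (· ∈ H), D x := by
    rw [H27.classNumber_mul_card (X := H), Finset.sum_subtype (p := (· ∈ H)) _ (fun x => by simp)]
    exact Finset.sum_congr rfl fun y _ => H27.card_cent_sub H y
  have eS : Nat.card (SplitClasses H) * Nat.card G =
      ∑ x ∈ Finset.univ.filter (fun x : G => centralizer ({x} : Set G) ≤ H), C x := by
    rw [Nat.card_eq_fintype_card (α := SplitClasses H), ← Set.toFinset_card,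
      ← Finset.sum_fiberwise_of_maps_to (g := ConjClasses.mk) (t := (SplitClasses H).toFinset)
        (fun x hx => Set.mem_toFinset.2 ⟨x, rfl, (Finset.mem_filter.1 hx).2⟩),
      Finset.card_eq_sum_ones, Finset.sum_mul]
    refine Finset.sum_congr rfl fun c hc => ?_
    obtain ⟨x, rfl, hx⟩ := Set.mem_toFinset.1 hc
    have hset : ((Finset.univ.filter fun y : G => centralizer ({y} : Set G) ≤ H).filter
        fun y => ConjClasses.mk y = ConjClasses.mk x) = (ConjClasses.mk x).carrier.toFinset := by
      ext y
      simp only [Finset.mem_filter, Finset.mem_univ, true_and, Set.mem_toFinset,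
        ConjClasses.mem_carrier_iff_mk_eq]
      exact ⟨fun h => h.2, fun h => ⟨(split_iff (ConjClasses.mk_eq_mk_iff_isConj.1 h)).2 hx, h⟩⟩
    rw [hset, one_mul, Finset.sum_congr rfl (g := fun _ => C x) fun y hy => by
      rw [Set.mem_toFinset, ConjClasses.mem_carrier_iff_mk_eq, ConjClasses.mk_eq_mk_iff_isConj] at hy
      have h1 := H27.index_cent_eq_of_isConj hy
      have h2 := H27.card_cent_mul_index y
      rw [h1, ← H27.card_cent_mul_index x] at h2
      exact Nat.eq_of_mul_eq_mul_right (H27.cent_pos x) h2]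
    rw [Finset.sum_const, smul_eq_mul, Set.toFinset_card, ← Nat.card_eq_fintype_card,
      H27.card_carrier_eq_index, mul_comm]
    exact (H27.card_cent_mul_index x).symm
  -- split the sums
  set P : Finset G := Finset.univ.filter (· ∈ H)
  set S : Finset G := Finset.univ.filter (fun x : G => centralizer ({x} : Set G) ≤ H)
  have hswap : ∑ x ∈ Finset.univ.filter (· ∉ H), D x + ∑ x ∈ P, D x = ∑ x ∈ P, C x := by
    rw [add_comm, Finset.sum_filter_add_sum_filter_not, H27.sum_inf_swap,
      Finset.sum_subtype (p := (· ∈ H)) P (fun x => by simp [P])]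
  have hout : ∑ x ∈ Finset.univ.filter (· ∉ H), C x = 2 * ∑ x ∈ Finset.univ.filter (· ∉ H), D x := by
    rw [Finset.mul_sum]
    exact Finset.sum_congr rfl fun x hx => (half x fun h => (Finset.mem_filter.1 hx).2 (hS x h)).symm
  have hin : 2 * ∑ x ∈ P, D x = ∑ x ∈ P, C x + ∑ x ∈ S, C x := by
    have hsub : P.filter (fun x : G => centralizer ({x} : Set G) ≤ H) = S :=
      Finset.ext fun x => by simpa [P, S] using hS x
    rw [← hsub, Finset.sum_filter (s := P), Finset.mul_sum, ← Finset.sum_add_distrib]
    refine Finset.sum_congr rfl fun x _ => ?_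
    split_ifs with h
    · rw [full x h, two_mul]
    · rw [half x h, add_zero]
  have hsplit : ∑ x ∈ P, C x + ∑ x ∈ Finset.univ.filter (· ∉ H), C x = ∑ x : G, C x :=
    Finset.sum_filter_add_sum_filter_not _ _ _
  have hcard : Nat.card H * 2 = Nat.card G := hH ▸ H.card_mul_index
  refine Nat.eq_of_mul_eq_mul_right (Nat.card_pos (α := G)) ?_
  rw [add_mul, eG, mul_assoc 3, eS]
  rw [show 2 * Nat.card (ConjClasses H) * Nat.card G = 4 * (Nat.card (ConjClasses H) * Nat.card H) by
    rw [← hcard]; ring, eH]
  omega

end H44.Cls
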