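import Mathlib
import Cfsg.Agent.H44.Cls.Target

/-! The number of labels of odd weight `2n + 1`. -/

set_option autoImplicit false

namespace H44.Cls

open Finset Polynomial

/-- The tuples in `A` of weight `m`. -/
def wset {α : Type*} [DecidableEq α] (deg : α → ℕ) (A : ℕ → Finset α) (k m : ℕ) : Finset (Fin k → α) :=
  (Fintype.piFinset fun j : Fin k => A j.1).filter fun c => ∑ j : Fin k, (j.1 + 1) * deg (c j) = m

section Tuples

variable {α : Type*} [DecidableEq α] (deg : α → ℕ) (A : ℕ → Finset α)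

theorem card_wset_succ_le (k m : ℕ) :
    (wset deg A (k + 1) m).card ≤ ∑ e ∈ range (m / (k + 1) + 1),
      ((A k).filter fun a => deg a = e).card * (wset deg A k (m - (k + 1) * e)).card := by
  classical
  have hsum : ∀ c : Fin (k + 1) → α, ∑ j : Fin (k + 1), (j.1 + 1) * deg (c j) =
      (∑ j : Fin k, (j.1 + 1) * deg (Fin.init c j)) + (k + 1) * deg (c (Fin.last k)) :=
    fun c => by simp [Fin.sum_univ_castSucc, Fin.init]
  have hmem : ∀ c ∈ wset deg A (k + 1) m, deg (c (Fin.last k)) ∈ range (m / (k + 1) + 1) := fun c hc => by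
    simp only [wset, Finset.mem_filter, hsum] at hc
    rw [Finset.mem_range, Nat.lt_succ_iff, Nat.le_div_iff_mul_le (show 0 < k + 1 from k.succ_pos), Nat.mul_comm _ (k + 1)]
    omega
  rw [Finset.card_eq_sum_card_fiberwise (f := fun c => deg (c (Fin.last k))) (fun c hc => hmem c hc)]
  refine Finset.sum_le_sum fun e _ => ?_
  rw [← Finset.card_product]
  refine Finset.card_le_card_of_injOn (fun c => (c (Fin.last k), Fin.init c)) (fun c hc => ?_) fun c _ c' _ h => ?_
  · simp only [Finset.coe_filter, wset, Finset.mem_filter, Fintype.mem_piFinset, Set.mem_ofPred_eq, hsum] at hc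
    obtain ⟨⟨hA, hw⟩, rfl⟩ := hc
    simp only [Finset.coe_product, Set.mem_prod, Finset.coe_filter, wset, Finset.mem_filter, Fintype.mem_piFinset,
      Set.mem_ofPred_eq]
    exact ⟨⟨by simpa using hA (Fin.last k), trivial⟩, fun j => hA j.castSucc, by omega⟩
  · simp only [Prod.mk.injEq] at h
    rw [← Fin.snoc_init_self c, ← Fin.snoc_init_self c', h.1, h.2]

theorem card_wset_one_le (m : ℕ) : (wset deg A 1 m).card ≤ ((A 0).filter fun a => deg a = m).card := by
  refine Finset.card_le_card_of_injOn (fun c => c 0) (fun c hc => ?_) fun c _ c' _ h => ?_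
  · simp only [Finset.mem_coe, wset, Finset.mem_filter, Fintype.mem_piFinset, Fin.sum_univ_one] at hc
    simp only [Finset.coe_filter, Set.mem_ofPred_eq]
    exact ⟨by simpa using hc.1 0, by simpa using hc.2⟩
  · funext j
    rw [Fin.fin_one_eq_zero j]
    exact h

theorem lambert_le {y : ℝ} (h0 : 0 ≤ y) (h3 : y ≤ 1 / 3) (k : ℕ) :
    ∑ i ∈ range k, y ^ (i + 1) / (1 - y ^ (i + 1)) ≤ 1 := by
  have : ∀ i, y ^ (i + 1) / (1 - y ^ (i + 1)) ≤ (1 / 2) * (1 / 3) ^ i := fun i => by
    have h1 : y ^ (i + 1) ≤ (1 / 3 : ℝ) ^ (i + 1) := pow_le_pow_left₀ h0 h3 _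
    have h2 : y ^ (i + 1) ≤ 1 / 3 := h1.trans (by
      rw [pow_succ]; exact mul_le_of_le_one_left (by norm_num) (pow_le_one₀ (by norm_num) (by norm_num)))
    rw [div_le_iff₀ (by linarith)]
    rw [pow_succ (1 / 3 : ℝ)] at h1
    nlinarith [pow_nonneg (by norm_num : (0 : ℝ) ≤ 1 / 3) i]
  refine (Finset.sum_le_sum fun i _ => this i).trans ?_
  rw [← Finset.mul_sum]
  have h : ∀ k : ℕ, ∑ i ∈ range k, (1 / 3 : ℝ) ^ i = 3 / 2 * (1 - (1 / 3) ^ k) := by
    intro k
    induction k with
    | zero => simp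
    | succ k ih => rw [Finset.sum_range_succ, ih, pow_succ]; ring
  rw [h]
  have : (0 : ℝ) ≤ (1 / 3) ^ k := by positivity
  linarith

theorem card_wset_le {q a b : ℝ} (hq : 3 ≤ q) (ha : 0 ≤ a) (hb : 0 ≤ b)
    (h0 : ∀ e, (((A 0).filter fun x => deg x = e).card : ℝ) ≤ a * q ^ e + if e = 0 then b else 0)
    (hA : ∀ j e, (((A (j + 1)).filter fun x => deg x = e).card : ℝ) ≤ q ^ e) (k m : ℕ) :
    ((wset deg A (k + 1) m).card : ℝ) ≤
      a * (∏ i ∈ range k, (1 - q⁻¹ ^ (i + 1))⁻¹) * q ^ m +
        b * if m = 0 then 1 else (∑ i ∈ range k, q⁻¹ ^ (i + 1) / (1 - q⁻¹ ^ (i + 1))) * q ^ m := by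
  have hq0 : 0 < q := by linarith
  set y := q⁻¹ with hy
  have hy0 : 0 < y := inv_pos.2 hq0
  have hy3 : y ≤ 1 / 3 := by rw [hy, one_div]; exact inv_anti₀ (by norm_num) hq
  have hlt : ∀ i, y ^ (i + 1) < 1 := fun i => pow_lt_one₀ hy0.le (by linarith) i.succ_ne_zero
  induction k generalizing m with
  | zero =>
    refine (Nat.cast_le.2 (card_wset_one_le deg A m)).trans ((h0 m).trans (le_of_eq ?_))
    by_cases hm : m = 0 <;> simp [hm]
  | succ k ih =>
    set C := ∏ i ∈ range k, (1 - y ^ (i + 1))⁻¹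
    set S := ∑ i ∈ range k, y ^ (i + 1) / (1 - y ^ (i + 1))
    have hC : 0 ≤ C := Finset.prod_nonneg fun i _ => inv_nonneg.2 (sub_nonneg.2 (hlt i).le)
    have hS : S ≤ 1 := lambert_le hy0.le hy3 k
    set z := y ^ (k + 1)
    have hz : z < 1 := hlt k
    have hz0 : 0 ≤ z := by positivity
    have hK : 0 ≤ a * C + b := by positivity
    have crude : ∀ m, ((wset deg A (k + 1) m).card : ℝ) ≤ (a * C + b) * q ^ m := fun m => by
      refine (ih m).trans ?_
      by_cases hm : m = 0
      · simp [hm]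
      · rw [if_neg hm]
        nlinarith [mul_le_mul_of_nonneg_left hS (mul_nonneg hb (pow_nonneg hq0.le m))]
    have h := (Nat.cast_le (α := ℝ)).2 (card_wset_succ_le deg A (k + 1) m)
    push_cast at h
    rw [Finset.sum_range_succ'] at h
    have h00 : (((A (k + 1)).filter fun x => deg x = 0).card : ℝ) * (wset deg A (k + 1) (m - (k + 1 + 1) * 0)).card ≤
        a * C * q ^ m + b * if m = 0 then 1 else S * q ^ m := by
      rw [mul_zero, Nat.sub_zero]
      refine le_trans ?_ (ih m)
      refine mul_le_of_le_one_left (Nat.cast_nonneg _) ?_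
      simpa using hA k 0
    refine h.trans ?_
    rw [add_comm]
    have rest : ∀ i ∈ range (m / (k + 1 + 1)),
        (((A (k + 1)).filter fun x => deg x = i + 1).card : ℝ) * (wset deg A (k + 1) (m - (k + 1 + 1) * (i + 1))).card ≤
          (a * C + b) * q ^ m * (z * z ^ i) := by
      intro i hi
      have hle : (k + 1 + 1) * (i + 1) ≤ m := by
        rw [Finset.mem_range] at hi
        calc _ ≤ (k + 1 + 1) * (m / (k + 1 + 1)) := Nat.mul_le_mul_left _ (by omega)
          _ ≤ m := Nat.mul_div_le _ _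
      refine (mul_le_mul (hA k (i + 1)) (crude _) (Nat.cast_nonneg _) (by positivity)).trans (le_of_eq ?_)
      obtain ⟨r, rfl⟩ : ∃ r, m = (k + 1 + 1) * (i + 1) + r := ⟨_, (Nat.add_sub_cancel' hle).symm⟩
      rw [Nat.add_sub_cancel_left, pow_add q ((k + 1 + 1) * (i + 1)), ← pow_succ', ← pow_mul,
        show (k + 1 + 1) * (i + 1) = (k + 1) * (i + 1) + (i + 1) by ring, pow_add]
      have : q ^ ((k + 1) * (i + 1)) * y ^ ((k + 1) * (i + 1)) = 1 := by
        rw [← mul_pow, hy, mul_inv_cancel₀ hq0.ne', one_pow]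
      linear_combination (-(a * C + b) * q ^ (i + 1) * q ^ r) * this
    have hgeo : ∑ i ∈ range (m / (k + 1 + 1)), z * z ^ i ≤ if m = 0 then 0 else z / (1 - z) := by
      by_cases hm : m = 0
      · simp [hm]
      · rw [if_neg hm, ← Finset.mul_sum, le_div_iff₀ (by linarith), mul_assoc, geom_sum_mul_neg]
        nlinarith [pow_nonneg hz0 (m / (k + 1 + 1))]
    refine (add_le_add h00 ((Finset.sum_le_sum rest).trans_eq (Finset.mul_sum _ _ _).symm)).trans ?_
    rw [Finset.prod_range_succ, Finset.sum_range_succ]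
    have hsum := mul_le_mul_of_nonneg_left hgeo (mul_nonneg hK (pow_nonneg hq0.le m))
    refine (add_le_add le_rfl hsum).trans (le_of_sub_nonneg ?_)
    have hne : (1 : ℝ) - z ≠ 0 := (sub_pos.2 hz).ne'
    have hinv : (1 - z)⁻¹ = 1 + z / (1 - z) := by
      rw [eq_comm, ← sub_eq_zero]; field_simp; ring
    by_cases hm : m = 0
    · simp only [hm, if_true, pow_zero, mul_zero, mul_one]
      rw [hinv]
      have : 0 ≤ z / (1 - z) := div_nonneg hz0 (by linarith)
      nlinarith [mul_nonneg (mul_nonneg ha hC) this]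
    · simp only [if_neg hm]
      rw [hinv]
      apply le_of_eq
      ring

end Tuples

theorem euler_lower' (m : ℕ) : (5594 / 10000 : ℝ) ≤ ∏ k ∈ range m, (1 - (1 / 3 : ℝ) ^ (k + 1)) := by
  have hstep : ∀ d, (5594 / 10000 : ℝ) * (1 + 3 / 5 * (1 / 3 : ℝ) ^ (d + 4)) ≤
      ∏ k ∈ range (d + 4), (1 - (1 / 3 : ℝ) ^ (k + 1)) := by
    intro d
    induction d with
    | zero => norm_num [Finset.prod_range_succ]
    | succ d ih =>
      rw [show d + 1 + 4 = d + 4 + 1 by omega, Finset.prod_range_succ _ (d + 4), pow_succ]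
      set y := (1 / 3 : ℝ) ^ (d + 4) with hy
      have hy0 : 0 ≤ y := by positivity
      have hy1 : y ≤ 1 / 81 :=
        (pow_le_pow_of_le_one (by norm_num) (by norm_num) (by omega : 4 ≤ d + 4)).trans (by norm_num)
      have h1 : 0 ≤ 1 - y * (1 / 3) := by linarith
      refine le_trans ?_ (mul_le_mul_of_nonneg_right ih h1)
      nlinarith
  rcases Nat.lt_or_ge m 4 with h | h
  · interval_cases m <;> norm_num [Finset.prod_range_succ]
  · obtain ⟨d, rfl⟩ : ∃ d, m = d + 4 := ⟨m - 4, by omega⟩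
    refine le_trans ?_ (hstep d)
    have : (0 : ℝ) ≤ (1 / 3 : ℝ) ^ (d + 4) := by positivity
    nlinarith

theorem euler_le' {y : ℝ} (hy0 : 0 ≤ y) (hy : y ≤ 1 / 3) (m : ℕ) :
    ∏ k ∈ range m, (1 - y ^ (k + 1))⁻¹ ≤ 10000 / 5594 := by
  rw [Finset.prod_inv_distrib]
  have h : (5594 / 10000 : ℝ) ≤ ∏ k ∈ range m, (1 - y ^ (k + 1)) :=
    (euler_lower' m).trans (Finset.prod_le_prod (fun k _ => sub_nonneg.2 (pow_le_one₀ (by norm_num) (by norm_num)))
      fun k _ => by gcongr)
  exact (inv_anti₀ (by norm_num) h).trans (by norm_num)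

/-- A product over odd exponents, from its first three factors. -/
theorem tail_le {x α K : ℝ} (hx : 0 ≤ x) (hα : 0 ≤ α) (hK : 0 ≤ K) (hxα : x ^ 2 * (1 + α) ≤ α)
    (hbase : (1 + x ^ 3) * (1 + x ^ 5) * (1 + x ^ 7) ≤ K * (1 - α * x ^ 7)) (m : ℕ) :
    ∏ k ∈ range m, (1 + x ^ (2 * k + 3)) ≤ K := by
  have hstep : ∀ d, ∏ k ∈ range (d + 3), (1 + x ^ (2 * k + 3)) ≤ K * (1 - α * x ^ (2 * d + 7)) := by
    intro d
    induction d with
    | zero => simpa [Finset.prod_range_succ] using hbase
    | succ d ih =>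
      rw [show d + 1 + 3 = d + 3 + 1 by omega, Finset.prod_range_succ _ (d + 3)]
      have hy : x ^ (2 * (d + 1) + 7) = x ^ (2 * d + 7) * x ^ 2 := by rw [← pow_add]; ring_nf
      have hy' : x ^ (2 * (d + 3) + 3) = x ^ (2 * d + 7) * x ^ 2 := by rw [← pow_add]; ring_nf
      rw [hy, hy']
      set y := x ^ (2 * d + 7)
      have hy0 : 0 ≤ y := by positivity
      refine le_trans (mul_le_mul_of_nonneg_right ih (by positivity)) ?_
      rw [mul_assoc]
      refine mul_le_mul_of_nonneg_left ?_ hK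
      nlinarith [mul_le_mul_of_nonneg_left hxα hy0, mul_nonneg (mul_nonneg hα (mul_nonneg hy0 hy0)) (sq_nonneg x)]
  have hfin : K * (1 - α * x ^ (2 * m + 7)) ≤ K :=
    mul_le_of_le_one_right hK (by linarith [mul_nonneg hα (pow_nonneg hx (2 * m + 7))])
  refine le_trans ?_ ((hstep m).trans hfin)
  exact Finset.prod_le_prod_of_subset_of_one_le (Finset.range_subset_range.2 (by omega))
    (fun k _ => by positivity) fun k _ _ => le_add_of_nonneg_right (pow_nonneg hx _)

/-- At most one bit for each sign at odd exponents, none at even ones. -/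
def pairBits (j : ℕ) : Finset Bits :=
  if Even j then ({(false, false), (true, false)} : Finset (Bool × Bool)) ×ˢ {(false, false), (true, false)}
  else {((false, false), (false, false))}

universe u

variable (F : Type u) [Field F] [Fintype F]

/-- The coefficient part of a label. -/
abbrev Coef (N : ℕ) := Σ e : Fin (N + 1), (Fin e.1 → F)

variable {F}

/-- The palindromic polynomial with given coefficients. -/
noncomputable def palPoly {e : ℕ} (c : Fin e → F) : F[X] := (H48.SS.exists_pal c).choose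

theorem palPoly_prop {e : ℕ} (c : Fin e → F) : H48.SS.Pal (palPoly c) ∧ (palPoly c).natDegree = 2 * e ∧
    ∀ k : Fin e, (palPoly c).coeff (k.1 + 1) = c k := (H48.SS.exists_pal c).choose_spec

/-- The palindromic polynomial has neither root `± 1`. -/
def Free {N : ℕ} (c : Coef F N) : Prop := (palPoly c.2).eval 1 * (palPoly c.2).eval (-1) ≠ 0

variable (F)

open Classical in
/-- The label set with the polynomial at exponent one restricted. -/
noncomputable def coefSet (N : ℕ) (free : Bool) (j : ℕ) : Finset (Coef F N) :=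
  if j = 0 ∧ free = true then Finset.univ.filter Free else Finset.univ

open Classical in
/-- Labels of weight `N`. -/
noncomputable def labSet' (N : ℕ) (D : ℕ → Finset Bits) (free : Bool) : Finset (Lab F N) :=
  Finset.univ.filter fun f => f ∈ labSet F N D ∧ ∀ j : Fin N, (f j).2 ∈ coefSet F N free j.1

theorem card_coef_le (N e : ℕ) :
    ((Finset.univ : Finset (Coef F N)).filter fun c => c.1.1 = e).card ≤ Fintype.card F ^ e := by
  classical
  by_cases he : e < N + 1
  · refine le_trans (Finset.card_le_card (fun c hc => ?_ : _ ⊆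
      (Finset.univ : Finset (Fin e → F)).image fun v => (⟨⟨e, he⟩, v⟩ : Coef F N))) ?_
    · obtain ⟨⟨i, hi⟩, v⟩ := c
      simp only [Finset.mem_filter] at hc
      obtain rfl := hc.2
      exact Finset.mem_image.2 ⟨v, Finset.mem_univ _, rfl⟩
    · exact Finset.card_image_le.trans (by simp)
  · rw [Finset.card_eq_zero.2 (Finset.filter_eq_empty_iff.2 fun c _ hc => he (by have := c.1.2; omega))]
    exact Nat.zero_le _

variable {F}

/-- A palindromic direction changing the value at `c` only. -/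
noncomputable def shiftDir (c : F) (n : ℕ) : F[X] := X ^ (n - 1) + C (2 * c) * X ^ n + X ^ (n + 1)

omit [Fintype F] in
theorem shiftDir_eval {c : F} (hc : c * c = 1) {n : ℕ} (hn : 1 ≤ n) :
    (shiftDir c n).eval c = 4 * c ^ (n - 1) ∧ (shiftDir c n).eval (-c) = 0 := by
  obtain ⟨m, rfl⟩ : ∃ m, n = m + 1 := ⟨n - 1, by omega⟩
  simp only [shiftDir, eval_add, eval_mul, eval_C, eval_pow, eval_X, Nat.add_sub_cancel, pow_succ]
  exact ⟨by linear_combination (3 * c ^ m) * hc, by linear_combination (-((-c) ^ m)) * hc⟩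

omit [Fintype F] in
theorem pal_add_shift {n : ℕ} (hn : 2 ≤ n) (c r : F) {P : F[X]} (hP : H48.SS.Pal P) (hd : P.natDegree = 2 * n) :
    H48.SS.Pal (P + C r * shiftDir c n) ∧ (P + C r * shiftDir c n).natDegree = 2 * n := by
  have e : C r * shiftDir c n = C r * X ^ (n - 1) + C (r * (2 * c)) * X ^ n + C r * X ^ (n + 1) := by
    rw [shiftDir, map_mul C r (2 * c)]; ring
  have hlt : (C r * shiftDir c n).natDegree < 2 * n := by
    rw [e]
    refine lt_of_le_of_lt ((natDegree_add_le _ _).trans (max_le ((natDegree_add_le _ _).trans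
      (max_le ?_ ?_)) (natDegree_C_mul_X_pow_le _ _))) (show n + 1 < 2 * n by omega)
    · exact (natDegree_C_mul_X_pow_le _ _).trans (by omega)
    · exact (natDegree_C_mul_X_pow_le _ _).trans (by omega)
  have hdeg : (P + C r * shiftDir c n).natDegree = 2 * n := by
    rw [natDegree_add_eq_left_of_natDegree_lt (by omega), hd]
  refine ⟨⟨?_, by rw [hdeg]; exact even_two_mul n, ?_⟩, hdeg⟩
  · show leadingCoeff _ = 1
    rw [leadingCoeff, hdeg, coeff_add, coeff_eq_zero_of_natDegree_lt hlt, add_zero, ← hd]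
    exact hP.monic.leadingCoeff
  · rw [reverse, hdeg, reflect_add, e, reflect_add, reflect_add, reflect_C_mul_X_pow, reflect_C_mul_X_pow,
      reflect_C_mul_X_pow, revAt_le (by omega), revAt_le (by omega), revAt_le (by omega),
      show 2 * n - (n - 1) = n + 1 by omega, show 2 * n - n = n by omega, show 2 * n - (n + 1) = n - 1 by omega,
      ← hd, show reflect P.natDegree P = P from hP.rev]
    ring

theorem palPoly_injective {n : ℕ} {v w : Fin n → F} (h : palPoly v = palPoly w) : v = w :=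
  funext fun k => by rw [← (palPoly_prop v).2.2 k, ← (palPoly_prop w).2.2 k, h]

/-- In a set closed under changing the value at `c`, the value `0` is not rare. -/
theorem card_ne_zero_le (h2 : (2 : F) ≠ 0) {n : ℕ} (hn : 2 ≤ n) {c : F} (hc : c * c = 1) (Z : F → Prop) :
    Fintype.card F * Nat.card {v : Fin n → F // Z ((palPoly v).eval (-c)) ∧ (palPoly v).eval c ≠ 0} ≤
      (Fintype.card F - 1) * Nat.card {v : Fin n → F // Z ((palPoly v).eval (-c))} := by
  classical
  obtain ⟨hDc, hDn⟩ := shiftDir_eval hc (show 1 ≤ n by omega)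
  have h4 : (4 : F) * c ^ (n - 1) ≠ 0 := by
    rw [show (4 : F) = 2 * 2 by norm_num]
    exact mul_ne_zero (mul_ne_zero h2 h2) (pow_ne_zero _ (left_ne_zero_of_mul_eq_one hc))
  let sh : (Fin n → F) → F → (Fin n → F) := fun v u i =>
    (palPoly v + C ((u - (palPoly v).eval c) / (4 * c ^ (n - 1))) * shiftDir c n).coeff (i.1 + 1)
  have hsh : ∀ v u, palPoly (sh v u) =
      palPoly v + C ((u - (palPoly v).eval c) / (4 * c ^ (n - 1))) * shiftDir c n := fun v u => by
    obtain ⟨hP, hd, -⟩ := palPoly_prop v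
    obtain ⟨hR, hRd⟩ := pal_add_shift hn c ((u - (palPoly v).eval c) / (4 * c ^ (n - 1))) hP hd
    obtain ⟨hW, hWd, hWc⟩ := palPoly_prop (sh v u)
    exact hW.ext hR hWd hRd hWc
  have hu : ∀ v u, (palPoly (sh v u)).eval c = u := fun v u => by
    rw [hsh, eval_add, eval_mul, eval_C, hDc, div_mul_cancel₀ _ h4, add_sub_cancel]
  have hn' : ∀ v u, (palPoly (sh v u)).eval (-c) = (palPoly v).eval (-c) := fun v u => by
    rw [hsh, eval_add, eval_mul, hDn, mul_zero, add_zero]
  rw [mul_comm (Fintype.card F - 1)]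
  have hne : Nat.card {x : F // x ≠ 0} = Fintype.card F - 1 := by
    rw [Nat.card_eq_fintype_card, Fintype.card_subtype_compl, Fintype.card_subtype_eq]
  rw [← hne, ← Nat.card_eq_fintype_card, ← Nat.card_prod, ← Nat.card_prod]
  refine Nat.card_le_card_of_injective
    (fun p => (⟨sh p.2.1 p.1, by rw [hn']; exact p.2.2.1⟩, ⟨(palPoly p.2.1).eval c, p.2.2.2⟩)) ?_
  rintro ⟨u, v, hv⟩ ⟨u', v', hv'⟩ h
  simp only [Prod.mk.injEq, Subtype.mk.injEq] at h
  obtain rfl : u = u' := by rw [← hu v u, h.1, hu]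
  have e := congrArg palPoly h.1
  rw [hsh, hsh, h.2, add_left_inj] at e
  obtain rfl := palPoly_injective e
  rfl

/-- At most four ninths of the palindromic polynomials over three elements have neither root `± 1`. -/
theorem card_free_le (hF : Fintype.card F = 3) (h2 : (2 : F) ≠ 0) {N : ℕ} (e : ℕ) :
    (((coefSet F N true 0).filter fun c : Coef F N => c.1.1 = e).card : ℝ) ≤
      4 / 9 * (3 : ℝ) ^ e + if e = 0 then 5 / 9 else 0 := by
  classical
  set S := (coefSet F N true 0).filter fun c : Coef F N => c.1.1 = e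
  have hS : S.card ≤ Nat.card {v : Fin e → F // (palPoly v).eval 1 ≠ 0 ∧ (palPoly v).eval (-1) ≠ 0} := by
    rw [Nat.card_eq_fintype_card, Fintype.card_subtype]
    by_cases he : e < N + 1
    · refine le_trans (Finset.card_le_card (fun c hc => ?_ : S ⊆ (Finset.univ.filter fun v : Fin e → F =>
          (palPoly v).eval 1 ≠ 0 ∧ (palPoly v).eval (-1) ≠ 0).image fun v => (⟨⟨e, he⟩, v⟩ : Coef F N)))
        Finset.card_image_le
      obtain ⟨⟨i, hi⟩, v⟩ := c
      simp only [S, Finset.mem_filter, coefSet] at hc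
      obtain ⟨hfree, rfl⟩ := hc
      simp only [true_and, if_true, Finset.mem_filter, Finset.mem_univ, Free, mul_ne_zero_iff] at hfree
      exact Finset.mem_image.2 ⟨v, Finset.mem_filter.2 ⟨Finset.mem_univ _, hfree⟩, rfl⟩
    · rw [Finset.card_eq_zero.2 (Finset.filter_eq_empty_iff.2 fun c _ hc => he (by have := c.1.2; omega))]
      exact Nat.zero_le _
  refine (Nat.cast_le.2 hS).trans ?_
  rcases Nat.lt_or_ge e 2 with hlt | hge
  · interval_cases e
    · refine (Nat.cast_le.2 (Finite.card_le_one_iff_subsingleton.2 inferInstance)).trans ?_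
      norm_num
    · have h4 : (4 : F) ≠ 0 := by rw [show (4 : F) = 2 * 2 by norm_num]; exact mul_ne_zero h2 h2
      have hev : ∀ (v : Fin 1 → F) (c : F), (palPoly v).eval c = 1 + v 0 * c + c * c := by
        intro v c
        obtain ⟨hP, hd, hco⟩ := palPoly_prop v
        have h0 : (palPoly v).coeff 0 = 1 := by
          rw [← hP.rev, coeff_zero_reverse, hP.monic.leadingCoeff]
        have h2' : (palPoly v).coeff 2 = 1 := by
          have := hP.monic.coeff_natDegree
          rwa [hd] at this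
        have h1' : (palPoly v).coeff 1 = v 0 := hco 0
        rw [eval_eq_sum_range, hd, Finset.sum_range_succ, Finset.sum_range_succ, Finset.sum_range_succ,
          Finset.sum_range_zero, h0, h2', h1']
        ring
      have hle : Nat.card {v : Fin 1 → F // (palPoly v).eval 1 ≠ 0 ∧ (palPoly v).eval (-1) ≠ 0} ≤
          Nat.card ({2, -2}ᶜ : Finset F) := by
        refine Nat.card_le_card_of_injective (fun v => ⟨v.1 0, ?_⟩) fun v w h => ?_
        · rw [Finset.mem_compl, Finset.mem_insert, Finset.mem_singleton]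
          rintro (h | h)
          · exact v.2.2 (by rw [hev, h]; ring)
          · exact v.2.1 (by rw [hev, h]; ring)
        · refine Subtype.ext (funext fun i => ?_)
          rw [Fin.fin_one_eq_zero i]
          exact congrArg Subtype.val h
      rw [Nat.card_eq_finsetCard, Finset.card_compl, hF,
        Finset.card_pair (fun h => h4 (by linear_combination h))] at hle
      refine (Nat.cast_le.2 hle).trans ?_
      norm_num
  · have a1 := card_ne_zero_le h2 hge (c := (1 : F)) (one_mul 1) (fun x => x ≠ 0)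
    have a2 := card_ne_zero_le h2 hge (c := (-1 : F)) (by ring) (fun _ => True)
    simp only [neg_neg, true_and] at a2
    rw [hF] at a1 a2
    have e1 : Nat.card {v : Fin e → F // (palPoly v).eval (-1) ≠ 0 ∧ (palPoly v).eval 1 ≠ 0} =
        Nat.card {v : Fin e → F // (palPoly v).eval 1 ≠ 0 ∧ (palPoly v).eval (-1) ≠ 0} :=
      Nat.card_congr (Equiv.subtypeEquivRight fun v => and_comm)
    have e2 : Nat.card {v : Fin e → F // True} = 3 ^ e := by
      rw [Nat.card_congr (Equiv.subtypeUnivEquiv fun _ => trivial), Nat.card_eq_fintype_card, Fintype.card_fun,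
        Fintype.card_fin, hF]
    rw [e2] at a2
    rw [e1] at a1
    set Q := Nat.card {v : Fin e → F // (palPoly v).eval 1 ≠ 0 ∧ (palPoly v).eval (-1) ≠ 0}
    have hQ : 9 * Q ≤ 4 * 3 ^ e := by omega
    have hQ' : (9 : ℝ) * Q ≤ 4 * 3 ^ e := by exact_mod_cast hQ
    rw [if_neg (by omega : e ≠ 0)]
    linarith

variable (F)

/-- Labels are counted through their bits. -/
theorem card_labSet'_le {n : ℕ} (D : ℕ → Finset Bits) (free : Bool) {a b : ℝ} (ha : 0 ≤ a) (hb : 0 ≤ b)
    (hq : 3 ≤ Fintype.card F)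
    (h0 : ∀ e, (((coefSet F (2 * n + 1) free 0).filter fun c => c.1.1 = e).card : ℝ) ≤
      a * (Fintype.card F : ℝ) ^ e + if e = 0 then b else 0)
    {x : ℝ} (hx : 0 < x) (hqx : 1 ≤ (Fintype.card F : ℝ) * x ^ 2)
    (hneg : ∀ j, 0 ≤ ∑ β ∈ D j, (-x) ^ ((j + 1) * w4 β)) :
    2 * x * ((labSet' F (2 * n + 1) D free).card : ℝ) ≤ (a * (10000 / 5594) + b) * (Fintype.card F : ℝ) ^ n *
      ∏ j ∈ range (2 * n + 1), ∑ β ∈ D j, x ^ ((j + 1) * w4 β) := by
  classical
  set N := 2 * n + 1
  set q : ℝ := (Fintype.card F : ℝ)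
  have hq3 : 3 ≤ q := by unfold q; exact_mod_cast hq
  set K := a * (10000 / 5594) + b
  have hK : 0 ≤ K := by positivity
  let W : (Fin N → Bits) → ℕ := fun β => ∑ j : Fin N, (j.1 + 1) * w4 (β j)
  let A : ℕ → Finset (Coef F N) := coefSet F N free
  have hcoef : ∀ m, ((wset (fun c : Coef F N => c.1.1) A N m).card : ℝ) ≤ K * q ^ m := by
    intro m
    refine (card_wset_le (fun c : Coef F N => c.1.1) A hq3 ha hb h0 (fun j e => ?_) (2 * n) m).trans ?_
    · have hA : A (j + 1) = Finset.univ := by simp [A, coefSet]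
      rw [hA]
      calc (((Finset.univ : Finset (Coef F N)).filter fun c => c.1.1 = e).card : ℝ) ≤ ((Fintype.card F ^ e : ℕ) : ℝ) := by
            exact_mod_cast card_coef_le F N e
        _ = q ^ e := by push_cast; rfl
    · have hy0 : 0 ≤ q⁻¹ := by positivity
      have hy3 : q⁻¹ ≤ 1 / 3 := by rw [one_div]; exact inv_anti₀ (by norm_num) hq3
      have h1 := euler_le' hy0 hy3 (2 * n)
      have h2 := lambert_le hy0 hy3 (2 * n)
      have hp : 0 ≤ q ^ m := by positivity
      by_cases hm : m = 0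
      · subst hm
        simp only [pow_zero, mul_one, if_true, K]
        nlinarith
      · rw [if_neg hm]
        simp only [K]
        nlinarith [mul_le_mul_of_nonneg_left h1 (mul_nonneg ha hp), mul_le_mul_of_nonneg_left h2 (mul_nonneg hb hp)]
  let P : Finset (Fin N → Bits) := (Fintype.piFinset fun j : Fin N => D j.1).filter fun β => Odd (W β) ∧ W β ≤ N
  have hmap : ∀ f ∈ labSet' F N D free, (fun j => (f j).1) ∈ P ∧
      (fun j => (f j).2) ∈ wset (fun c : Coef F N => c.1.1) A N ((N - W (fun j => (f j).1)) / 2) := by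
    intro f hf
    simp only [labSet', labSet, Finset.mem_filter, Finset.mem_univ, true_and] at hf
    obtain ⟨⟨hD, hw⟩, hA⟩ := hf
    have hsplit : W (fun j => (f j).1) + 2 * ∑ j : Fin N, (j.1 + 1) * (f j).2.1.1 = N := by
      rw [Finset.mul_sum, ← Finset.sum_add_distrib]
      refine (Finset.sum_congr rfl fun j _ => ?_).trans hw
      ring
    refine ⟨Finset.mem_filter.2 ⟨Fintype.mem_piFinset.2 hD, ?_, by omega⟩, Finset.mem_filter.2
      ⟨Fintype.mem_piFinset.2 hA, show (∑ j : Fin N, (j.1 + 1) * (f j).2.1.1) = _ by omega⟩⟩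
    rw [Nat.odd_iff]
    omega
  have h1 : ((labSet' F N D free).card : ℝ) ≤ ∑ β ∈ P, K * q ^ ((N - W β) / 2) := by
    rw [Finset.card_eq_sum_card_fiberwise fun f hf => (hmap f hf).1]
    push_cast
    refine Finset.sum_le_sum fun β _ => le_trans (Nat.cast_le.2 ?_) (hcoef _)
    refine Finset.card_le_card_of_injOn (fun f j => (f j).2) (fun f hf => ?_) fun f hf f' hf' h => ?_
    · rw [Finset.mem_coe, Finset.mem_filter] at hf
      obtain ⟨hf, rfl⟩ := hf
      exact (hmap f hf).2
    · rw [Finset.mem_coe, Finset.mem_filter] at hf hf'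
      funext j
      exact Prod.ext (congrFun (hf.2.trans hf'.2.symm) j) (congrFun h j)
  have h2 : ∀ β ∈ P, x * q ^ ((N - W β) / 2) ≤ q ^ n * x ^ W β := by
    intro β hβ
    obtain ⟨-, ⟨s, hs⟩, hle⟩ := Finset.mem_filter.1 hβ
    rw [hs, show (N - (2 * s + 1)) / 2 = n - s by omega]
    have h : (1 : ℝ) ≤ q ^ s * (x ^ 2) ^ s := by rw [← mul_pow]; exact one_le_pow₀ hqx
    calc x * q ^ (n - s) ≤ x * q ^ (n - s) * (q ^ s * (x ^ 2) ^ s) := le_mul_of_one_le_right (by positivity) h
      _ = q ^ (n - s + s) * x ^ (2 * s + 1) := by rw [pow_add q, pow_succ x (2 * s), pow_mul]; ring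
      _ = _ := by rw [Nat.sub_add_cancel (by omega)]
  have hT : ∀ y : ℝ, ∏ j ∈ range N, ∑ β ∈ D j, y ^ ((j + 1) * w4 β) =
      ∑ β ∈ Fintype.piFinset (fun j : Fin N => D j.1), y ^ W β := by
    intro y
    rw [← Fin.prod_univ_eq_prod_range (fun j => ∑ β ∈ D j, y ^ ((j + 1) * w4 β)) N, Finset.prod_univ_sum]
    exact Finset.sum_congr rfl fun β _ => (Finset.prod_pow_eq_pow_sum _ _ _)
  have h3 : 2 * ∑ β ∈ P, x ^ W β ≤ ∏ j ∈ range N, ∑ β ∈ D j, x ^ ((j + 1) * w4 β) := by
    have hle : 2 * ∑ β ∈ P, x ^ W β ≤ (∑ β ∈ Fintype.piFinset (fun j : Fin N => D j.1), x ^ W β) -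
        ∑ β ∈ Fintype.piFinset (fun j : Fin N => D j.1), (-x) ^ W β := by
      rw [Finset.mul_sum, ← Finset.sum_sub_distrib]
      refine (Finset.sum_le_sum fun β hβ => le_of_eq ?_).trans
        (Finset.sum_le_sum_of_subset_of_nonneg (Finset.filter_subset _ _) fun β _ _ => ?_)
      · rw [(Finset.mem_filter.1 hβ).2.1.neg_pow]; ring
      · rcases Nat.even_or_odd (W β) with he | ho
        · rw [he.neg_pow, sub_self]
        · rw [ho.neg_pow, sub_neg_eq_add]; positivity
    rw [← hT, ← hT] at hle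
    have := Finset.prod_nonneg (s := range N) fun j _ => hneg j
    linarith
  calc 2 * x * ((labSet' F N D free).card : ℝ) ≤ 2 * x * ∑ β ∈ P, K * q ^ ((N - W β) / 2) := by gcongr
    _ = 2 * K * ∑ β ∈ P, x * q ^ ((N - W β) / 2) := by simp only [Finset.mul_sum]; congr 1; funext β; ring
    _ ≤ 2 * K * ∑ β ∈ P, q ^ n * x ^ W β := mul_le_mul_of_nonneg_left (Finset.sum_le_sum h2) (by positivity)
    _ = K * q ^ n * (2 * ∑ β ∈ P, x ^ W β) := by simp only [Finset.mul_sum]; congr 1; funext β; ring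
    _ ≤ _ := mul_le_mul_of_nonneg_left h3 (by positivity)

theorem sum_oddBits_pow (y : ℝ) (j : ℕ) :
    ∑ β ∈ oddBits j, y ^ ((j + 1) * w4 β) = if Even j then (1 + y ^ (j + 1)) ^ 4 else 1 := by
  unfold oddBits
  split_ifs
  · rw [← sum_bits_pow]
    exact Finset.sum_congr rfl fun b _ => by rw [pow_mul]
  · simp [w4, bsum]

theorem sum_pairBits_pow (y : ℝ) (j : ℕ) :
    ∑ β ∈ pairBits j, y ^ ((j + 1) * w4 β) = if Even j then (1 + y ^ (j + 1)) ^ 2 else 1 := by
  unfold pairBits
  split_ifs
  · rw [Finset.sum_product]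
    simp [w4, bsum]
    ring
  · simp [w4, bsum]

theorem prod_even_le {x α K : ℝ} (hx : 0 ≤ x) (hα : 0 ≤ α) (hK : 0 ≤ K) (hxα : x ^ 2 * (1 + α) ≤ α)
    (hbase : (1 + x ^ 3) * (1 + x ^ 5) * (1 + x ^ 7) ≤ K * (1 - α * x ^ 7)) (p n : ℕ) :
    ∏ j ∈ range (2 * n + 1), (if Even j then (1 + x ^ (j + 1)) ^ p else 1) ≤ ((1 + x) * K) ^ p := by
  rw [Finset.prod_range_succ', prod_range_two_mul, mul_pow]
  have h1 : ∀ k, ¬ Even (2 * k + 1) := fun k => Nat.not_even_two_mul_add_one k
  have h2 : ∀ k, Even (2 * k + 1 + 1) := fun k => ⟨k + 1, by ring⟩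
  simp only [h1, h2, if_false, if_true, Finset.prod_const_one, one_mul, zero_add, pow_one, Even.zero,
    Finset.prod_pow]
  rw [mul_comm]
  refine mul_le_mul_of_nonneg_left (pow_le_pow_left₀ (Finset.prod_nonneg fun k _ => by positivity) ?_ p) (by positivity)
  exact tail_le hx hα hK hxα hbase n

/-- All labels, five elements or more. -/
theorem labSet_five_le (hq : 5 ≤ Fintype.card F) (n : ℕ) :
    5 * ((labSet' F (2 * n + 1) oddBits false).card : ℝ) ≤ 73 * (Fintype.card F : ℝ) ^ n := by
  classical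
  have hq5 : (5 : ℝ) ≤ Fintype.card F := by exact_mod_cast hq
  have h := card_labSet'_le F (n := n) oddBits false zero_le_one le_rfl (by omega) (fun e => ?_)
    (x := 4473 / 10000) (by norm_num) (by nlinarith) fun j => by
      rw [sum_oddBits_pow]; split_ifs <;> positivity
  · simp only [sum_oddBits_pow] at h
    have hb := prod_even_le (x := (4473 / 10000 : ℝ)) (α := 26 / 100) (K := 1115 / 1000) (by norm_num) (by norm_num)
      (by norm_num) (by norm_num) (by norm_num) 4 n
    have hqn : (0 : ℝ) ≤ (Fintype.card F : ℝ) ^ n := by positivity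
    have h' := h.trans (mul_le_mul_of_nonneg_left hb (by positivity))
    norm_num at h'
    linarith
  · calc (((coefSet F (2 * n + 1) false 0).filter fun c => c.1.1 = e).card : ℝ) ≤ ((Fintype.card F ^ e : ℕ) : ℝ) := by
          simpa [coefSet] using (Nat.cast_le (α := ℝ)).2 (card_coef_le F (2 * n + 1) e)
      _ ≤ _ := by push_cast; split_ifs <;> simp

/-- All labels and the restricted ones, three elements. -/
theorem labSet_three_le (hq : Fintype.card F = 3) (h2 : (2 : F) ≠ 0) (n : ℕ) :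
    5 * (((labSet' F (2 * n + 1) oddBits false).card : ℝ) +
      6 * (labSet' F (2 * n + 1) pairBits true).card) ≤ 292 * (3 : ℝ) ^ n := by
  classical
  have hq3 : (3 : ℝ) = Fintype.card F := by rw [hq]; norm_num
  have h := card_labSet'_le F (n := n) oddBits false zero_le_one le_rfl (by omega) (fun e => ?_)
    (x := 57736 / 100000) (by norm_num) (by rw [← hq3]; norm_num) fun j => by
      rw [sum_oddBits_pow]; split_ifs <;> positivity
  · have h' := card_labSet'_le F (n := n) pairBits true (a := 4 / 9) (b := 5 / 9) (by norm_num) (by norm_num)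
      (by omega) (fun e => by rw [← hq3]; exact card_free_le hq h2 e) (x := 57736 / 100000) (by norm_num)
      (by rw [← hq3]; norm_num) fun j => by
        rw [sum_pairBits_pow]; split_ifs <;> positivity
    simp only [sum_oddBits_pow] at h
    simp only [sum_pairBits_pow] at h'
    rw [← hq3] at h h'
    have hb : ∀ p, _ := fun p => prod_even_le (x := (57736 / 100000 : ℝ)) (α := 51 / 100) (K := 13105 / 10000)
      (by norm_num) (by norm_num) (by norm_num) (by norm_num) (by norm_num) p n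
    have hqn : (0 : ℝ) ≤ 3 ^ n := by positivity
    have a1 := h.trans (mul_le_mul_of_nonneg_left (hb 4) (by positivity))
    have a2 := h'.trans (mul_le_mul_of_nonneg_left (hb 2) (by positivity))
    norm_num at a1 a2
    linarith
  · calc (((coefSet F (2 * n + 1) false 0).filter fun c => c.1.1 = e).card : ℝ) ≤ ((Fintype.card F ^ e : ℕ) : ℝ) := by
          simpa [coefSet] using (Nat.cast_le (α := ℝ)).2 (card_coef_le F (2 * n + 1) e)
      _ ≤ _ := by push_cast; split_ifs <;> simp

end H44.Cls
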