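import Mathlib
import Cfsg.Agent.H44.Cls.Cover

/-! Isometries all of whose signed pieces have one discriminant. -/

set_option autoImplicit false

namespace H44.Cls

open Polynomial

universe u

variable {F : Type u} [Field F] {ε : F}

namespace Tri

/-- A signed elementary divisor splits off as an orthogonal summand. -/
theorem exists_piece (h2 : (2 : F) ≠ 0) (hε : ε * ε = 1) {x : F[X] × ℕ} (hD : IsD ε x) {T : Tri F ε}
    (hx : x ∈ T.ed) : ∃ P R : Tri F ε, T.Eqv (P.sum R) ∧ P.ed = {x} := by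
  classical
  suffices ∀ N, ∀ T : Tri F ε, wt T.ed = N → x ∈ T.ed → ∃ P R : Tri F ε, T.Eqv (P.sum R) ∧ P.ed = {x} from
    this _ T rfl hx
  clear hx T
  intro N
  induction N using Nat.strong_induction_on with
  | _ N ih =>
  intro T hN hx
  obtain ⟨φ, i⟩ := x
  obtain ⟨hφ, hsg⟩ := hD
  obtain ⟨c, hc, rfl⟩ : ∃ c, c * c = 1 ∧ φ = X - C c := hφ.elim (fun h => ⟨1, one_mul 1, h⟩) fun h => ⟨-1, by ring, h⟩
  let E := (T.ed.toFinset.filter fun y => y.1 = X - C c).image Prod.snd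
  have hiE : i ∈ E := Finset.mem_image.2 ⟨_, Finset.mem_filter.2 ⟨Multiset.mem_toFinset.2 hx, rfl⟩, rfl⟩
  have hne : E.Nonempty := ⟨i, hiE⟩
  set m := E.max' hne
  have hM : T.Max (X - C c) m := by
    obtain ⟨y, hy, hym⟩ := Finset.mem_image.1 (E.max'_mem hne)
    obtain ⟨hy1, hy2⟩ := Finset.mem_filter.1 hy
    refine ⟨?_, fun e he => E.le_max' e
      (Finset.mem_image.2 ⟨(X - C c, e), Finset.mem_filter.2 ⟨Multiset.mem_toFinset.2 he, rfl⟩, rfl⟩)⟩
    rw [show (X - C c, m) = y from Prod.ext hy2.symm hym.symm]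
    exact Multiset.mem_toFinset.1 hy1
  have recp : ∀ {T1 T2 : Tri F ε}, T.Eqv (T1.sum T2) → T.ed = T1.ed + T2.ed → (X - C c, m) ∈ T1.ed →
      (X - C c, i) ∉ T1.ed → ∃ P R : Tri F ε, T.Eqv (P.sum R) ∧ P.ed = {(X - C c, i)} := by
    intro T1 T2 he hed hmem hnot
    have hx2 : (X - C c, i) ∈ T2.ed := (Multiset.mem_add.1 (hed ▸ hx)).resolve_left hnot
    have := wt_pos hmem (irreducible_X_sub_C c) (T1.ed_prop hmem).2.2
    obtain ⟨P, R, h1, h2'⟩ := ih _ (by rw [← hN, hed, wt_add]; omega) T2 rfl hx2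
    exact ⟨P, T1.sum R, he.trans (((Eqv.refl T1).sum h1).trans (sum_comm_left _ _ _)), h2'⟩
  by_cases hsm : SgnOK ε m
  · obtain ⟨T1, T2, v1, he, hed, hed1, -⟩ := split_cyc h2 hε hM (rp_X_sub_C hc) (fun _ _ _ => hsm)
    by_cases hmi : m = i
    · exact ⟨T1, T2, he, by rw [hed1, hmi]⟩
    · refine recp he hed (by rw [hed1]; simp) ?_
      rw [hed1, Multiset.mem_singleton]
      exact fun h => hmi (congrArg Prod.snd h).symm
  · obtain ⟨T1, T2, v1, w1, he, hed, hed1, -⟩ := split_two h2 hε hc hM hsm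
    refine recp he hed (by rw [hed1]; simp) ?_
    rw [hed1]
    simp only [Multiset.insert_eq_cons, Multiset.mem_cons, Multiset.mem_singleton, or_self]
    intro h
    have hi : i = m := congrArg Prod.snd h
    exact hsm (hi ▸ hsg)

/-- All signed pieces have discriminant `δ`. -/
def Uni (T : Tri F (1 : F)) (δ : ℤ) : Prop :=
  ∀ (P R : Tri F (1 : F)) (x : F[X] × ℕ), T.Eqv (P.sum R) → IsD 1 x → P.ed = {x} → P.chi = δ

theorem Uni.rest {T P R : Tri F (1 : F)} {δ : ℤ} (h : Uni T δ) (he : T.Eqv (P.sum R)) : Uni R δ :=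
  fun Q S x hQ => h Q (P.sum S) x (he.trans (((Eqv.refl P).sum hQ).trans (sum_comm_left _ _ _)))

theorem odd_finrank_piece (h2 : (2 : F) ≠ 0) {P : Tri F (1 : F)} {x : F[X] × ℕ} (hD : IsD 1 x)
    (hP : P.ed = {x}) : Odd (Module.finrank F P.V) := by
  have hi : 0 < x.2 := (P.ed_prop (x := x) (by rw [hP]; simp)).2.2
  have hdeg : x.1.natDegree = 1 := by rcases hD.1 with h | h <;> rw [h, natDegree_X_sub_C]
  rw [← P.wt_ed, hP]
  simpa [wt, hdeg] using odd_of_sgnOK h2 hi hD.2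

theorem chi_scale_odd [Finite F] {ν : F} (hν : ν ≠ 0) (hq : qc ν = -1) {T : Tri F ε}
    (h : Odd (Module.finrank F T.V)) : (T.scale hν).chi = - T.chi := by
  obtain ⟨k, hk⟩ := h
  rw [chi_scale, hk, pow_succ, qc_mul (pow_ne_zero _ hν) hν, hq, pow_mul, sq,
    show qc ((ν * ν) ^ k) = 1 from if_pos ((IsSquare.mul_self ν).pow k)]
  ring

theorem qc_inv {ν : F} : qc ν⁻¹ = qc ν := by
  classical
  simp only [qc, isSquare_inv]

variable [Finite F]

theorem eqv_of_small (h2 : (2 : F) ≠ 0) {T T' : Tri F (1 : F)} (hed : T.ed = T'.ed) (hc : T.chi = T'.chi)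
    (hs : (sgnSet (1 : F) T.ed).card ≤ 1) : T.Eqv T' := by
  obtain ⟨L, hL, hlen⟩ := (exists_covers h2 (one_mul 1) T.ed).2 rfl T.chi
  rw [show (sgnSet (1 : F) T.ed).card - 1 = 0 by omega, pow_zero] at hlen
  obtain ⟨r, hr, her⟩ := hL T rfl rfl
  obtain ⟨r', hr', her'⟩ := hL T' hed.symm hc.symm
  obtain rfl : r = r' := by
    match L, hlen, hr, hr' with
    | [a], _, hr, hr' => rw [List.mem_singleton.1 hr, List.mem_singleton.1 hr']
  exact her.trans her'.symm

theorem piece_eqv (h2 : (2 : F) ≠ 0) {P P' : Tri F (1 : F)} {x : F[X] × ℕ} (hP : P.ed = {x})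
    (hP' : P'.ed = {x}) (hc : P.chi = P'.chi) : P.Eqv P' :=
  eqv_of_small h2 (hP.trans hP'.symm) hc (by
    refine Finset.card_le_one.2 fun a ha b hb => ?_
    rw [mem_sgnSet, hP, Multiset.mem_singleton] at ha hb
    rw [ha.1, hb.1])

open Classical in
theorem Uni.count_le_one (h2 : (2 : F) ≠ 0) {T : Tri F (1 : F)} {δ : ℤ} (h : Uni T δ) {x : F[X] × ℕ}
    (hD : IsD 1 x) : T.ed.count x ≤ 1 := by
  by_contra hcon
  push Not at hcon
  obtain ⟨P, R, he, hP⟩ := exists_piece h2 (one_mul 1) hD (T := T) (Multiset.count_pos.1 (by omega))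
  have hR : x ∈ R.ed := by
    rw [← Multiset.count_pos]
    rw [he.ed_eq, ed_sum, Multiset.count_add, hP, Multiset.count_singleton_self] at hcon
    omega
  obtain ⟨P', R', he', hP'⟩ := exists_piece h2 (one_mul 1) hD hR
  have c1 := h P R x he hD hP
  have c2 := (h.rest he) P' R' x he' hD hP'
  have hPP' := piece_eqv h2 hP' hP (c2.trans c1.symm)
  cases nonempty_fintype F
  obtain ⟨ν, hν⟩ := FiniteField.exists_nonsquare (F := F) fun h0 => h2 (by
    have := ringChar.Nat.cast_ringChar (R := F)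
    rw [h0] at this
    exact_mod_cast this)
  have hν0 : ν ≠ 0 := fun h0 => hν (h0 ▸ IsSquare.zero)
  obtain ⟨a, b, hab⟩ := FiniteField.exists_root_sum_quadratic (R := F) (f := X ^ 2) (g := X ^ 2 - C ν)
    (degree_X_pow 2) (degree_X_pow_sub_C two_pos _) (FiniteField.odd_card_of_char_ne_two fun h0 => h2 (by
      have := ringChar.Nat.cast_ringChar (R := F)
      rw [h0] at this
      exact_mod_cast this))
  have hab' : a * a + b * b = ν := by
    simp only [eval_pow, eval_X, eval_sub, eval_C] at hab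
    linear_combination hab
  have e : T.Eqv ((P.scale hν0).sum ((P.scale hν0).sum R')) :=
    he.trans (((Eqv.refl P).sum (he'.trans (hPP'.sum (Eqv.refl R')))).trans ((sum_assoc _ _ _).symm.trans
      (((P.sum_scale_eqv hν0 hab').symm.sum (Eqv.refl R')).trans (sum_assoc _ _ _))))
  have c3 := h _ _ x e hD ((scale_ed hν0).trans hP)
  rw [chi_scale_odd hν0 (if_neg hν) (odd_finrank_piece h2 hD hP), c1] at c3
  have := chi_mul_self P
  rw [c1] at this
  rcases Int.mul_eq_one_iff_eq_one_or_neg_one.1 this with h0 | h0 <;> omega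

theorem eqv_of_uni_same (h2 : (2 : F) ≠ 0) {T T' : Tri F (1 : F)} {δ : ℤ} (h : Uni T δ) (h' : Uni T' δ)
    (hed : T.ed = T'.ed) : T.Eqv T' := by
  classical
  suffices ∀ N, ∀ T T' : Tri F (1 : F), wt T.ed = N → Uni T δ → Uni T' δ → T.ed = T'.ed → T.Eqv T' from
    this _ T T' rfl h h' hed
  clear h h' hed T T'
  intro N
  induction N using Nat.strong_induction_on with
  | _ N ih =>
  intro T T' hN h h' hed
  rcases (sgnSet (1 : F) T.ed).eq_empty_or_nonempty with h0 | ⟨x, hx⟩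
  · obtain ⟨L, hL, hlen⟩ := (exists_covers h2 (one_mul 1) T.ed).1
    rw [h0, Finset.card_empty, pow_zero] at hlen
    obtain ⟨r, hr, her⟩ := hL T rfl
    obtain ⟨r', hr', her'⟩ := hL T' hed.symm
    obtain rfl : r = r' := by
      match L, hlen, hr, hr' with
      | [a], _, hr, hr' => rw [List.mem_singleton.1 hr, List.mem_singleton.1 hr']
    exact her.trans her'.symm
  rw [mem_sgnSet] at hx
  obtain ⟨P, R, he, hP⟩ := exists_piece h2 (one_mul 1) hx.2 hx.1
  obtain ⟨P', R', he', hP'⟩ := exists_piece h2 (one_mul 1) hx.2 (hed ▸ hx.1)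
  have hPP' := piece_eqv h2 hP hP' ((h P R x he hx.2 hP).trans (h' P' R' x he' hx.2 hP').symm)
  have e1 := he.ed_eq
  have e2 := he'.ed_eq
  rw [ed_sum, hP] at e1
  rw [ed_sum, hP'] at e2
  have hRR : R.ed = R'.ed := add_left_cancel (e1.symm.trans (hed.trans e2))
  have hlt : wt R.ed < N := by
    rw [← hN, e1, wt_add]
    have := wt_pos (Multiset.mem_singleton_self x) (T.ed_prop hx.1).2.1 (T.ed_prop hx.1).2.2
    omega
  exact he.trans ((hPP'.sum (ih _ hlt R R' rfl (h.rest he) (h'.rest he') hRR)).trans he'.symm)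

theorem Uni.scale (h2 : (2 : F) ≠ 0) {T : Tri F (1 : F)} {δ : ℤ} (h : Uni T δ) {ν : F} (hν : ν ≠ 0)
    (hq : qc ν = -1) : Uni (T.scale hν) (-δ) := by
  intro P R x he hD hP
  obtain ⟨e, h1, h2'⟩ := he
  have hν' := inv_ne_zero hν
  have key : T.Eqv ((P.scale hν').sum (R.scale hν')) := by
    refine ⟨e, h1, fun a b => ?_⟩
    have := h2' a b
    change P.B (e a).1 (e b).1 + R.B (e a).2 (e b).2 = ν * T.B a b at this
    show ν⁻¹ * P.B (e a).1 (e b).1 + ν⁻¹ * R.B (e a).2 (e b).2 = _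
    rw [← mul_add, this, ← mul_assoc, inv_mul_cancel₀ hν, one_mul]
  have := h _ _ x key hD ((scale_ed hν').trans hP)
  rw [chi_scale_odd hν' (by rw [qc_inv, hq]) (odd_finrank_piece h2 hD hP)] at this
  omega

/-- The elementary divisors and the discriminant determine such an isometry in odd dimension. -/
theorem eqv_of_uni (h2 : (2 : F) ≠ 0) {T T' : Tri F (1 : F)} {δ δ' : ℤ} (hδ : δ = 1 ∨ δ = -1)
    (hδ' : δ' = 1 ∨ δ' = -1) (h : Uni T δ) (h' : Uni T' δ') (hodd : Odd (Module.finrank F T.V))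
    (hed : T.ed = T'.ed) (hc : T.chi = T'.chi) : T.Eqv T' := by
  by_cases hd : δ = δ'
  · exact eqv_of_uni_same h2 h (hd ▸ h') hed
  exfalso
  cases nonempty_fintype F
  obtain ⟨ν, hν⟩ := FiniteField.exists_nonsquare (F := F) fun h0 => h2 (by
    have := ringChar.Nat.cast_ringChar (R := F)
    rw [h0] at this
    exact_mod_cast this)
  have hν0 : ν ≠ 0 := fun h0 => hν (h0 ▸ IsSquare.zero)
  have e := eqv_of_uni_same h2 (Uni.scale h2 h hν0 (if_neg hν)) ((show δ' = -δ by omega) ▸ h')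
    ((scale_ed hν0).trans hed)
  have := e.chi_eq
  rw [chi_scale_odd hν0 (if_neg hν) hodd, ← hc] at this
  have hz : T.chi = 0 := by omega
  have h1 := T.chi_mul_self
  rw [hz] at h1
  omega

end Tri

end H44.Cls
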