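import Mathlib
import Cfsg.Agent.H43.Omega
import Cfsg.Agent.H44.Omega
import Cfsg.Agent.H44.Cls.IndexTwo
import Cfsg.Agent.H44.Cls.Pieces
import Cfsg.Agent.H44.Cls.LabelOdd

/-! The classes of an orthogonal group of odd dimension and of its derived group, `q` odd. -/

set_option autoImplicit false

namespace H44.Cls

open Polynomial H43

universe u

variable {F : Type u} [Field F] {V : Type u} [AddCommGroup V] [Module F V] [FiniteDimensional F V]
  {Q : QuadraticForm F V}

/-- An isometry as a bundle. -/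
noncomputable def trOrth (hQ : (polB Q).Nondegenerate) (g : orthGroup Q) : Tri F (1 : F) where
  V := V
  B := polB Q
  g := (g.1 : V →ₗ[F] V)
  sym x y := by rw [one_mul]; exact polB_comm y x
  nd := hQ.1
  iso x y := by
    show polB Q (g.1 x) (g.1 y) = _
    rw [polB_apply, polB_apply, QuadraticMap.polar, QuadraticMap.polar, ← map_add, g.2, g.2, g.2]

variable (hQ : (polB Q).Nondegenerate) (h2 : (2 : F) ≠ 0)

include h2 in
omit [FiniteDimensional F V] in
theorem mem_orth_of_B (E : V ≃ₗ[F] V) (h : ∀ x, polB Q (E x) (E x) = polB Q x x) : E ∈ orthGroup Q := by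
  intro x
  have := h x
  rw [polB_self, polB_self] at this
  exact mul_left_cancel₀ h2 this

include h2 in
theorem isConj_of_eqv {g h : orthGroup Q} (he : (trOrth hQ g).Eqv (trOrth hQ h)) : IsConj g h := by
  obtain ⟨e, h1, h2'⟩ := he
  refine isConj_iff.2 ⟨⟨e, mem_orth_of_B h2 e fun x => h2' x x⟩, ?_⟩
  rw [mul_inv_eq_iff_eq_mul]
  exact orth_ext fun x => h1 x

/-- Elements of determinant one commuting with `g` have trivial spinor norm. -/
def SplitO (g : orthGroup Q) : Prop := ∀ h ∈ specialOrth Q, h * g = g * h → spinor h = 1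

variable [Finite F]

include h2 in
/-- Minus one on an invariant summand. -/
theorem exists_flip {g : orthGroup Q} {P R : Tri F (1 : F)} (he : (trOrth hQ g).Eqv (P.sum R)) :
    ∃ u : orthGroup Q, u * g = g * u ∧ detHom Q u = (-1) ^ Module.finrank F P.V ∧
      spinor u = sqc ((2 : F)⁻¹ ^ Module.finrank F P.V * (P.gram (Module.finBasis F P.V)).det) := by
  obtain ⟨e, h1, h2'⟩ := he
  let e' : V ≃ₗ[F] P.V × R.V := e
  have h1' : ∀ x, e' (g.1 x) = (P.g (e' x).1, R.g (e' x).2) := h1
  have h2'' : ∀ x y, P.B (e' x).1 (e' y).1 + R.B (e' x).2 (e' y).2 = polB Q x y := h2'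
  let f : V ≃ₗ[F] V := e'.trans ((LinearEquiv.prodCongr (LinearEquiv.neg F) (LinearEquiv.refl F R.V)).trans e'.symm)
  have hf : ∀ x, e' (f x) = (-(e' x).1, (e' x).2) := fun x => e'.apply_symm_apply _
  let u : orthGroup Q := ⟨f, mem_orth_of_B h2 f fun x => by
    rw [← h2'', ← h2'', hf]
    simp⟩
  refine ⟨u, orth_ext fun x => e'.injective ?_, Units.ext ?_, ?_⟩
  · show e' (f (g.1 x)) = e' (g.1 (f x))
    rw [hf, h1', h1', hf, map_neg]
  · rw [coe_detHom, Units.val_pow_eq_pow_val, Units.val_neg, Units.val_one]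
    have : (f : V →ₗ[F] V) = e'.symm.conj ((-LinearMap.id : P.V →ₗ[F] P.V).prodMap LinearMap.id) :=
      LinearMap.ext fun x => rfl
    show LinearMap.det (f : V →ₗ[F] V) = _
    rw [this, LinearEquiv.conj_apply, LinearMap.comp_assoc, LinearMap.det_conj, LinearMap.det_prodMap, LinearMap.det_id, mul_one,
      show (-LinearMap.id : P.V →ₗ[F] P.V) = (-1 : F) • LinearMap.id by simp, LinearMap.det_smul,
      LinearMap.det_id, mul_one]
  · set b := Module.finBasis F P.V
    let us : Fin (Module.finrank F P.V) → V := fun i => e'.symm (b i, 0)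
    let ws : Fin (Module.finrank F P.V) → V := fun i => e'.symm ((2 : F)⁻¹ • b i, 0)
    have hres : ∀ x, e' (resMap u x) = ((e' x).1 + (e' x).1, 0) := fun x => by
      show e' (x - f x) = _
      rw [map_sub, hf]
      simp [Prod.ext_iff]
    have hw : ∀ i, resMap u (ws i) = us i := fun i => e'.injective (by
      rw [hres]
      simp only [ws, us, e'.apply_symm_apply, ← add_smul, ← two_mul, mul_inv_cancel₀ h2, one_smul])
    have hind : LinearIndependent F us :=
      (b.linearIndependent.map' (LinearMap.inl F P.V R.V) (LinearMap.ker_eq_bot.2 LinearMap.inl_injective)).map'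
        (e'.symm : P.V × R.V →ₗ[F] V) e'.symm.ker
    have hspan : Submodule.span F (Set.range us) = resid u := by
      refine le_antisymm (Submodule.span_le.2 ?_) ?_
      · rintro _ ⟨i, rfl⟩
        exact ⟨ws i, hw i⟩
      · rintro _ ⟨x, rfl⟩
        have : resMap u x = (e'.symm : P.V × R.V →ₗ[F] V).comp (LinearMap.inl F P.V R.V) ((e' x).1 + (e' x).1) :=
          e'.injective (by rw [hres]; simp)
        rw [this, show Set.range us = (e'.symm : P.V × R.V →ₗ[F] V).comp (LinearMap.inl F P.V R.V) '' Set.range b from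
          (Set.range_comp ((e'.symm : P.V × R.V →ₗ[F] V).comp (LinearMap.inl F P.V R.V)) b).symm ▸ rfl,
          Submodule.span_image, b.span_eq]
        exact Submodule.mem_map_of_mem Submodule.mem_top
    rw [spinor, ← sqc_wallDisc_of_family hQ u us ws hind hspan hw]
    congr 1
    rw [show (Matrix.of fun i j => polB Q (ws i) (us j)) = (2 : F)⁻¹ • P.gram b by
      ext i j
      rw [Matrix.of_apply, ← h2'']
      simp [ws, us, Tri.gram], Matrix.det_smul, Fintype.card_fin]

include h2 in
theorem exists_uni {g : orthGroup Q} (hg : SplitO g) :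
    ∃ δ : ℤ, (δ = 1 ∨ δ = -1) ∧ (trOrth hQ g).Uni δ := by
  classical
  by_cases hex : ∃ (P R : Tri F (1 : F)) (x : F[X] × ℕ), (trOrth hQ g).Eqv (P.sum R) ∧ IsD 1 x ∧ P.ed = {x}
  swap
  · exact ⟨1, Or.inl rfl, fun P R x he hD hP => absurd ⟨P, R, x, he, hD, hP⟩ hex⟩
  obtain ⟨P, R, x, he, hD, hP⟩ := hex
  refine ⟨P.chi, qc_cases _, fun P' R' x' he' hD' hP' => ?_⟩
  obtain ⟨u, hu, hud, hus⟩ := exists_flip hQ h2 he
  obtain ⟨u', hu', hud', hus'⟩ := exists_flip hQ h2 he'
  obtain ⟨k, hk⟩ := Tri.odd_finrank_piece h2 hD hP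
  obtain ⟨k', hk'⟩ := Tri.odd_finrank_piece h2 hD' hP'
  have h := hg (u * u') (by
    rw [mem_specialOrth, map_mul, hud, hud', ← pow_add, hk, hk']
    exact Even.neg_one_pow ⟨k + k' + 1, by ring⟩) (by
    rw [mul_assoc, hu', ← mul_assoc, hu, mul_assoc])
  have h2n : ∀ m, (2 : F)⁻¹ ^ m ≠ 0 := fun m => pow_ne_zero m (inv_ne_zero h2)
  have n1 := P.gram_det_ne (Module.finBasis F P.V)
  have n2 := P'.gram_det_ne (Module.finBasis F P'.V)
  rw [H44.spinor_mul hQ (reflGenerates_of_two_ne_zero h2), hus, hus',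
    ← sqc_mul (mul_ne_zero (h2n _) n1) (mul_ne_zero (h2n _) n2),
    sqc_eq_one_iff (mul_ne_zero (mul_ne_zero (h2n _) n1) (mul_ne_zero (h2n _) n2))] at h
  have hsq : IsSquare ((P.gram (Module.finBasis F P.V)).det * (P'.gram (Module.finBasis F P'.V)).det) := by
    obtain ⟨r, hr⟩ := h
    refine ⟨r / (2 : F)⁻¹ ^ (k + k' + 1), ?_⟩
    rw [div_mul_div_comm, ← hr, eq_div_iff (mul_ne_zero (h2n _) (h2n _))]
    generalize (P.gram (Module.finBasis F P.V)).det = a
    generalize (P'.gram (Module.finBasis F P'.V)).det = b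
    rw [hk, hk']
    ring
  have hq : qc ((P.gram (Module.finBasis F P.V)).det * (P'.gram (Module.finBasis F P'.V)).det) = 1 := if_pos hsq
  rw [qc_mul n1 n2] at hq
  change P.chi * P'.chi = 1 at hq
  rcases Int.mul_eq_one_iff_eq_one_or_neg_one.1 hq with h0 | h0 <;> omega

variable {n : ℕ} (hN : Module.finrank F V = 2 * n + 1)

omit [Finite F] in
theorem sgnSet_nonempty (h2 : (2 : F) ≠ 0) {T : Tri F (1 : F)} (hT : Odd (Module.finrank F T.V)) :
    (sgnSet (1 : F) T.ed).Nonempty := by
  classical
  by_contra h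
  rw [Finset.not_nonempty_iff_eq_empty] at h
  have hs := sum_weights T rfl
  refine Nat.not_even_iff_odd.2 hT ?_
  rw [← hs]
  refine Finset.even_sum _ fun j _ => Even.mul_left ?_ _
  rw [deg_at h2 (one_mul 1) T (Finset.empty_subset _)]
  have hz : lblBits (ε := (1 : F)) T.ed ∅ (j.1 + 1) = ((false, false), (false, false)) := by
    unfold lblBits
    split_ifs with hsg
    · have hc : ∀ p : F[X], (p = X - C 1 ∨ p = X - C (-1)) → T.ed.count (p, j.1 + 1) = 0 := fun p hp =>
        Multiset.count_eq_zero_of_notMem fun hmem => by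
          have : (p, j.1 + 1) ∈ sgnSet (1 : F) T.ed := mem_sgnSet.2 ⟨hmem, hp, hsg⟩
          simp [h] at this
      rw [hc _ (Or.inl rfl), hc _ (Or.inr rfl)]
      simp [bitsOf]
    · rfl
  rw [hz]
  simp only [bsum, Bool.toNat_false, add_zero, zero_add]
  exact (lblFac_pal h2 (one_mul 1) T (Finset.empty_subset _) _).even

variable [Fintype F]

include hQ hN h2 in
/-- Twice the class number of the orthogonal group is at most the number of labels. -/
theorem two_classes_le_labels :
    2 * Nat.card (ConjClasses (orthGroup Q)) ≤ (labSet' F (2 * n + 1) oddBits false).card := by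
  classical
  haveI : Finite V := Module.finite_of_finite F
  haveI := finite_orthGroup (Q := Q)
  cases nonempty_fintype (orthGroup Q)
  set N := 2 * n + 1
  set tr := trOrth hQ
  have hdim : ∀ g, Module.finrank F (tr g).V = N := fun g => hN
  let S : Finset (Multiset (F[X] × ℕ)) := Finset.univ.image fun g => (tr g).ed
  have hrep : ∀ s : S, ∃ g, (tr g).ed = s.1 := fun s => by
    obtain ⟨g, -, hg⟩ := Finset.mem_image.1 s.2
    exact ⟨g, hg⟩
  choose rep hrepe using hrep
  choose L hL hLlen using fun s : S => (exists_covers (ε := (1 : F)) h2 (one_mul 1) s.1).2 rfl (tr 1).chi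
  have key : ∀ c : ConjClasses (orthGroup Q), ∃ (g : orthGroup Q) (p : Σ s : S, Fin (L s).length),
      ConjClasses.mk g = c ∧ (tr g).Eqv ((L p.1).get p.2) := fun c => by
    obtain ⟨g, rfl⟩ := ConjClasses.exists_rep c
    obtain ⟨r, hr, he⟩ := hL ⟨(tr g).ed, Finset.mem_image.2 ⟨g, Finset.mem_univ g, rfl⟩⟩ (tr g) rfl rfl
    obtain ⟨k, hk⟩ := List.get_of_mem hr
    exact ⟨g, ⟨⟨(tr g).ed, Finset.mem_image.2 ⟨g, Finset.mem_univ g, rfl⟩⟩, k⟩, rfl, hk ▸ he⟩
  choose gc pc hgc hpc using key
  have h1 : Nat.card (ConjClasses (orthGroup Q)) ≤ ∑ s : S, 2 ^ ((sgnSet (1 : F) s.1).card - 1) := by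
    refine (Nat.card_le_card_of_injective pc fun c c' h => ?_).trans ?_
    · rw [← hgc c, ← hgc c', ConjClasses.mk_eq_mk_iff_isConj]
      refine isConj_of_eqv hQ h2 ((hpc c).trans ?_)
      rw [h]
      exact (hpc c').symm
    · rw [Nat.card_sigma]
      exact Finset.sum_le_sum fun s _ => by rw [Nat.card_fin]; exact hLlen s
  have h3 : ∑ s : S, 2 ^ (sgnSet (1 : F) s.1).card ≤ (labSet' F N oddBits false).card := by
    rw [show ∑ s : S, 2 ^ (sgnSet (1 : F) s.1).card =
        (Finset.univ.sigma fun s : S => (sgnSet (1 : F) s.1).powerset).card by simp]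
    refine Finset.card_le_card_of_injOn (fun x => lab N (tr (rep x.1)) x.2) ?_ ?_
    · intro x hx
      rw [Finset.mem_coe, Finset.mem_sigma, Finset.mem_powerset] at hx
      simp only [labSet', Finset.coe_filter, Finset.mem_univ, true_and, Set.mem_ofPred_eq]
      refine ⟨lab_mem h2 _ (hdim _) (by rw [hrepe]; exact hx.2) _ fun j => ?_, fun j => by simp [coefSet]⟩
      unfold oddBits
      by_cases hj : Even j
      · rw [if_pos hj]; exact Finset.mem_univ _
      · rw [if_neg hj, Finset.mem_singleton, lblBits, if_neg fun h => hj ((sgnOK_one_iff h2 j).1 h)]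
    · rintro ⟨s, A⟩ hx ⟨s', A'⟩ hx' h
      rw [Finset.mem_coe, Finset.mem_sigma, Finset.mem_powerset] at hx hx'
      obtain ⟨he, rfl⟩ := lab_injective h2 (hdim _) (hdim _) (by rw [hrepe]; exact hx.2) (by rw [hrepe]; exact hx'.2) h
      rw [hrepe, hrepe] at he
      obtain rfl : s = s' := Subtype.ext he
      rfl
  refine le_trans (Nat.mul_le_mul_left 2 h1) (le_trans ?_ h3)
  rw [Finset.mul_sum]
  refine Finset.sum_le_sum fun s _ => ?_
  have hpos : 0 < (sgnSet (1 : F) s.1).card := by
    rw [← hrepe s, Finset.card_pos]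
    exact sgnSet_nonempty h2 (by rw [hdim]; exact ⟨n, rfl⟩)
  rw [← pow_succ', show (sgnSet (1 : F) s.1).card - 1 + 1 = (sgnSet (1 : F) s.1).card by omega]

include hQ hN h2 in
/-- The classes with centralisers inside the spinor kernel have restricted labels. -/
theorem card_splitO_le :
    Nat.card {c : ConjClasses (orthGroup Q) // ∃ g, ConjClasses.mk g = c ∧ SplitO g} ≤
      (labSet' F (2 * n + 1) pairBits true).card := by
  classical
  set N := 2 * n + 1
  set tr := trOrth hQ
  have hdim : ∀ g, Module.finrank F (tr g).V = N := fun g => hN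
  choose gc hgc hsp using fun c : {c : ConjClasses (orthGroup Q) // ∃ g, ConjClasses.mk g = c ∧ SplitO g} => c.2
  choose δ hδ huni using fun c => exists_uni hQ h2 (hsp c)
  let lc := fun c => lab N (tr (gc c)) (sgnSet (1 : F) (tr (gc c)).ed)
  have hmem : ∀ c, lc c ∈ labSet' F N pairBits true := fun c => by
    set T := tr (gc c)
    have hle : ∀ x : F[X] × ℕ, IsD 1 x → T.ed.count x ≤ 1 := fun x hx => Tri.Uni.count_le_one h2 (huni c) hx
    have hbit : ∀ i (p : F[X]), (p = X - C 1 ∨ p = X - C (-1)) → Tri.SgnOK (1 : F) i →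
        bitsOf (T.ed.count (p, i)) ((p, i) ∈ sgnSet (1 : F) T.ed) =
          (decide (T.ed.count (p, i) = 1), false) := by
      intro i p hp hsg
      have h1 := hle (p, i) ⟨hp, hsg⟩
      by_cases h0 : T.ed.count (p, i) = 0
      · have : (p, i) ∉ sgnSet (1 : F) T.ed := fun h => (Multiset.count_pos.2 (mem_sgnSet.1 h).1).ne' h0
        simp [bitsOf, h0, this]
      · have h' : T.ed.count (p, i) = 1 := by omega
        have : (p, i) ∈ sgnSet (1 : F) T.ed :=
          mem_sgnSet.2 ⟨Multiset.count_pos.1 (by omega), hp, hsg⟩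
        simp [bitsOf, h', this]
    simp only [labSet', Finset.mem_filter, Finset.mem_univ, true_and]
    refine ⟨lab_mem h2 T (hdim _) subset_rfl _ fun j => ?_, fun j => ?_⟩
    · unfold pairBits
      by_cases hj : Even j
      · rw [if_pos hj, lblBits, if_pos ((sgnOK_one_iff h2 j).2 hj), hbit _ _ (Or.inl rfl) ((sgnOK_one_iff h2 j).2 hj),
          hbit _ _ (Or.inr rfl) ((sgnOK_one_iff h2 j).2 hj)]
        simp
        tauto
      · rw [if_neg hj, Finset.mem_singleton, lblBits, if_neg fun h => hj ((sgnOK_one_iff h2 j).1 h)]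
    · by_cases hj : j.1 = 0
      swap
      · simp [coefSet, hj]
      simp only [coefSet, hj, and_self, if_true, Finset.mem_filter, Finset.mem_univ, true_and]
      have hA : sgnSet (1 : F) T.ed ⊆ sgnSet (1 : F) T.ed := subset_rfl
      set M := lblFac (1 : F) T.ed (sgnSet (1 : F) T.ed) (j.1 + 1) with hM
      have hsg : Tri.SgnOK (1 : F) (j.1 + 1) := (sgnOK_one_iff h2 j.1).2 (hj ▸ Even.zero)
      have hP := lblFac_pal h2 (one_mul 1) T hA (j.1 + 1)
      rw [← hM] at hP
      have hcount : ∀ p : F[X], (p = X - C 1 ∨ p = X - C (-1)) → M.count p = 0 := by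
        intro p hp
        rw [hM, count_lblFac h2, lblBits, if_pos hsg]
        have h1 := hle (p, j.1 + 1) ⟨hp, hsg⟩
        rcases hp with rfl | rfl
        · rw [if_pos rfl, hbit _ _ (Or.inl rfl) hsg]
          by_cases h' : T.ed.count (X - C 1, j.1 + 1) = 1 <;>
            simp only [bsum, h', decide_true, decide_false, Bool.toNat_true, Bool.toNat_false] <;> omega
        · rw [if_neg (one_ne_neg_one h2).symm, if_pos rfl, hbit _ _ (Or.inr rfl) hsg]
          by_cases h' : T.ed.count (X - C (-1), j.1 + 1) = 1 <;>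
            simp only [bsum, h', decide_true, decide_false, Bool.toNat_true, Bool.toNat_false] <;> omega
      have hne : ∀ a : F, (a = 1 ∨ a = -1) → M.prod.eval a ≠ 0 := by
        intro a ha h
        rw [← IsRoot.def, ← dvd_iff_isRoot] at h
        obtain ⟨p, hp, hd⟩ := (prime_X_sub_C a).exists_mem_multiset_dvd h
        obtain ⟨hm, hirr, -⟩ := lblFac_prop h2 (one_mul 1) T hA _ (hM ▸ hp)
        have hpa : p = X - C a := Polynomial.eq_of_monic_of_associated hm (monic_X_sub_C a)
          ((irreducible_X_sub_C a).associated_of_dvd hirr hd).symm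
        refine (Multiset.count_pos.2 hp).ne' (hcount p ?_)
        rcases ha with rfl | rfl
        · exact Or.inl hpa
        · exact Or.inr hpa
      obtain ⟨d, hd⟩ := hP.even
      have hdeg : M.prod.natDegree ≤ N := by
        have hs := sum_weights T (hdim (gc c))
        have hle' := (Finset.single_le_sum (f := fun k : Fin N =>
          (k.1 + 1) * ((T.ed.filter fun x => x.2 = k.1 + 1).map fun x => x.1.natDegree).sum)
          (fun k _ => Nat.zero_le _) (Finset.mem_univ j)).trans_eq hs
        rw [deg_at h2 (one_mul 1) T hA, ← hM] at hle'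
        have := (Nat.le_mul_of_pos_left _ (Nat.succ_pos j.1)).trans hle'
        omega
      show Free (lc c j).2
      have he : palPoly (lc c j).2.2 = M.prod := by
        obtain ⟨hW, hWd, hWc⟩ := palPoly_prop (lc c j).2.2
        exact hW.ext hP hWd (show M.prod.natDegree = 2 * min N (M.prod.natDegree / 2) by omega) hWc
      rw [Free, he]
      exact mul_ne_zero (hne 1 (Or.inl rfl)) (hne (-1) (Or.inr rfl))
  refine (Nat.card_le_card_of_injective (fun c => (⟨lc c, hmem c⟩ : labSet' F N pairBits true)) fun c c' h => ?_).trans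
    (le_of_eq (Nat.card_eq_finsetCard _))
  have hl : lc c = lc c' := congrArg Subtype.val h
  obtain ⟨hed, -⟩ := lab_injective h2 (hdim _) (hdim _) subset_rfl subset_rfl hl
  apply Subtype.ext
  rw [← hgc c, ← hgc c', ConjClasses.mk_eq_mk_iff_isConj]
  exact isConj_of_eqv hQ h2 (Tri.eqv_of_uni h2 (hδ c) (hδ c') (huni c) (huni c')
    (by rw [hdim]; exact ⟨n, rfl⟩) hed rfl)

/-- A one dimensional space with the identity. -/
def lineTri (e : F) (he : e ≠ 0) : Tri F (1 : F) where
  V := F
  B := LinearMap.mk₂ F (fun x y => e * (x * y)) (fun a b x => by ring) (fun r a x => by simp; ring)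
    (fun a x y => by ring) (fun r a x => by simp; ring)
  g := LinearMap.id
  sym x y := by simp only [LinearMap.mk₂_apply]; ring
  nd x hx := by simpa [he] using hx 1
  iso x y := rfl

omit [Fintype F] in
theorem lineTri_chi (e : F) (he : e ≠ 0) : (lineTri e he).chi = qc e := by
  let b : Module.Basis (Fin 1) F (lineTri e he).V := Module.Basis.singleton (Fin 1) F
  have hg : (lineTri e he).gram b = Matrix.diagonal fun _ => e := by
    ext i j
    fin_cases i; fin_cases j
    show e * ((Module.Basis.singleton (Fin 1) F) 0 * (Module.Basis.singleton (Fin 1) F) 0) = _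
    simp
  rw [(lineTri e he).chi_eq b, hg, Matrix.det_diagonal]
  simp

omit [Finite F] [Fintype F] in
theorem lineTri_charpoly (e : F) (he : e ≠ 0) : (lineTri e he).g.charpoly = X - C 1 := by
  show (LinearMap.id : F →ₗ[F] F).charpoly = _
  rw [show (LinearMap.id : F →ₗ[F] F) = 1 from rfl, LinearMap.charpoly_one, Module.finrank_self, pow_one, C_1]

include hQ hN h2 in
/-- One class of the special orthogonal group for each palindromic polynomial. -/
theorem card_pow_le_classes : Fintype.card F ^ n ≤ Nat.card (ConjClasses (specialOrth Q)) := by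
  classical
  haveI : Finite V := Module.finite_of_finite F
  haveI := finite_orthGroup (Q := Q)
  set tr := trOrth hQ
  have hd1 : (tr 1).chi = 1 ∨ (tr 1).chi = -1 := qc_cases _
  have hreal : ∀ P : PalDeg F n, ∃ g : specialOrth Q, (tr g.1).g.charpoly = (X - C 1) * P.1 := by
    rintro ⟨P, hP, hPd⟩
    obtain ⟨d', hd', T, hT, hTd⟩ : ∃ d' : ℤ, (d' = 1 ∨ d' = -1) ∧
        ∃ T : Tri F (1 : F), T.g.charpoly = P ∧ T.chi = d' := by
      by_cases hz : P.eval 1 * P.eval (-1) = 0
      · exact ⟨1, Or.inl rfl, exists_tri h2 hP hPd 1 (Or.inl rfl) (Or.inl hz)⟩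
      · have hk : qc (P.eval 1 * P.eval (-1)) * kappa F n = 1 ∨ qc (P.eval 1 * P.eval (-1)) * kappa F n = -1 := by
          rcases qc_cases (P.eval 1 * P.eval (-1)) with a | a <;>
            rcases qc_cases (Matrix.J (Fin n) F).det with b | b <;> simp [kappa, a, b]
        exact ⟨_, hk, exists_tri h2 hP hPd _ hk (Or.inr rfl)⟩
    obtain ⟨e0, he0, hqe⟩ : ∃ e : F, e ≠ 0 ∧ qc e = (tr 1).chi * d' := by
      obtain ⟨ν, hν0, hν⟩ := exists_nonsquare' h2
      have h1 : qc (1 : F) = 1 := if_pos IsSquare.one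
      rcases hd1 with a | a <;> rcases hd' with rfl | rfl <;> rw [a]
      · exact ⟨1, one_ne_zero, by rw [h1]; rfl⟩
      · exact ⟨ν, hν0, by rw [hν]; rfl⟩
      · exact ⟨ν, hν0, by rw [hν]; rfl⟩
      · exact ⟨1, one_ne_zero, by rw [h1]; rfl⟩
    set T' := (lineTri e0 he0).sum T
    have hcp : T'.g.charpoly = (X - C 1) * P := by rw [charpoly_sum, lineTri_charpoly, hT]
    have hdeg : ((X - C (1 : F)) * P).natDegree = 2 * n + 1 := by
      rw [(monic_X_sub_C 1).natDegree_mul hP.monic, natDegree_X_sub_C, hPd, add_comm]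
    obtain ⟨E, hE⟩ := exists_isometry h2 T' (tr 1)
      (by rw [finrank_eq_natDegree, hcp, hdeg]; exact hN.symm)
      (by rw [Tri.chi_sum, lineTri_chi, hqe, hTd, mul_assoc]; rcases hd' with rfl | rfl <;> simp)
    let g : V ≃ₗ[F] V := E.symm.trans ((LinearEquiv.ofInjectiveEndo T'.g T'.g_injective).trans E)
    have hg : g ∈ orthGroup Q := mem_orth_of_B h2 g fun x => by
      refine (hE (T'.g (E.symm x)) (T'.g (E.symm x))).trans ?_
      rw [T'.iso, ← hE (E.symm x) (E.symm x)]
      exact congrArg₂ (fun a b => polB Q a b) (E.apply_symm_apply x) (E.apply_symm_apply x)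
    have hge : ((g : V ≃ₗ[F] V) : V →ₗ[F] V) = E.conj T'.g := LinearMap.ext fun x => rfl
    refine ⟨⟨⟨g, hg⟩, mem_specialOrth.2 (Units.ext ?_)⟩, ?_⟩
    · rw [coe_detHom, Units.val_one]
      show LinearMap.det (g : V →ₗ[F] V) = 1
      rw [hge]
      refine (LinearMap.det_eq_sign_charpoly_coeff (M := (tr 1).V) (E.conj T'.g)).trans ?_
      rw [show Module.finrank F (tr 1).V = 2 * n + 1 from hN]
      have : (E.conj T'.g).charpoly = (X - C 1) * P := (LinearEquiv.charpoly_conj E T'.g).trans hcp
      rw [this, mul_coeff_zero, ← hP.rev, coeff_zero_reverse, hP.monic.leadingCoeff,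
        (odd_two_mul_add_one n).neg_one_pow]
      simp
    · show ((g : V →ₗ[F] V)).charpoly = _
      rw [hge]
      exact (LinearEquiv.charpoly_conj E T'.g).trans hcp
  choose gP hgP using hreal
  have hc : Nat.card (PalDeg F n) = Fintype.card F ^ n := by
    rw [Nat.card_congr (palEquiv n), Nat.card_eq_fintype_card, Fintype.card_fun, Fintype.card_fin]
  rw [← hc]
  refine Nat.card_le_card_of_injective (fun P => ConjClasses.mk (gP P)) fun P R h => ?_
  obtain ⟨c, hc⟩ := isConj_iff.1 (ConjClasses.mk_eq_mk_iff_isConj.1 h)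
  have e : ((gP R).1.1 : V →ₗ[F] V) = c.1.1.conj ((gP P).1.1 : V →ₗ[F] V) := by
    rw [← hc]
    exact LinearMap.ext fun x => rfl
  have hcp : (tr (gP R).1).g.charpoly = (tr (gP P).1).g.charpoly :=
    (congrArg LinearMap.charpoly e).trans (LinearEquiv.charpoly_conj _ _)
  rw [hgP, hgP] at hcp
  exact Subtype.ext (mul_left_cancel₀ (monic_X_sub_C (1 : F)).ne_zero hcp.symm)

include hQ hN h2 in
/-- The bounds for the class number of the spinor kernel. -/
theorem spinor_ker_bounds (hn : 1 ≤ n) :
    Fintype.card F ^ n ≤ 2 * Nat.card (ConjClasses (spinorSO hQ (reflGenerates_of_two_ne_zero h2)).ker) ∧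
      10 * Nat.card (ConjClasses (spinorSO hQ (reflGenerates_of_two_ne_zero h2)).ker) ≤ 73 * Fintype.card F ^ n := by
  classical
  haveI : Finite V := Module.finite_of_finite F
  haveI := finite_orthGroup (Q := Q)
  cases nonempty_fintype (specialOrth Q)
  set H := (spinorSO hQ (reflGenerates_of_two_ne_zero h2)).ker with hH
  have hidx : H.index = 2 := spinorSO_index hQ h2 (by omega)
  obtain ⟨b1, b2, -⟩ := H27.class_number_bounds H
  rw [hidx] at b1 b2
  refine ⟨(card_pow_le_classes hQ h2 hN).trans b2, ?_⟩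
  have hdet : ∀ x : orthGroup Q, detHom Q (negOrth Q * x) = - detHom Q x := fun x => by
    rw [map_mul, detHom_negOrth, hN, (odd_two_mul_add_one n).neg_one_pow, neg_one_mul]
  have hcomm : ∀ x : orthGroup Q, negOrth Q * x = x * negOrth Q := fun x => orth_ext fun v => (map_neg x.1 v).symm
  have hne : (-1 : Fˣ) ≠ 1 := fun h => h2 (by
    have := congrArg Units.val h; simp at this; linear_combination -this)
  let sg : Bool → orthGroup Q := fun s => if s then negOrth Q else 1
  let rep : ConjClasses (specialOrth Q) → specialOrth Q := fun c =>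
    if h : c ∈ SplitClasses H then h.choose else (ConjClasses.exists_rep c).choose
  have hrep : ∀ c, ConjClasses.mk (rep c) = c := fun c => by
    simp only [rep]
    split_ifs with h
    · exact h.choose_spec.1
    · exact (ConjClasses.exists_rep c).choose_spec
  let φ : ConjClasses (specialOrth Q) × Bool → ConjClasses (orthGroup Q) := fun p =>
    ConjClasses.mk (sg p.2 * (rep p.1).1)
  have hφ : Function.Injective φ := by
    rintro ⟨c, s⟩ ⟨c', s'⟩ h
    obtain ⟨k, hk⟩ := isConj_iff.1 (ConjClasses.mk_eq_mk_iff_isConj.1 h)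
    have hd := congrArg (detHom Q) hk
    rw [map_mul, map_mul, map_inv, mul_comm (detHom Q k), mul_inv_cancel_right] at hd
    have d1 : ∀ c, detHom Q (rep c).1 = 1 := fun c => mem_specialOrth.1 (rep c).2
    obtain rfl : s = s' := by
      cases s <;> cases s'
      · rfl
      · simp only [sg, Bool.false_eq_true, if_false, if_true, one_mul, hdet, d1] at hd
        exact absurd hd.symm hne
      · simp only [sg, Bool.false_eq_true, if_false, if_true, one_mul, hdet, d1] at hd
        exact absurd hd hne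
      · rfl
    have hcon : k * (rep c).1 * k⁻¹ = (rep c').1 := by
      have hsc : k * sg s = sg s * k := by
        cases s
        · simp [sg]
        · simp only [sg, if_true]; exact (hcomm k).symm
      rw [← mul_assoc k, hsc, mul_assoc (sg s), mul_assoc (sg s)] at hk
      exact mul_left_cancel hk
    have hs : ∃ k' : specialOrth Q, k'.1 * (rep c).1 * k'.1⁻¹ = (rep c').1 := by
      rcases detHom_cases hQ k with hk1 | hk1
      · exact ⟨⟨k, mem_specialOrth.2 hk1⟩, hcon⟩
      · refine ⟨⟨negOrth Q * k, mem_specialOrth.2 (by rw [hdet, hk1, neg_neg])⟩, ?_⟩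
        show negOrth Q * k * (rep c).1 * (negOrth Q * k)⁻¹ = _
        rw [mul_inv_rev, mul_assoc, mul_assoc, ← mul_assoc (rep c).1, ← mul_assoc k, ← mul_assoc k, hcon,
          ← mul_assoc, hcomm, mul_inv_cancel_right]
    obtain ⟨k', hk'⟩ := hs
    refine Prod.ext ?_ rfl
    rw [← hrep c, ← hrep c', ConjClasses.mk_eq_mk_iff_isConj]
    exact isConj_iff.2 ⟨k', Subtype.ext hk'⟩
  have hG : 2 * Nat.card (ConjClasses (specialOrth Q)) ≤ Nat.card (ConjClasses (orthGroup Q)) := by
    refine le_trans (le_of_eq ?_) (Nat.card_le_card_of_injective φ hφ)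
    rw [Nat.card_prod, Nat.card_eq_fintype_card (α := Bool), Fintype.card_bool, mul_comm]
  have hS : 2 * Nat.card (SplitClasses H) ≤
      Nat.card {c : ConjClasses (orthGroup Q) // ∃ g, ConjClasses.mk g = c ∧ SplitO g} := by
    refine le_trans (le_of_eq ?_) (Nat.card_le_card_of_injective
      (fun p : SplitClasses H × Bool => (⟨φ (p.1.1, p.2), _, rfl, ?_⟩ :
        {c : ConjClasses (orthGroup Q) // ∃ g, ConjClasses.mk g = c ∧ SplitO g})) fun p p' h => ?_)
    · rw [Nat.card_prod, Nat.card_eq_fintype_card (α := Bool), Fintype.card_bool, mul_comm]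
    · intro h hh hcommh
      have hx : Subgroup.centralizer ({rep p.1.1} : Set (specialOrth Q)) ≤ H := by
        simp only [rep, dif_pos p.1.2]
        exact p.1.2.choose_spec.2
      have hmem : (⟨h, hh⟩ : specialOrth Q) ∈ Subgroup.centralizer ({rep p.1.1} : Set (specialOrth Q)) := by
        refine Subgroup.mem_centralizer_singleton_iff.2 (Subtype.ext ?_)
        show h * (rep p.1.1).1 = (rep p.1.1).1 * h
        rcases hb : p.2 with _ | _
        · simpa [sg, hb] using hcommh
        · simp only [sg, hb, if_true] at hcommh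
          rw [← mul_assoc, ← hcomm h, mul_assoc, mul_assoc] at hcommh
          exact mul_left_cancel hcommh
      exact MonoidHom.mem_ker.1 (hx hmem)
    · have := hφ (congrArg Subtype.val h)
      obtain ⟨e1, e2⟩ := Prod.mk.inj this
      exact Prod.ext (Subtype.ext e1) e2
  have hO := two_classes_le_labels hQ h2 hN
  have hsp := card_splitO_le hQ h2 hN
  have h2H := two_mul_classes_index_two H hidx
  have hodd : Odd (Fintype.card F) := Nat.odd_iff.2 <| FiniteField.odd_card_of_char_ne_two (F := F) fun h => h2 (by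
    have := ringChar.Nat.cast_ringChar (R := F)
    rw [h] at this
    exact_mod_cast this)
  have h3 : 3 ≤ Fintype.card F := by
    have := Fintype.one_lt_card (α := F)
    obtain ⟨k, hk⟩ := hodd
    omega
  by_cases hq : Fintype.card F = 3
  · have hl := labSet_three_le F hq h2 n
    have : ((5 * ((labSet' F (2 * n + 1) oddBits false).card + 6 * (labSet' F (2 * n + 1) pairBits true).card) : ℕ) : ℝ)
        ≤ ((292 * 3 ^ n : ℕ) : ℝ) := by push_cast; exact hl
    rw [Nat.cast_le] at this
    rw [hq]
    omega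
  · have hl := labSet_five_le F (n := n) (by obtain ⟨k, hk⟩ := hodd; omega)
    have : ((5 * (labSet' F (2 * n + 1) oddBits false).card : ℕ) : ℝ) ≤ ((73 * Fintype.card F ^ n : ℕ) : ℝ) := by
      push_cast; exact hl
    rw [Nat.cast_le] at this
    omega

end H44.Cls
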