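import Mathlib
import Cfsg.Agent.H44.Cls.Target

/-! The standard forms of plus and minus type. -/

set_option autoImplicit false

namespace H44.Cls

variable {F : Type*} [Field F] [Fintype F]

open LinearMap in
/-- The bounds for the hyperbolic form. -/
theorem plus_class_bounds (hodd : Odd (Fintype.card F)) {n : ℕ} (hn : 2 ≤ n) :
    Fintype.card F ^ n ≤ 2 * Nat.card (ConjClasses ↥(Cfsg.isometryGroup F (Cfsg.quadFormPlus n F))) ∧
      2 * Nat.card (ConjClasses ↥(Cfsg.isometryGroup F (Cfsg.quadFormPlus n F))) ≤ 19 * Fintype.card F ^ n := by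
  let B : LinearMap.BilinForm F (Fin n ⊕ Fin n → F) :=
    LinearMap.mk₂ F (fun u v => ∑ i : Fin n, (u (.inl i) * v (.inr i) + u (.inr i) * v (.inl i)))
      (fun a b x => by simp only [Pi.add_apply, ← Finset.sum_add_distrib]; congr 1; funext i; ring)
      (fun r a x => by simp only [Pi.smul_apply, smul_eq_mul, Finset.mul_sum]; congr 1; funext i; ring)
      (fun a x y => by simp only [Pi.add_apply, ← Finset.sum_add_distrib]; congr 1; funext i; ring)
      (fun r a x => by simp only [Pi.smul_apply, smul_eq_mul, Finset.mul_sum]; congr 1; funext i; ring)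
  refine quad_class_bounds hodd hn (by simp; omega) _ B (fun x y => ?_) (fun x hx => funext fun j => ?_) fun x => ?_
  · simp only [B, LinearMap.mk₂_apply]
    congr 1; funext i; ring
  · classical
    rcases j with i | i
    · have h := hx (Pi.single (Sum.inr i) 1)
      simpa [B, Pi.single_apply] using h
    · have h := hx (Pi.single (Sum.inl i) 1)
      simpa [B, Pi.single_apply] using h
  · simp only [B, LinearMap.mk₂_apply, Cfsg.quadFormPlus, Finset.mul_sum]
    congr 1; funext i; ring

/-- The bounds for the elliptic form. -/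
theorem minus_class_bounds (hodd : Odd (Fintype.card F)) {n : ℕ} (hn : 2 ≤ n) (a b : F)
    (hab : ∀ z₁ z₂ : F, z₁ ^ 2 + a * z₁ * z₂ + b * z₂ ^ 2 = 0 → z₁ = 0 ∧ z₂ = 0) :
    Fintype.card F ^ n ≤ 2 * Nat.card (ConjClasses ↥(Cfsg.isometryGroup F (Cfsg.quadFormMinus (n - 1) F a b))) ∧
      2 * Nat.card (ConjClasses ↥(Cfsg.isometryGroup F (Cfsg.quadFormMinus (n - 1) F a b))) ≤
        19 * Fintype.card F ^ n := by
  have h2 : (2 : F) ≠ 0 := Ring.two_ne_zero (H44.ringChar_ne_two_of_odd_card hodd)
  have hdet : 4 * b - a * a ≠ 0 := fun h => by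
    obtain ⟨-, h0⟩ := hab (-a) 2 (by linear_combination h)
    exact h2 h0
  let S : (((Fin (n - 1) ⊕ Fin (n - 1)) ⊕ Fin 2) → F) → (((Fin (n - 1) ⊕ Fin (n - 1)) ⊕ Fin 2) → F) → F := fun u v =>
    ∑ i : Fin (n - 1), (u (.inl (.inl i)) * v (.inl (.inr i)) + u (.inl (.inr i)) * v (.inl (.inl i)))
  let T : (((Fin (n - 1) ⊕ Fin (n - 1)) ⊕ Fin 2) → F) → (((Fin (n - 1) ⊕ Fin (n - 1)) ⊕ Fin 2) → F) → F := fun u v =>
    2 * (u (.inr 0) * v (.inr 0)) + a * (u (.inr 0) * v (.inr 1) + u (.inr 1) * v (.inr 0)) +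
      2 * b * (u (.inr 1) * v (.inr 1))
  have addS : ∀ p q x, S (p + q) x = S p x + S q x := fun p q x => by
    simp only [S, Pi.add_apply, ← Finset.sum_add_distrib]; congr 1; funext i; ring
  have smulS : ∀ (r : F) p x, S (r • p) x = r * S p x := fun r p x => by
    simp only [S, Pi.smul_apply, smul_eq_mul, Finset.mul_sum]; congr 1; funext i; ring
  have symS : ∀ p x, S x p = S p x := fun p x => by
    simp only [S]; congr 1; funext i; ring
  let B : LinearMap.BilinForm F (((Fin (n - 1) ⊕ Fin (n - 1)) ⊕ Fin 2) → F) :=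
    LinearMap.mk₂ F (fun u v => S u v + T u v)
      (fun p q x => by rw [addS]; simp only [T, Pi.add_apply]; ring)
      (fun r p x => by rw [smulS]; simp only [T, Pi.smul_apply, smul_eq_mul]; ring)
      (fun x p q => by rw [← symS, addS, symS p, symS q]; simp only [T, Pi.add_apply]; ring)
      (fun r x p => by rw [← symS, smulS, symS p]; simp only [T, Pi.smul_apply, smul_eq_mul]; ring)
  refine quad_class_bounds hodd hn (by simp; omega) _ B (fun x y => ?_) (fun x hx => ?_) fun x => ?_
  · simp only [B, LinearMap.mk₂_apply, T]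
    rw [symS]; ring
  · classical
    have h0 := hx (Pi.single (Sum.inr 0) 1)
    have h1 := hx (Pi.single (Sum.inr 1) 1)
    simp [B, S, T, Pi.single_apply] at h0 h1
    have e1 : (4 * b - a * a) * x (.inr 1) = 0 := by linear_combination 2 * h1 - a * h0
    have z1 := (mul_eq_zero.1 e1).resolve_left hdet
    have e0 : (2 : F) * x (.inr 0) = 0 := by rw [z1] at h0; linear_combination h0
    have z0 := (mul_eq_zero.1 e0).resolve_left h2
    funext j
    rcases j with (i | i) | k
    · have h := hx (Pi.single (Sum.inl (Sum.inr i)) 1)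
      simpa [B, S, T, Pi.single_apply] using h
    · have h := hx (Pi.single (Sum.inl (Sum.inl i)) 1)
      simpa [B, S, T, Pi.single_apply] using h
    · fin_cases k
      · exact z0
      · exact z1
  · simp only [B, LinearMap.mk₂_apply, S, T, Cfsg.quadFormMinus, mul_add, Finset.mul_sum]
    rw [show (∑ i : Fin (n - 1), (x (.inl (.inl i)) * x (.inl (.inr i)) + x (.inl (.inr i)) * x (.inl (.inl i)))) =
      ∑ i : Fin (n - 1), 2 * (x (.inl (.inl i)) * x (.inl (.inr i))) from by congr 1; funext i; ring]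
    ring

end H44.Cls
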